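import Groth.Agent.Lib.RefHull26.Ref1
import Groth.Agent.Lib.Cyc26.C1Tensor
import Groth.Agent.Lib.CohFound.ProjQuot

/-! # Operations on rank one reflexive modules -/

set_option autoImplicit false
universe u

set_option backward.isDefEq.respectTransparency.types false

open CategoryTheory AlgebraicGeometry TopologicalSpace Opposite TensorProduct

namespace Groth.Agent.RH26

variable {X : Scheme.{u}} {F G : X.Modules}

/-- The equivalence from a generator. -/
noncomputable def genEquiv {x : X} {g : F.presheaf.stalk x} (hg : Amp.Gen g) :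
    X.presheaf.stalk x ≃ₗ[X.presheaf.stalk x] F.presheaf.stalk x :=
  LinearEquiv.ofBijective (LinearMap.toSpanSingleton (X.presheaf.stalk x) _ g) hg

theorem genEquiv_apply {x : X} {g : F.presheaf.stalk x} (hg : Amp.Gen g) (r : X.presheaf.stalk x) :
    genEquiv hg r = r • g := rfl

theorem genEquiv_symm_self {x : X} {g : F.presheaf.stalk x} (hg : Amp.Gen g) : (genEquiv hg).symm g = 1 :=
  (LinearEquiv.symm_apply_eq _).2 (by rw [genEquiv_apply, one_smul])

theorem gen_of_equiv {x : X} (e : X.presheaf.stalk x ≃ₗ[X.presheaf.stalk x] F.presheaf.stalk x) :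
    Amp.Gen (e 1) := by
  have h : (fun r => r • e 1) = e := funext fun r => by rw [← map_smul, smul_eq_mul, mul_one]
  show Function.Bijective fun r => r • e 1
  rw [h]
  exact e.bijective

theorem gen_tstalk' {x : X} {a : F.presheaf.stalk x} {b : G.presheaf.stalk x} (ha : Amp.Gen a) (hb : Amp.Gen b) :
    Amp.Gen (Cyc26.tstalk F G x a b) := by
  let e : X.presheaf.stalk x ≃ₗ[X.presheaf.stalk x] (CohB1.tensorMod F G).presheaf.stalk x :=
    (TensorProduct.lid (X.presheaf.stalk x) (X.presheaf.stalk x)).symm.trans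
      ((TensorProduct.congr (genEquiv ha) (genEquiv hb)).trans (Groth.Agent.M2.stalkEquiv F G x).symm)
  have h1 : e 1 = Cyc26.tstalk F G x a b := by
    simp [e, Cyc26.tstalk, genEquiv_apply]
  rw [← h1]
  exact gen_of_equiv e

theorem isReflexiveAt_of_gen {x : X} {g : F.presheaf.stalk x} (hg : Amp.Gen g) : RefHull.IsReflexiveAt F x := by
  haveI : Module.Free (X.presheaf.stalk x) (F.presheaf.stalk x) := Module.Free.of_equiv (genEquiv hg)
  haveI : Module.Finite (X.presheaf.stalk x) (F.presheaf.stalk x) := Module.Finite.equiv (genEquiv hg)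
  show Module.IsReflexive (X.presheaf.stalk x) (F.presheaf.stalk x)
  infer_instance

variable [IsLocallyNoetherian X]

theorem gen_bidual (hF : Coh.IsCoh F) {x : X} {g : F.presheaf.stalk x} (hg : Amp.Gen g) :
    Amp.Gen (RefHull.stalkMapₗ (RefHull.bidualMap F) x g) := by
  have hb := (bijective_bidual_stalk_iff hF x).2 (isReflexiveAt_of_gen hg)
  show Function.Bijective fun r => r • RefHull.stalkMapₗ (RefHull.bidualMap F) x g
  simp only [← map_smul]
  exact hb.comp hg

/-- The dual generator. -/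
noncomputable def dualGen (hF : Coh.IsCoh F) {x : X} {g : F.presheaf.stalk x} (hg : Amp.Gen g) :
    (RefHull.dual F).presheaf.stalk x :=
  (dualEquiv hF x).symm (genEquiv hg).symm.toLinearMap

theorem gen_dualGen (hF : Coh.IsCoh F) {x : X} {g : F.presheaf.stalk x} (hg : Amp.Gen g) :
    Amp.Gen (dualGen hF hg) := by
  refine ⟨fun r r' h => ?_, fun θ => ⟨dualEquiv hF x θ g, (dualEquiv hF x).injective (LinearMap.ext fun v => ?_)⟩⟩
  · have h' : r • (genEquiv hg).symm.toLinearMap = r' • (genEquiv hg).symm.toLinearMap := by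
      have := congrArg (dualEquiv hF x) h
      simpa only [dualGen, map_smul, LinearEquiv.apply_symm_apply] using this
    have h'' := LinearMap.congr_fun h' g
    simpa [genEquiv_symm_self] using h''
  · obtain ⟨r, rfl⟩ := hg.2 v
    show dualEquiv hF x (_ • dualGen hF hg) (r • g) = dualEquiv hF x θ (r • g)
    rw [dualGen, map_smul (dualEquiv hF x), LinearEquiv.apply_symm_apply, LinearMap.smul_apply, map_smul, map_smul]
    show _ • r • (genEquiv hg).symm g = r • _
    rw [genEquiv_symm_self, smul_eq_mul, smul_eq_mul, smul_eq_mul, mul_one, mul_comm]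

variable [IsIntegral X]

theorem stalkSpecializes_dualGen (hF : Coh.IsCoh F) {x ξ : X} (h : ξ ⤳ x) {g : F.presheaf.stalk x} (hg : Amp.Gen g)
    (hgξ : Amp.Gen (F.presheaf.stalkSpecializes h g)) :
    (RefHull.dual F).presheaf.stalkSpecializes h (dualGen hF hg) = dualGen hF hgξ := by
  refine (dualEquiv hF ξ).injective (LinearMap.ext fun w => ?_)
  obtain ⟨r, rfl⟩ := hgξ.2 w
  rw [map_smul, map_smul, dualEquiv_stalkSpecializes, dualGen, dualGen, LinearEquiv.apply_symm_apply,
    LinearEquiv.apply_symm_apply]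
  congr 1
  show X.presheaf.stalkSpecializes h ((genEquiv hg).symm g) = (genEquiv hgξ).symm (F.presheaf.stalkSpecializes h g)
  rw [genEquiv_symm_self, genEquiv_symm_self, map_one]

theorem R1.dual (hF : R1 F) : R1 (RefHull.dual F) := by
  obtain ⟨g, hg⟩ := hF.gen
  exact ⟨hF.normal, isCoh_dual hF.coh, closed1_dual hF.normal hF.coh, _, gen_dualGen hF.coh hg⟩

/-- The reflexive hull of a coherent module of rank one. -/
theorem R1.ddual (hX : Pi1.IsNormalScheme X) (hF : Coh.IsCoh F)
    (hg : ∃ g : F.presheaf.stalk (genericPoint X), Amp.Gen g) : R1 (RefHull.ddual F) := by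
  obtain ⟨g, hg⟩ := hg
  exact ⟨hX, isCoh_dual (isCoh_dual hF), closed1_dual hX (isCoh_dual hF), _, gen_bidual hF hg⟩

theorem R1.tensorHull (hF : R1 F) (hG : R1 G) : R1 (RefHull.ddual (CohB1.tensorMod F G)) := by
  obtain ⟨g, hg⟩ := hF.gen
  obtain ⟨g', hg'⟩ := hG.gen
  exact R1.ddual hF.normal (CohFound.isCoh_tensor hF.coh hG.coh) ⟨_, gen_tstalk' hg hg'⟩

theorem R1.structureModule (hX : Pi1.IsNormalScheme X) : R1 (Coh.structureModule X) :=
  ⟨hX, M1.isCoh_structureModule X, closed1_structure hX, _, gen_of_equiv (str (genericPoint X))⟩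

/-- The product of two values, in the reflexive hull of the tensor product. -/
noncomputable def pr (F G : X.Modules) (a : F.presheaf.stalk (genericPoint X)) (b : G.presheaf.stalk (genericPoint X)) :
    (RefHull.ddual (CohB1.tensorMod F G)).presheaf.stalk (genericPoint X) :=
  RefHull.stalkMapₗ (RefHull.bidualMap (CohB1.tensorMod F G)) (genericPoint X) (Cyc26.tstalk F G _ a b)

theorem pr_smul (φ ψ : X.functionField) (a : F.presheaf.stalk (genericPoint X))
    (b : G.presheaf.stalk (genericPoint X)) : pr F G (φ • a) (ψ • b) = (φ * ψ) • pr F G a b := by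
  rw [pr, pr, ← map_smul]
  exact congrArg _ (Cyc26.tstalk_smul (genericPoint X) φ ψ a b)

theorem R1.pr_spec (hF : R1 F) (hG : R1 G) {a : F.presheaf.stalk (genericPoint X)} (ha : a ≠ 0)
    {b : G.presheaf.stalk (genericPoint X)} (hb : b ≠ 0) :
    pr F G a b ≠ 0 ∧ ∀ x : X, Order.coheight x = 1 →
      ordv (RefHull.ddual (CohB1.tensorMod F G)) x (pr F G a b) = ordv F x a + ordv G x b := by
  have hT := CohFound.isCoh_tensor hF.coh hG.coh
  constructor
  · obtain ⟨g, hg⟩ := hF.gen
    obtain ⟨g', hg'⟩ := hG.gen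
    obtain ⟨k, rfl⟩ := hg.2 a
    obtain ⟨l, rfl⟩ := hg'.2 b
    have hk : k ≠ 0 := fun h => ha (by rw [h]; exact zero_smul _ g)
    have hl : l ≠ 0 := fun h => hb (by rw [h]; exact zero_smul _ g')
    intro h0
    rw [show pr F G (k • g) (l • g') = _ from pr_smul k l g g'] at h0
    exact mul_ne_zero (M₀ := X.functionField) hk hl ((gen_bidual hT (gen_tstalk' hg hg')).1
      (h0.trans (zero_smul (X.presheaf.stalk (genericPoint X)) _).symm))
  intro x hx
  obtain ⟨g, hg, hgη⟩ := hF.gen_one hx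
  obtain ⟨g', hg', hgη'⟩ := hG.gen_one hx
  obtain ⟨φ, hφ, rfl⟩ := exists_rep_η hgη ha
  obtain ⟨ψ, hψ, rfl⟩ := exists_rep_η hgη' hb
  have hgen := gen_bidual hT (gen_tstalk' hg hg')
  have hsp : (RefHull.ddual (CohB1.tensorMod F G)).presheaf.stalkSpecializes (gsp x)
      (RefHull.stalkMapₗ (RefHull.bidualMap (CohB1.tensorMod F G)) x (Cyc26.tstalk F G x g g')) =
      pr F G (F.presheaf.stalkSpecializes (gsp x) g) (G.presheaf.stalkSpecializes (gsp x) g') := by
    rw [stalkMapₗ_stalkSpecializes, Cyc26.tstalk_stalkSpecializes]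
    rfl
  have hgenη := gen_bidual hT (gen_tstalk' hgη hgη')
  rw [pr_smul, ordv_gen hx hg hgη hφ, ordv_gen hx hg' hgη' hψ, ← hsp,
    ordv_gen hx hgen (by rw [hsp]; exact hgenη) (mul_ne_zero hφ hψ), Scheme.ord_mul hφ hψ]

theorem R1.dual_spec (hF : R1 F) {a : F.presheaf.stalk (genericPoint X)} (ha : a ≠ 0) :
    ∃ w : (RefHull.dual F).presheaf.stalk (genericPoint X), w ≠ 0 ∧ ∀ x : X, Order.coheight x = 1 →
      ordv (RefHull.dual F) x w = - ordv F x a := by
  obtain ⟨g, hg⟩ := hF.gen
  obtain ⟨k, rfl⟩ := hg.2 a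
  simp only at ha ⊢
  have hk : k ≠ 0 := fun h => ha (by rw [h]; exact zero_smul _ g)
  obtain ⟨c, hc⟩ := (isField_η (X := X)).mul_inv_cancel hk
  have hga : Amp.Gen (k • g) := (hg.ne_zero_smul k).2 (IsUnit.of_mul_eq_one _ hc)
  refine ⟨dualGen hF.coh hga, fun h0 => zero_ne_one (α := X.presheaf.stalk (genericPoint X))
    ((gen_dualGen hF.coh hga).1 (by show (0 : X.presheaf.stalk (genericPoint X)) • _ = (1 : X.presheaf.stalk (genericPoint X)) • _; rw [h0, smul_zero, smul_zero])), fun x hx => ?_⟩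
  obtain ⟨g₁, hg₁, hgη⟩ := hF.gen_one hx
  obtain ⟨ψ, hψ, he⟩ := exists_rep_η hgη ha
  obtain ⟨ψi, hψi⟩ := (isField_η (X := X)).mul_inv_cancel hψ
  replace hψi : (ψ : X.functionField) * ψi = 1 := hψi
  have hψi0 : (ψi : X.functionField) ≠ 0 := fun h0 => by rw [h0, mul_zero] at hψi; exact zero_ne_one hψi
  have hw : dualGen hF.coh hga = (ψi : X.functionField) • (RefHull.dual F).presheaf.stalkSpecializes (gsp x) (dualGen hF.coh hg₁) := by
    rw [stalkSpecializes_dualGen hF.coh (gsp x) hg₁ hgη]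
    refine (dualEquiv hF.coh _).injective (LinearMap.ext fun v => ?_)
    obtain ⟨r, rfl⟩ := hgη.2 v
    rw [map_smul (dualEquiv hF.coh _) ψi, LinearMap.smul_apply, dualGen, dualGen, LinearEquiv.apply_symm_apply,
      LinearEquiv.apply_symm_apply, map_smul, map_smul]
    have h1 : (genEquiv hga).symm (F.presheaf.stalkSpecializes (gsp x) g₁) = ψi := by
      refine (LinearEquiv.symm_apply_eq _).2 ?_
      rw [genEquiv_apply]
      show _ = ψi • (k • g)
      rw [show k • g = (ψ : X.presheaf.stalk (genericPoint X)) • F.presheaf.stalkSpecializes (gsp x) g₁ from he,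
        ← mul_smul, mul_comm, show (ψ : X.presheaf.stalk (genericPoint X)) * ψi = 1 from hψi, one_smul]
    show r • (genEquiv hga).symm (F.presheaf.stalkSpecializes (gsp x) g₁) =
      ψi • r • (genEquiv hgη).symm (F.presheaf.stalkSpecializes (gsp x) g₁)
    rw [h1, genEquiv_symm_self, smul_eq_mul, smul_eq_mul, smul_eq_mul, mul_one, mul_comm]
  have hgd : Amp.Gen ((RefHull.dual F).presheaf.stalkSpecializes (gsp x) (dualGen hF.coh hg₁)) := by
    rw [stalkSpecializes_dualGen hF.coh (gsp x) hg₁ hgη]; exact gen_dualGen hF.coh hgη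
  have h := Scheme.ord_mul (x := x) hψ hψi0
  rw [hψi, ord_one] at h
  rw [hw, ordv_gen hx (gen_dualGen hF.coh hg₁) hgd hψi0, show k • g = (ψ : X.functionField) • F.presheaf.stalkSpecializes (gsp x) g₁ from he,
    ordv_gen hx hg₁ hgη hψ]
  omega

end Groth.Agent.RH26
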