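import Groth.Agent.Lib.RefHull26.Free
import Groth.Agent.Lib.DPerf.Locus

/-! # Extension from big open subschemes -/

set_option autoImplicit false
universe u

set_option backward.isDefEq.respectTransparency.types false

open CategoryTheory AlgebraicGeometry TopologicalSpace Opposite

namespace Groth.Agent.RH26

variable {X : Scheme.{u}} {F : X.Modules}

theorem isOpen_free_stalk (hF : CohB1.IsFP F) :
    IsOpen {x : X | Module.Free (X.presheaf.stalk x) (F.presheaf.stalk x)} := by
  haveI := M1.isFP_isQCoh hF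
  refine isOpen_iff_forall_mem_open.2 fun x hx => ?_
  obtain ⟨U, hU, hxU, -⟩ := exists_isAffineOpen_mem_and_subset (x := x) (U := (⊤ : X.Opens)) trivial
  haveI := M1.finitePresentation_sections hF hU
  have key : ∀ (z : X) (hz : z ∈ U), hU.primeIdealOf ⟨z, hz⟩ ∈ Module.freeLocus Γ(X, U) Γ(F, U) ↔
      Module.Free (X.presheaf.stalk z) (F.presheaf.stalk z) := fun z hz => by
    letI := M1.stalkModule F hz
    haveI := M1.isLocalizedModule_germ F hU hz
    let := TopCat.Presheaf.algebra_section_stalk X.presheaf (⟨z, hz⟩ : U)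
    haveI := hU.isLocalization_stalk ⟨z, hz⟩
    haveI : IsScalarTower Γ(X, U) (X.presheaf.stalk z) (F.presheaf.stalk z) :=
      IsScalarTower.of_algebraMap_smul fun _ _ => rfl
    exact Module.mem_freeLocus_of_isLocalization (hU.primeIdealOf ⟨z, hz⟩) (X.presheaf.stalk z)
      (F.presheaf.stalk z) (M1.germₗ F hz)
  have ho : IsOpen {z : U | hU.primeIdealOf z ∈ Module.freeLocus Γ(X, U) Γ(F, U)} :=
    Module.isOpen_freeLocus.preimage hU.isoSpec.hom.continuous
  refine ⟨Subtype.val '' {z : U | hU.primeIdealOf z ∈ Module.freeLocus Γ(X, U) Γ(F, U)}, ?_,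
    U.isOpen.isOpenMap_subtype_val _ ho, ⟨⟨x, hxU⟩, (key x hxU).2 hx, rfl⟩⟩
  rintro _ ⟨z, hz, rfl⟩
  exact (key z.1 z.2).1 hz

theorem isIso_unit_iff (U : X.Opens) :
    IsIso ((Scheme.Modules.restrictAdjunction U.ι).unit.app F) ↔
      ∀ W : X.Opens, Function.Bijective (F.presheaf.map (homOfLE (U.ι.image_preimage_le W)).op) := by
  rw [Scheme.Modules.Hom.isIso_iff_isIso_app]
  refine forall_congr' fun W => ?_
  rw [Scheme.Modules.restrictAdjunction_unit_app_app]
  exact ConcreteCategory.isIso_iff_bijective _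

theorem mem_image_preimage (U W : X.Opens) {y : X} : y ∈ U.ι ''ᵁ (U.ι ⁻¹ᵁ W) ↔ y ∈ W ∧ y ∈ U := by
  constructor
  · rintro ⟨z, hz, rfl⟩
    exact ⟨hz, z.2⟩
  · rintro ⟨hW, hU⟩
    exact ⟨⟨y, hU⟩, hW, rfl⟩

variable [IsIntegral X]

/-- Closed in codimension one, from a big open where it holds and the extension property. -/
theorem closed1_of_big_open [IsLocallyNoetherian X] (hX : Pi1.IsNormalScheme X) (hF : Coh.IsCoh F) (U : X.Opens)
    (hU : ∀ x : X, x ∉ U → (2 : WithBot ℕ∞) ≤ ringKrullDim (X.presheaf.stalk x))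
    (hfree : ∀ x ∈ U, RefHull.IsReflexiveAt F x)
    (hext : IsIso ((Scheme.Modules.restrictAdjunction U.ι).unit.app F)) : Closed1 F := by
  rw [isIso_unit_iff] at hext
  have hη : genericPoint X ∈ U := by
    by_contra hη
    have h0 := hU _ hη
    rw [ringKrullDim_eq_zero_of_isField isField_η] at h0
    exact absurd h0 (by decide)
  have hinj : ∀ x : X, Function.Injective (F.presheaf.stalkSpecializes (gsp x)) := fun x => by
    rw [injective_iff_map_eq_zero]
    intro v hv
    obtain ⟨W, hW, m, rfl⟩ := F.presheaf.exists_germ_eq v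
    have hm : m = 0 := (hext W).1 (by
      rw [map_zero]
      refine section_ext' F fun y hy => injective_sp_of_isReflexiveAt hF (hfree y ((mem_image_preimage U W).1 hy).2) ?_
      rw [TopCat.Presheaf.germ_res_apply, TopCat.Presheaf.germ_stalkSpecializes_apply, map_zero, map_zero]
      rw [TopCat.Presheaf.germ_stalkSpecializes_apply] at hv
      exact hv)
    rw [hm, map_zero]
  refine ⟨hinj, fun x a h => ?_⟩
  obtain ⟨W, hxW, hW⟩ := exists_nhd_inStalk x a h
  have hin : ∀ y ∈ U.ι ''ᵁ (U.ι ⁻¹ᵁ W), InStalk F y a := fun y hy => by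
    obtain ⟨hyW, hyU⟩ := (mem_image_preimage U W).1 hy
    refine inStalk_of_isReflexiveAt hX hF (hfree y hyU) fun ξ hξ h1 => ?_
    by_contra hbad
    have h2 := hW ξ (hξ.mem_open W.isOpen hyW) hbad
    rw [h1] at h2
    exact absurd h2 (by decide)
  obtain ⟨s, hs⟩ := exists_section_of_inStalk _ (fun y _ => hinj y) a hin
  obtain ⟨t, rfl⟩ := (hext W).2 s
  refine ⟨F.presheaf.germ W x hxW t, ?_⟩
  rw [← hs _ ((mem_image_preimage U W).2 ⟨mem_of_genericPoint W hxW, hη⟩), TopCat.Presheaf.germ_res_apply,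
    TopCat.Presheaf.germ_stalkSpecializes_apply, TopCat.Presheaf.germ_stalkSpecializes_apply]

theorem isIso_unit_of_closed1 (hF : Closed1 F) (U : X.Opens)
    (hU : ∀ x : X, x ∉ U → (2 : WithBot ℕ∞) ≤ ringKrullDim (X.presheaf.stalk x)) :
    IsIso ((Scheme.Modules.restrictAdjunction U.ι).unit.app F) :=
  (isIso_unit_iff U).2 fun W => bijective_res_of_closed1 hF W _ (U.ι.image_preimage_le W)
    fun x hxW hx => hU x fun hxU => hx ((mem_image_preimage U W).2 ⟨hxW, hxU⟩)

/-- The free locus of a reflexive module on a normal scheme is big. -/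
theorem free_of_dim_le_one [IsLocallyNoetherian X] (hX : Pi1.IsNormalScheme X) (hF : Coh.IsCoh F) {x : X}
    (hx : RefHull.IsReflexiveAt F x) (h : ringKrullDim (X.presheaf.stalk x) ≤ 1) :
    Module.Free (X.presheaf.stalk x) (F.presheaf.stalk x) := by
  haveI := isPrincipalIdealRing_stalk hX h
  haveI := isTorsionFree_of_injective_sp (injective_sp_of_isReflexiveAt hF hx)
  exact free_of_isPrincipal hF

end Groth.Agent.RH26
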