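import Groth.Agent.Lib.RefHull26.Ref1
import Groth.Agent.Lib.RefHull26.Extend

/-! # Small consequences for reflexive hulls -/

set_option autoImplicit false
universe u

set_option backward.isDefEq.respectTransparency.types false

open CategoryTheory AlgebraicGeometry TopologicalSpace Opposite

namespace Groth.Agent.RH26

/-- Biduality of a finite module over a principal ideal domain is surjective. -/
theorem eval_surjective_pid {R M : Type u} [CommRing R] [IsDomain R] [IsPrincipalIdealRing R] [AddCommGroup M]
    [Module R M] [Module.Finite R M] : Function.Surjective (Module.Dual.eval R M) := by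
  intro ξ
  let q := (Submodule.torsion R M).mkQ
  have hkill : ∀ (φ : Module.Dual R M), Submodule.torsion R M ≤ LinearMap.ker φ := fun φ m hm => by
    obtain ⟨r, hr⟩ := (Submodule.mem_torsion_iff m).1 hm
    have h := congrArg φ hr
    rw [Submonoid.smul_def, map_smul, map_zero, smul_eq_mul] at h
    exact (mul_eq_zero.1 h).resolve_left (nonZeroDivisors.ne_zero r.2)
  obtain ⟨m', hm'⟩ := (Module.bijective_dual_eval R (M ⧸ Submodule.torsion R M)).2 (ξ.comp q.dualMap)
  obtain ⟨m, rfl⟩ := Submodule.Quotient.mk_surjective _ m'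
  exact ⟨m, LinearMap.ext fun φ => LinearMap.congr_fun hm' ((Submodule.torsion R M).liftQ φ (hkill φ))⟩

variable {X : Scheme.{u}}

theorem isPrincipalIdealRing_of_normal [IsLocallyNoetherian X] (hX : Pi1.IsNormalScheme X) {ξ : X}
    (h : ringKrullDim (X.presheaf.stalk ξ) ≤ 1) : IsPrincipalIdealRing (X.presheaf.stalk ξ) := by
  haveI := (hX ξ).1
  haveI := (hX ξ).2
  by_cases h1 : ringKrullDim (X.presheaf.stalk ξ) = 1
  · haveI := Curve17.isDiscreteValuationRing_of_dim_one (X.presheaf.stalk ξ) h1
    infer_instance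
  · haveI : Ring.KrullDimLE 0 (X.presheaf.stalk ξ) := Ring.krullDimLE_iff.2 (by
      have h0 := ringKrullDim_stalk_eq_coheight ξ
      rw [h0] at h h1
      generalize Order.coheight ξ = n at h h1 h0
      rw [h0]
      cases n with
      | top => simp at h; cases h
      | coe n =>
        have hle : n ≤ 1 := by exact_mod_cast h
        have hne : n ≠ 1 := fun e => h1 (by rw [e]; rfl)
        have : n = 0 := by omega
        subst this
        rfl)
    have hf : IsField (X.presheaf.stalk ξ) := Ring.KrullDimLE.isField_of_isReduced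
    letI := hf.toField
    infer_instance

theorem two_le_of_not_le_one {x : X} (h1 : ¬ ringKrullDim (X.presheaf.stalk x) ≤ 1) :
    (2 : WithBot ℕ∞) ≤ ringKrullDim (X.presheaf.stalk x) := by
  rw [ringKrullDim_stalk_eq_coheight] at h1 ⊢
  rw [not_le] at h1
  have h3 := Order.add_one_le_of_lt (WithBot.coe_lt_coe.1 (show ((1 : ℕ∞) : WithBot ℕ∞) < _ from h1))
  exact WithBot.coe_le_coe.2 (le_of_eq_of_le (by norm_num) h3)

variable {F : X.Modules}

theorem surjective_bidual_of_pid [IsLocallyNoetherian X] (hF : Coh.IsCoh F) (x : X) [IsDomain (X.presheaf.stalk x)]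
    [IsPrincipalIdealRing (X.presheaf.stalk x)] :
    Function.Surjective (RefHull.stalkMapₗ (RefHull.bidualMap F) x) := by
  haveI := M1.finite_stalk hF.1 (M1.isFP_isFT (M1.isFP_of_isCoh hF)) x
  intro w
  let C : Module.Dual (X.presheaf.stalk x) (Module.Dual (X.presheaf.stalk x) (F.presheaf.stalk x)) ≃ₗ[X.presheaf.stalk x]
      RefHull.StalkHom (RefHull.dual F) (Coh.structureModule X) x := LinearEquiv.arrowCongr (dualEquiv hF x).symm (str x)
  obtain ⟨v, hv⟩ := eval_surjective_pid (C.symm (RefHull.evalStalk (RefHull.dual F) (Coh.structureModule X) x w))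
  refine ⟨v, (evalStalk_bijective (M1.isFP_of_isCoh (isCoh_dual hF)) (Coh.structureModule X) x).1 ?_⟩
  rw [evalStalk_bidualMap, ← C.apply_symm_apply (RefHull.evalStalk (RefHull.dual F) (Coh.structureModule X) x w), ← hv]
  refine LinearMap.ext fun θ => ?_
  rw [RefHull.bidualAt_apply]
  show _ = str x (dualEquiv hF x θ v)
  rw [dualEquiv_apply, LinearEquiv.apply_symm_apply]

end Groth.Agent.RH26
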