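import Groth.Agent.Lib.RefHull26.Extend
import Groth.Agent.Lib.RefHull26.Misc

/-! # Extension of sections across small closed subsets, and the bidual -/

set_option autoImplicit false
universe u

set_option backward.isDefEq.respectTransparency.types false

open CategoryTheory CategoryTheory.Limits AlgebraicGeometry TopologicalSpace Opposite

namespace Groth.Agent.RH26

variable {X : Scheme.{u}}

/-- Sections extend uniquely from the trace on `U`. -/
def ExtU (U : X.Opens) (F : X.Modules) : Prop :=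
  ∀ W : X.Opens, Function.Bijective (F.presheaf.map (homOfLE (inf_le_left : W ⊓ U ≤ W)).op)

/-- The unit of restriction is an isomorphism when sections extend. -/
theorem isIso_unit_of_extU {U : X.Opens} {F : X.Modules} (h : ExtU U F) :
    IsIso ((Scheme.Modules.restrictAdjunction U.ι).unit.app F) := by
  refine (isIso_unit_iff U).2 fun W => ?_
  have hle : U.ι ''ᵁ (U.ι ⁻¹ᵁ W) ≤ W ⊓ U := fun y hy => (mem_image_preimage U W).1 hy
  have hge : W ⊓ U ≤ U.ι ''ᵁ (U.ι ⁻¹ᵁ W) := fun y hy => (mem_image_preimage U W).2 hy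
  refine ⟨fun s t e => (h W).1 ?_, fun t => ?_⟩
  · have e' := congrArg (F.presheaf.map (homOfLE hge).op) e
    rwa [res_res' F, res_res' F] at e'
  · obtain ⟨s, hs⟩ := (h W).2 (F.presheaf.map (homOfLE hge).op t)
    refine ⟨s, ?_⟩
    have e' := congrArg (F.presheaf.map (homOfLE hle).op) hs
    rw [res_res' F, res_res' F] at e'
    refine e'.trans (section_ext' F fun y hy => ?_)
    rw [TopCat.Presheaf.germ_res_apply]

/-- The sheaf Hom into a module with the extension property has it. -/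
theorem extU_homSh {U : X.Opens} {H : X.Modules} (hH : ExtU U H) (G : X.Modules) :
    ExtU U (RefHull.homSh G H) := by
  intro W
  refine ⟨(injective_iff_map_eq_zero _).2 fun g hg => ?_, fun h => ?_⟩
  · refine Subtype.ext (funext fun x => LinearMap.ext fun v => ?_)
    obtain ⟨V, hxV, m, rfl⟩ := G.presheaf.exists_germ_eq v
    obtain ⟨W', hxW', j, n, hn⟩ := g.2 (V ⊓ W) (homOfLE inf_le_right)
      (G.presheaf.map (homOfLE inf_le_left).op m) ⟨x.1, ⟨hxV, x.2⟩⟩
    have hn0 : n = 0 := by
      refine (hH W').1 (section_ext' H fun y hy => ?_)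
      rw [TopCat.Presheaf.germ_res_apply, map_zero, map_zero, ← hn ⟨y, hy.1⟩]
      have hgy := congrArg (fun s : Γ(RefHull.homSh G H, W ⊓ U) => s.1 ⟨y, ⟨(j.le hy.1).2, hy.2⟩⟩) hg
      exact LinearMap.congr_fun hgy _
    have e := hn ⟨x.1, hxW'⟩
    rw [TopCat.Presheaf.germ_res_apply, hn0, map_zero] at e
    exact e
  have hS : ∀ (V : X.Opens) (hV : V ≤ W) (m : Γ(G, V)), ∃! t : Γ(H, V), ∀ (y : X) (hy : y ∈ V ⊓ U),
      H.presheaf.germ V y hy.1 t = h.1 ⟨y, ⟨hV hy.1, hy.2⟩⟩ (G.presheaf.germ V y hy.1 m) := by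
    intro V hV m
    obtain ⟨n₀, hn₀, -⟩ := exists_section_of_germs H (V ⊓ U)
      (fun y hy => h.1 ⟨y, ⟨hV hy.1, hy.2⟩⟩ (G.presheaf.germ V y hy.1 m)) fun x hx => by
        obtain ⟨W', hxW', j, n, hn⟩ := h.2 (V ⊓ U) (homOfLE (inf_le_inf_right U hV))
          (G.presheaf.map (homOfLE inf_le_left).op m) ⟨x, hx⟩
        refine ⟨W', hxW', j.le, n, fun y hy => ?_⟩
        rw [← hn ⟨y, hy⟩, TopCat.Presheaf.germ_res_apply]
    obtain ⟨t, ht⟩ := (hH V).2 n₀
    refine ⟨t, fun y hy => ?_, fun t' ht' => (hH V).1 (section_ext' H fun y hy => ?_)⟩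
    · rw [← hn₀ y hy, ← ht, TopCat.Presheaf.germ_res_apply]
    · rw [TopCat.Presheaf.germ_res_apply, TopCat.Presheaf.germ_res_apply, ht' y hy, ← hn₀ y hy, ← ht,
        TopCat.Presheaf.germ_res_apply]
  choose S hS hSu using hS
  have hres : ∀ (V V' : X.Opens) (hV : V ≤ W) (i : V' ≤ V) (m : Γ(G, V)) (x : X) (hx : x ∈ V'),
      H.presheaf.germ V x (i hx) (S V hV m) =
        H.presheaf.germ V' x hx (S V' (i.trans hV) (G.presheaf.map (homOfLE i).op m)) := by
    intro V V' hV i m x hx
    rw [← hSu V' (i.trans hV) (G.presheaf.map (homOfLE i).op m) (H.presheaf.map (homOfLE i).op (S V hV m))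
      fun y hy => by
        rw [TopCat.Presheaf.germ_res_apply, hS V hV m y ⟨i hy.1, hy.2⟩, TopCat.Presheaf.germ_res_apply],
      TopCat.Presheaf.germ_res_apply]
  have hwd : ∀ (V V' : X.Opens) (hV : V ≤ W) (hV' : V' ≤ W) (m : Γ(G, V)) (m' : Γ(G, V')) (x : X)
      (hx : x ∈ V) (hx' : x ∈ V'), G.presheaf.germ V x hx m = G.presheaf.germ V' x hx' m' →
      H.presheaf.germ V x hx (S V hV m) = H.presheaf.germ V' x hx' (S V' hV' m') := by
    intro V V' hV hV' m m' x hx hx' e
    obtain ⟨V'', hx'', i₁, i₂, e'⟩ := G.presheaf.germ_eq x hx hx' _ _ e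
    rw [hres V V'' hV i₁.le m x hx'', hres V' V'' hV' i₂.le m' x hx'']
    exact congrArg _ (congrArg _ e')
  have hex : ∀ (x : W) (v : G.presheaf.stalk x.1), ∃ (V : X.Opens) (_ : V ≤ W) (hx : x.1 ∈ V) (m : Γ(G, V)),
      G.presheaf.germ V x.1 hx m = v := fun x v => by
    obtain ⟨V, hxV, m, rfl⟩ := G.presheaf.exists_germ_eq v
    exact ⟨V ⊓ W, inf_le_right, ⟨hxV, x.2⟩, G.presheaf.map (homOfLE inf_le_left).op m,
      TopCat.Presheaf.germ_res_apply _ _ _ _ _⟩
  choose Vv hVv hxv mv hmv using hex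
  let f : ∀ x : W, RefHull.StalkHom G H x.1 := fun x =>
    { toFun := fun v => H.presheaf.germ (Vv x v) x.1 (hxv x v) (S (Vv x v) (hVv x v) (mv x v))
      map_add' := fun v w => by
        let V' := Vv x v ⊓ Vv x w
        have hx' : x.1 ∈ V' := ⟨hxv x v, hxv x w⟩
        rw [hres (Vv x v) V' (hVv x v) inf_le_left (mv x v) x.1 hx',
          hres (Vv x w) V' (hVv x w) inf_le_right (mv x w) x.1 hx', ← map_add,
          hSu V' (inf_le_left.trans (hVv x v))
            (G.presheaf.map (homOfLE inf_le_left).op (mv x v) + G.presheaf.map (homOfLE inf_le_right).op (mv x w))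
            (S V' (inf_le_left.trans (hVv x v)) (G.presheaf.map (homOfLE inf_le_left).op (mv x v)) +
              S V' (inf_le_left.trans (hVv x v)) (G.presheaf.map (homOfLE inf_le_right).op (mv x w))) fun y hy => by
            rw [map_add, map_add, map_add, hS, hS]
            all_goals exact hy]
        refine hwd _ _ _ _ _ _ x.1 _ hx' ?_
        rw [hmv, map_add, TopCat.Presheaf.germ_res_apply, TopCat.Presheaf.germ_res_apply, hmv, hmv]
      map_smul' := fun r v => by
        obtain ⟨Vr, hxr, r', rfl⟩ := X.presheaf.exists_germ_eq r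
        let V' := Vv x v ⊓ Vr
        have hx' : x.1 ∈ V' := ⟨hxv x v, hxr⟩
        rw [RingHom.id_apply, hres (Vv x v) V' (hVv x v) inf_le_left (mv x v) x.1 hx',
          ← TopCat.Presheaf.germ_res_apply X.presheaf (homOfLE (inf_le_right : V' ≤ Vr)) x.1 hx', ← gsmul,
          hSu V' (inf_le_left.trans (hVv x v)) (X.presheaf.map (homOfLE (inf_le_right : V' ≤ Vr)).op r' •
            G.presheaf.map (homOfLE (inf_le_left : V' ≤ Vv x v)).op (mv x v))
            (X.presheaf.map (homOfLE (inf_le_right : V' ≤ Vr)).op r' •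
              S V' (inf_le_left.trans (hVv x v)) (G.presheaf.map (homOfLE (inf_le_left : V' ≤ Vv x v)).op (mv x v))) fun y hy => by
            rw [gsmul, gsmul, map_smul, hS]
            all_goals exact hy]
        refine hwd _ _ _ _ _ _ x.1 _ hx' ?_
        rw [hmv, gsmul, TopCat.Presheaf.germ_res_apply G.presheaf, hmv] }
  have hf : ∀ (V : X.Opens) (hV : V ≤ W) (m : Γ(G, V)) (y : X) (hy : y ∈ V),
      f ⟨y, hV hy⟩ (G.presheaf.germ V y hy m) = H.presheaf.germ V y hy (S V hV m) := fun V hV m y hy =>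
    hwd _ _ _ _ _ _ y _ hy (hmv _ _)
  let g : Γ(RefHull.homSh G H, W) := ⟨f, fun V i m x => ⟨V, x.2, 𝟙 V, S V i.le m, fun y => hf V i.le m y.1 y.2⟩⟩
  refine ⟨g, Subtype.ext (funext fun y => LinearMap.ext fun v => ?_)⟩
  obtain ⟨V, hyV, m, rfl⟩ := G.presheaf.exists_germ_eq v
  show f ⟨y.1, y.2.1⟩ _ = _
  rw [← TopCat.Presheaf.germ_res_apply G.presheaf (homOfLE (inf_le_left : V ⊓ W ≤ V)) y.1 ⟨hyV, y.2.1⟩,
    hf (V ⊓ W) inf_le_right, hS (V ⊓ W) inf_le_right _ y.1 ⟨⟨hyV, y.2.1⟩, y.2.2⟩]

theorem sp_trans₀ {x ξ ζ : X} (h : ξ ⤳ x) (h' : ζ ⤳ ξ) (v : X.presheaf.stalk x) :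
    X.presheaf.stalkSpecializes h' (X.presheaf.stalkSpecializes h v) = X.presheaf.stalkSpecializes (h'.trans h) v :=
  ConcreteCategory.congr_hom (TopCat.Presheaf.stalkSpecializes_comp X.presheaf h' h) v

/-- The point of the irreducible component through a point with a domain as local ring. -/
theorem exists_min_gen (x : X) [IsDomain (X.presheaf.stalk x)] :
    ∃ (η : X) (h : η ⤳ x), DivDesc12.primeAt h = ⊥ ∧ ∀ y : X, y ⤳ x → η ⤳ y := by
  haveI : (⊥ : Ideal (X.presheaf.stalk x)).IsPrime := Ideal.isPrime_bot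
  obtain ⟨η, h, he⟩ := DivDesc12.exists_primeAt_eq x (⊥ : Ideal (X.presheaf.stalk x))
  exact ⟨η, h, he, fun y hy => DivDesc12.specializes_of_primeAt_le hy h (he ▸ bot_le)⟩

theorem exists_irreducible_nhd_of_domain [IsNoetherian X] (hdom : ∀ x : X, IsDomain (X.presheaf.stalk x)) (x : X) :
    ∃ V : X.Opens, x ∈ V ∧ ∃ η : X, η ⤳ x ∧ ∀ y ∈ V, η ⤳ y := by
  have huniq : ∀ (z : X) (η : X), η ⤳ z → (∀ y : X, y ⤳ z → η ⤳ y) → ∀ Z ∈ irreducibleComponents X, z ∈ Z →
      Z = closure {η} := by
    intro z η hη hmin Z hZ hzZ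
    have hc := isClosed_of_mem_irreducibleComponents Z hZ
    have hg := hZ.1.isGenericPoint_genericPoint hc
    have h1 : Z ⊆ closure {η} := fun w hw =>
      specializes_iff_mem_closure.1 ((hmin _ (hg.specializes hzZ)).trans (hg.specializes hw))
    exact h1.antisymm (hZ.2 isIrreducible_singleton.closure h1)
  haveI := hdom x
  obtain ⟨η, hη, -, hmin⟩ := exists_min_gen x
  have hfin : ({Z ∈ irreducibleComponents X | Z ≠ closure {η}}).Finite :=
    NoetherianSpace.finite_irreducibleComponents.subset fun Z hZ => hZ.1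
  refine ⟨⟨(⋃ Z ∈ {Z ∈ irreducibleComponents X | Z ≠ closure {η}}, Z)ᶜ,
    (hfin.isClosed_biUnion fun Z hZ => isClosed_of_mem_irreducibleComponents Z hZ.1).isOpen_compl⟩, ?_, η, hη,
    fun y hy => ?_⟩
  · intro hx
    obtain ⟨Z, ⟨hZ, hne⟩, hxZ⟩ := Set.mem_iUnion₂.1 hx
    exact hne (huniq x η hη hmin Z hZ hxZ)
  · have hy' := irreducibleComponent_mem_irreducibleComponents y
    by_cases he : irreducibleComponent y = closure {η}
    · exact specializes_iff_mem_closure.2 (he ▸ mem_irreducibleComponent)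
    · exact absurd (Set.mem_iUnion₂.2 ⟨_, ⟨hy', he⟩, mem_irreducibleComponent⟩) hy

theorem isFractionRing_min {x η : X} [IsDomain (X.presheaf.stalk x)] (h : η ⤳ x) (he : DivDesc12.primeAt h = ⊥) :
    letI := (DivDesc12.sp h).toAlgebra
    IsFractionRing (X.presheaf.stalk x) (X.presheaf.stalk η) := by
  letI := (DivDesc12.sp h).toAlgebra
  have hloc := LocFact12.isLocalization_sp h
  have hM : (DivDesc12.primeAt h).primeCompl = nonZeroDivisors (X.presheaf.stalk x) :=
    Submonoid.ext fun a => by simp [he, mem_nonZeroDivisors_iff_ne_zero]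
  show IsLocalization (nonZeroDivisors (X.presheaf.stalk x)) (X.presheaf.stalk η)
  rw [← hM]
  exact hloc

theorem injective_sp_min {x η : X} [IsDomain (X.presheaf.stalk x)] (h : η ⤳ x) (he : DivDesc12.primeAt h = ⊥) :
    Function.Injective (X.presheaf.stalkSpecializes h) := by
  letI := (DivDesc12.sp h).toAlgebra
  haveI := isFractionRing_min h he
  exact IsFractionRing.injective (X.presheaf.stalk x) (X.presheaf.stalk η)

theorem isField_frac (R K : Type u) [CommRing R] [IsDomain R] [CommRing K] [Algebra R K] [IsFractionRing R K] :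
    IsField K := by
  exact MulEquiv.isField (Field.toIsField (FractionRing R))
    (IsLocalization.algEquiv (nonZeroDivisors R) K (FractionRing R)).toMulEquiv

/-- Hartogs at a point of a locally noetherian normal scheme. -/
theorem mem_range_sp_min [IsLocallyNoetherian X] (hX : Pi1.IsNormalScheme X) {x η : X} (h : η ⤳ x)
    (he : DivDesc12.primeAt h = ⊥) (a : X.presheaf.stalk η)
    (hex : ∀ (ξ : X) (_ : ξ ⤳ x) (h' : η ⤳ ξ), ringKrullDim (X.presheaf.stalk ξ) = 1 →
      ∃ b, X.presheaf.stalkSpecializes h' b = a) :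
    ∃ b, X.presheaf.stalkSpecializes h b = a := by
  haveI := (hX x).1
  haveI := (hX x).2
  letI := (DivDesc12.sp h).toAlgebra
  haveI := isFractionRing_min h he
  letI : Field (X.presheaf.stalk η) := (isField_frac (X.presheaf.stalk x) (X.presheaf.stalk η)).toField
  refine NormalInter.mem_range_of_forall_height_one (R := X.presheaf.stalk x) (K := X.presheaf.stalk η) a fun P _ hP => ?_
  obtain ⟨ξ, hξ, rfl⟩ := DivDesc12.exists_primeAt_eq x P
  have h' : η ⤳ ξ := DivDesc12.specializes_of_primeAt_le hξ h (he ▸ bot_le)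
  obtain ⟨b, hb⟩ := hex ξ hξ h' (by rw [LocFact12.ringKrullDim_eq_height hξ, hP]; rfl)
  letI := (DivDesc12.sp hξ).toAlgebra
  haveI := LocFact12.isLocalization_sp hξ
  obtain ⟨⟨r, s⟩, hs⟩ := IsLocalization.surj (DivDesc12.primeAt hξ).primeCompl b
  refine ⟨s.1, s.2, r, ?_⟩
  show X.presheaf.stalkSpecializes h r = X.presheaf.stalkSpecializes h s.1 * a
  rw [← hb, ← sp_trans₀ hξ h' r, ← sp_trans₀ hξ h' s.1, ← map_mul, mul_comm]
  exact congrArg _ hs.symm

/-- Functions on a normal noetherian scheme extend over closed subsets of codimension two. -/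
theorem extU_structure [IsNoetherian X] (hX : Pi1.IsNormalScheme X) (U : X.Opens)
    (hU : ∀ x : X, ringKrullDim (X.presheaf.stalk x) ≤ 1 → x ∈ U) : ExtU U (Coh.structureModule X) := by
  have hηU : ∀ {x η : X} (h : η ⤳ x), DivDesc12.primeAt h = ⊥ → η ∈ U := fun {x η} h he => by
    haveI := (hX x).1
    letI := (DivDesc12.sp h).toAlgebra
    haveI := isFractionRing_min h he
    refine hU η ?_
    rw [LocFact12.ringKrullDim_eq_height h, he, Ideal.height_bot]
    exact WithBot.coe_le_coe.2 zero_le_one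
  intro W
  refine ⟨(injective_iff_map_eq_zero _).2 fun t ht => section_ext' _ fun x hx => ?_, fun t => ?_⟩
  · haveI := (hX x).1
    obtain ⟨η, h, he, -⟩ := exists_min_gen x
    obtain ⟨r, hr⟩ := (str x).surjective ((Coh.structureModule X).presheaf.germ W x hx t)
    have hη : η ∈ W ⊓ U := ⟨h.mem_open W.isOpen hx, hηU h he⟩
    have h0 : (Coh.structureModule X).presheaf.germ W η hη.1 t = 0 := by
      rw [← TopCat.Presheaf.germ_res_apply (Coh.structureModule X).presheaf (homOfLE (inf_le_left : W ⊓ U ≤ W)) η hη t,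
        ht, map_zero]
    rw [map_zero, ← hr]
    have h1 : str η (X.presheaf.stalkSpecializes h r) = 0 := by
      rw [← h0, ← TopCat.Presheaf.germ_stalkSpecializes_apply (Coh.structureModule X).presheaf hx h t, ← hr]
      exact (Cyc26.stalkSpecializes_smul_one h r).symm
    have h2 : r = 0 := injective_sp_min h he (((str η).map_eq_zero_iff.1 h1).trans (map_zero _).symm)
    rw [h2, map_zero]
  obtain ⟨s, hs, -⟩ : ∃! s : Γ(Coh.structureModule X, W), ∀ (y : X) (hy : y ∈ W),
      (Coh.structureModule X).presheaf.germ W y hy s =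
        str y (Classical.epsilon fun b => ∀ (η : X) (h : η ⤳ y) (hη : η ∈ W ⊓ U), DivDesc12.primeAt h = ⊥ →
          str η (X.presheaf.stalkSpecializes h b) = (Coh.structureModule X).presheaf.germ (W ⊓ U) η hη t) := by
    refine exists_section_of_germs _ W (fun y _ => str y _) fun x hx => ?_
    obtain ⟨V, hxV, η₀, hη₀, hV⟩ := exists_irreducible_nhd_of_domain (fun z => (hX z).1) x
    haveI := (hX x).1
    obtain ⟨η, h, he, hmin⟩ := exists_min_gen x
    have hηV : ∀ y ∈ V, η ⤳ y := fun y hy => (hmin η₀ hη₀).trans (hV y hy)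
    have hη : η ∈ W ⊓ U := ⟨h.mem_open W.isOpen hx, hηU h he⟩
    obtain ⟨a, ha⟩ := (str η).surjective ((Coh.structureModule X).presheaf.germ (W ⊓ U) η hη t)
    obtain ⟨b, hb⟩ := mem_range_sp_min hX h he a fun ξ hξ h' h1 => by
      have hξW : ξ ∈ W ⊓ U := ⟨hξ.mem_open W.isOpen hx, hU ξ h1.le⟩
      obtain ⟨c, hc⟩ := (str ξ).surjective ((Coh.structureModule X).presheaf.germ (W ⊓ U) ξ hξW t)
      refine ⟨c, (str η).injective ?_⟩
      rw [ha, ← TopCat.Presheaf.germ_stalkSpecializes_apply (Coh.structureModule X).presheaf hξW h' t, ← hc]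
      exact (Cyc26.stalkSpecializes_smul_one h' c).symm
    obtain ⟨W', hxW', m, hm⟩ := (Coh.structureModule X).presheaf.exists_germ_eq (str x b)
    refine ⟨W' ⊓ (V ⊓ W), ⟨hxW', hxV, hx⟩, inf_le_right.trans inf_le_right,
      (Coh.structureModule X).presheaf.map (homOfLE inf_le_left).op m, fun y hy => ?_⟩
    rw [TopCat.Presheaf.germ_res_apply]
    obtain ⟨c, hc⟩ := (str y).surjective ((Coh.structureModule X).presheaf.germ W' y hy.1 m)
    rw [← hc]
    refine congrArg (str y) ?_
    haveI := (hX y).1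
    obtain ⟨ζ, hζ, heζ, hminζ⟩ := exists_min_gen y
    have hηy := hηV y hy.2.1
    have hηW' : η ∈ W' := h.mem_open W'.isOpen hxW'
    have hgen : ∀ (η' : X) (h' : η' ⤳ y), DivDesc12.primeAt h' = ⊥ → η' = η := fun η' h' he' => by
      refine ((DivDesc12.specializes_of_primeAt_le hηy h' (he' ▸ bot_le)).antisymm ?_).eq
      refine hmin η' (Specializes.trans ?_ h)
      exact DivDesc12.specializes_of_primeAt_le hηy h' (he' ▸ bot_le)
    have hce : str η (X.presheaf.stalkSpecializes hηy c) =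
        (Coh.structureModule X).presheaf.germ (W ⊓ U) η hη t := by
      rw [← ha, ← hb]
      refine (Cyc26.stalkSpecializes_smul_one hηy c).symm.trans ?_
      refine Eq.trans ?_ (Cyc26.stalkSpecializes_smul_one h b)
      rw [← str_apply, ← str_apply, hc, ← hm, TopCat.Presheaf.germ_stalkSpecializes_apply,
        TopCat.Presheaf.germ_stalkSpecializes_apply]
    have hp : ∀ (η' : X) (h' : η' ⤳ y) (hη' : η' ∈ W ⊓ U), DivDesc12.primeAt h' = ⊥ →
        str η' (X.presheaf.stalkSpecializes h' c) = (Coh.structureModule X).presheaf.germ (W ⊓ U) η' hη' t := by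
      intro η' h' hη' he'
      obtain rfl := hgen η' h' he'
      exact hce
    have hζW : ζ ∈ W ⊓ U := ⟨hζ.mem_open W.isOpen hy.2.2, hηU hζ heζ⟩
    have hspec := Classical.epsilon_spec (p := fun b => ∀ (η : X) (h : η ⤳ y) (hη : η ∈ W ⊓ U),
      DivDesc12.primeAt h = ⊥ → str η (X.presheaf.stalkSpecializes h b) =
        (Coh.structureModule X).presheaf.germ (W ⊓ U) η hη t) ⟨c, hp⟩
    exact injective_sp_min hζ heζ ((str ζ).injective ((hp ζ hζ hζW heζ).trans (hspec ζ hζ hζW heζ).symm))
  refine ⟨s, section_ext' _ fun y hy => ?_⟩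
  rw [TopCat.Presheaf.germ_res_apply, hs y hy.1]
  haveI := (hX y).1
  obtain ⟨ζ, hζ, heζ, -⟩ := exists_min_gen y
  have hζW : ζ ∈ W ⊓ U := ⟨hζ.mem_open W.isOpen hy.1, hηU hζ heζ⟩
  obtain ⟨c, hc⟩ := (str y).surjective ((Coh.structureModule X).presheaf.germ (W ⊓ U) y hy t)
  have hp : ∀ (η : X) (h : η ⤳ y) (hη : η ∈ W ⊓ U), DivDesc12.primeAt h = ⊥ →
      str η (X.presheaf.stalkSpecializes h c) = (Coh.structureModule X).presheaf.germ (W ⊓ U) η hη t := by
    intro η h hη _
    rw [← TopCat.Presheaf.germ_stalkSpecializes_apply (Coh.structureModule X).presheaf hy h t, ← hc]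
    exact (Cyc26.stalkSpecializes_smul_one h c).symm
  rw [← hc]
  refine congrArg (str y) ?_
  have hspec := Classical.epsilon_spec (p := fun b => ∀ (η : X) (h : η ⤳ y) (hη : η ∈ W ⊓ U),
      DivDesc12.primeAt h = ⊥ → str η (X.presheaf.stalkSpecializes h b) =
        (Coh.structureModule X).presheaf.germ (W ⊓ U) η hη t) ⟨c, hp⟩
  exact injective_sp_min hζ heζ ((str ζ).injective ((hspec ζ hζ hζW heζ).trans (hp ζ hζ hζW heζ).symm))

/-- A finite type submodule of a quasi-coherent module is quasi-coherent. -/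
theorem isQCoh_of_isFT_mono {A F : X.Modules} (hA : Coh.IsQCoh A) (i : F ⟶ A) [Mono i] (hF : CohB1.IsFT F) :
    Coh.IsQCoh F := by
  choose U hU σ _ using (M1.isFT_iff_generators F).1 hF
  refine M1.isQCoh_of_openImmersion_cover (j := fun x => (U x).ι) (fun x => ⟨x, ⟨x, hU x⟩, rfl⟩) fun x => ?_
  haveI : Mono ((Scheme.Modules.restrictFunctor (U x).ι).map i) := by
    rw [M1.mono_iff_stalk]
    intro z
    have hinj := (M1.mono_iff_stalk i).1 inferInstance ((U x).ι z)
    intro a b e
    have hn := (Scheme.Modules.restrictStalkNatIso (U x).ι z).hom.naturality i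
    have key := congrArg ((Scheme.Modules.restrictStalkNatIso (U x).ι z).hom.app A) e
    refine ((Scheme.Modules.restrictStalkNatIso (U x).ι z).app F).addCommGroupIsoToAddEquiv.injective (hinj ?_)
    exact (ConcreteCategory.congr_hom hn a).symm.trans (key.trans (ConcreteCategory.congr_hom hn b))
  let ri := (Scheme.Modules.restrictFunctor (U x).ι).map i
  haveI : Epi (σ x).π := (σ x).epi
  have hq : Coh.IsQCoh (cokernel ri) :=
    M1.isQCoh_of_isIso (cokernelEpiComp (σ x).π ri)
      (M1.isQCoh_cokernel (M1.isQCoh_fr _ _) (M1.isQCoh_restrict hA _) ((σ x).π ≫ ri))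
  exact M1.isQCoh_of_isIso
    ((Abelian.monoIsKernelOfCokernel _ (cokernelIsCokernel ri)).conePointUniqueUpToIso (kernelIsKernel _)).symm
    (M1.isQCoh_kernel (M1.isQCoh_restrict hA _) hq (cokernel.π ri))

/-- The bidual of a finite type submodule of a flat module is the pushforward from the flat locus. -/
theorem exists_ddual_iso [IsNoetherian X] (hX : Pi1.IsNormalScheme X) {A F : X.Modules} (hA : Coh.IsQCoh A)
    (hAfl : FlatMod.IsFlat A) (i : F ⟶ A) [Mono i] (hF : CohB1.IsFT F) (U : X.Opens)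
    (hU : (U : Set X) = {s : X | FlatMod.IsFlatAt F s}) :
    ∃ e : RefHull.ddual F ≅ (Scheme.Modules.pushforward U.ι).obj (F.restrict U.ι),
      RefHull.bidualMap F ≫ e.hom = (Scheme.Modules.restrictAdjunction U.ι).unit.app F := by
  have hc : Coh.IsCoh F := ⟨isQCoh_of_isFT_mono hA i hF, hF⟩
  have hsmall : ∀ x : X, ringKrullDim (X.presheaf.stalk x) ≤ 1 → x ∈ U := fun x hx => by
    haveI := (hX x).1
    haveI := isPrincipalIdealRing_of_normal hX hx
    haveI := M1.finite_stalk hc.1 hF x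
    haveI : Module.Flat (X.presheaf.stalk x) (A.presheaf.stalk x) := hAfl x
    haveI : Module.IsTorsionFree (X.presheaf.stalk x) (F.presheaf.stalk x) :=
      Function.Injective.moduleIsTorsionFree (RefHull.stalkMapₗ i x) ((M1.mono_iff_stalk i).1 inferInstance x)
        fun r v => map_smul _ r v
    haveI : Module.Free (X.presheaf.stalk x) (F.presheaf.stalk x) := Module.free_of_finite_type_torsion_free'
    exact (Set.ext_iff.1 hU x).2 (Module.Flat.of_free)
  have hfree : ∀ x ∈ U, RefHull.IsReflexiveAt F x := fun x hx => by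
    haveI := M1.finite_stalk hc.1 hF x
    haveI : Module.Flat (X.presheaf.stalk x) (F.presheaf.stalk x) := (Set.ext_iff.1 hU x).1 hx
    haveI : Module.Free (X.presheaf.stalk x) (F.presheaf.stalk x) := Module.free_of_flat_of_isLocalRing
    show Module.IsReflexive (X.presheaf.stalk x) (F.presheaf.stalk x)
    infer_instance
  haveI : IsIso ((Scheme.Modules.restrictFunctor U.ι).map (RefHull.bidualMap F)) := by
    refine (M1.isIso_iff_stalk _).2 fun z => ?_
    haveI : IsIso ((TopCat.Presheaf.stalkFunctor AddCommGrpCat.{u} (U.ι z)).map (RefHull.bidualMap F).mapPresheaf) :=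
      (ConcreteCategory.isIso_iff_bijective _).2 ((bijective_bidual_stalk_iff hc _).2 (hfree _ z.2))
    have : IsIso ((Scheme.Modules.restrictFunctor U.ι ⋙ Scheme.Modules.toPresheaf _ ⋙
        TopCat.Presheaf.stalkFunctor AddCommGrpCat.{u} z).map (RefHull.bidualMap F)) := by
      refine (NatIso.isIso_map_iff (Scheme.Modules.restrictStalkNatIso U.ι z) _).2 ?_
      assumption
    exact (ConcreteCategory.isIso_iff_bijective _).1 this
  haveI := isIso_unit_of_extU (extU_homSh (extU_structure hX U hsmall) (RefHull.dual F))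
  refine ⟨asIso ((Scheme.Modules.restrictAdjunction U.ι).unit.app (RefHull.ddual F)) ≪≫
    (Scheme.Modules.pushforward U.ι).mapIso (asIso ((Scheme.Modules.restrictFunctor U.ι).map (RefHull.bidualMap F))).symm, ?_⟩
  have hn : RefHull.bidualMap F ≫ (Scheme.Modules.restrictAdjunction U.ι).unit.app (RefHull.ddual F) =
      (Scheme.Modules.restrictAdjunction U.ι).unit.app F ≫
        (Scheme.Modules.pushforward U.ι).map ((Scheme.Modules.restrictFunctor U.ι).map (RefHull.bidualMap F)) :=
    (Scheme.Modules.restrictAdjunction U.ι).unit.naturality (RefHull.bidualMap F)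
  simp only [Iso.trans_hom, asIso_hom, Functor.mapIso_hom, Iso.symm_hom, asIso_inv]
  rw [← Category.assoc, hn, Category.assoc, ← Functor.map_comp, IsIso.hom_inv_id, CategoryTheory.Functor.map_id]
  exact Category.comp_id _

end Groth.Agent.RH26
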