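import Groth.Agent.Lib.RefHull26.Stalk
import Groth.Agent.Lib.Cyc26.C1Struct
import Mathlib.LinearAlgebra.Dual.Defs

/-! # The dual of a coherent module -/

set_option autoImplicit false
universe u

set_option backward.isDefEq.respectTransparency.types false

open CategoryTheory AlgebraicGeometry TopologicalSpace Opposite

namespace Groth.Agent.RH26

variable {X : Scheme.{u}} {F G : X.Modules}

/-- `O_x ≅ (O_X)_x`. -/
noncomputable def str (x : X) : X.presheaf.stalk x ≃ₗ[X.presheaf.stalk x] (Coh.structureModule X).presheaf.stalk x :=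
  LinearEquiv.ofBijective (LinearMap.toSpanSingleton (X.presheaf.stalk x) _ (Cyc26.oneStalk x))
    (Cyc26.structureModule_stalk_bijective (Z := X) x)

theorem str_apply (x : X) (r : X.presheaf.stalk x) : str x r = r • Cyc26.oneStalk x := rfl

theorem str_symm_stalkSpecializes {x ξ : X} (h : ξ ⤳ x) (w : (Coh.structureModule X).presheaf.stalk x) :
    (str ξ).symm ((Coh.structureModule X).presheaf.stalkSpecializes h w) =
      X.presheaf.stalkSpecializes h ((str x).symm w) := by
  obtain ⟨r, rfl⟩ := (str x).surjective w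
  rw [LinearEquiv.symm_apply_apply, str_apply, Cyc26.stalkSpecializes_smul_one, ← str_apply,
    LinearEquiv.symm_apply_apply]

theorem isCoh_homSh [IsLocallyNoetherian X] (hF : Coh.IsCoh F) (hG : Coh.IsCoh G) :
    Coh.IsCoh (RefHull.homSh F G) := by
  have hFP := M1.isFP_of_isCoh hF
  haveI := M1.isFP_isQCoh hFP
  have hq := isQCoh_homSh hFP hG.1
  refine (M1.isCoh_iff_isFP _).2 (M1.isFP_of_finitePresentation_sections hq fun U hU => ?_)
  haveI : IsNoetherianRing Γ(X, U) := IsLocallyNoetherian.component_noetherian ⟨U, hU⟩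
  haveI := M1.finitePresentation_sections hFP hU
  haveI := M1.finite_sections hG.1 (M1.isFP_isFT (M1.isFP_of_isCoh hG)) hU
  obtain ⟨n, l, hl⟩ := Module.Finite.exists_fin' Γ(X, U) Γ(F, U)
  choose a ha hau using fun (t : Γ(RefHull.homSh F G, U)) (i : Fin n) => exists_app (le_refl U) t (l (Pi.single i 1))
  let Φ : Γ(RefHull.homSh F G, U) →ₗ[Γ(X, U)] (Fin n → Γ(G, U)) :=
    { toFun := fun t => a t
      map_add' := fun s t => funext fun i => (hau _ i (a s i + a t i) fun y hy => by
        rw [map_add, ha, ha]; rfl).symm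
      map_smul' := fun c t => funext fun i => (hau _ i (c • a t i) fun y hy => by
        rw [gsmul, ha]; rfl).symm }
  have hinj : Function.Injective Φ := fun s t e => homSh_ext hU le_rfl fun y hy m => by
    obtain ⟨v, rfl⟩ := hl m
    rw [germ_combination, map_sum, map_sum]
    refine Finset.sum_congr rfl fun i _ => ?_
    rw [map_smul, map_smul, ← ha s i y hy, ← ha t i y hy]
    exact congrArg (fun z => _ • G.presheaf.germ U y hy z) (congrFun e i)
  haveI : Module.Finite Γ(X, U) Γ(RefHull.homSh F G, U) := Module.Finite.of_injective Φ hinj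
  exact Module.finitePresentation_of_finite _ _

theorem isCoh_dual [IsLocallyNoetherian X] (hF : Coh.IsCoh F) : Coh.IsCoh (RefHull.dual F) :=
  isCoh_homSh hF (M1.isCoh_structureModule X)

/-- The stalk of the dual is the dual of the stalk. -/
noncomputable def dualEquiv [IsLocallyNoetherian X] (hF : Coh.IsCoh F) (x : X) :
    (RefHull.dual F).presheaf.stalk x ≃ₗ[X.presheaf.stalk x] Module.Dual (X.presheaf.stalk x) (F.presheaf.stalk x) :=
  (LinearEquiv.ofBijective (RefHull.evalStalk F (Coh.structureModule X) x)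
    (evalStalk_bijective (M1.isFP_of_isCoh hF) _ x)).trans (LinearEquiv.arrowCongr (LinearEquiv.refl (X.presheaf.stalk x) (F.presheaf.stalk x)) (str x).symm)

theorem dualEquiv_apply [IsLocallyNoetherian X] (hF : Coh.IsCoh F) (x : X) (θ : (RefHull.dual F).presheaf.stalk x) (v : F.presheaf.stalk x) :
    dualEquiv hF x θ v = (str x).symm (RefHull.evalStalk F (Coh.structureModule X) x θ v) := rfl

theorem evalStalk_stalkSpecializes {x ξ : X} (h : ξ ⤳ x) (θ : (RefHull.homSh F G).presheaf.stalk x)
    (v : F.presheaf.stalk x) :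
    RefHull.evalStalk F G ξ ((RefHull.homSh F G).presheaf.stalkSpecializes h θ) (F.presheaf.stalkSpecializes h v) =
      G.presheaf.stalkSpecializes h (RefHull.evalStalk F G x θ v) := by
  obtain ⟨U, hU, g, rfl⟩ := (RefHull.homSh F G).presheaf.exists_germ_eq θ
  obtain ⟨V, hV, m, rfl⟩ := F.presheaf.exists_germ_eq v
  obtain ⟨W, hxW, j, n, hn⟩ := RefHull.isLocSect_of_mem g (U ⊓ V) (homOfLE inf_le_left)
    (F.presheaf.map (homOfLE (inf_le_right : U ⊓ V ≤ V)).op m) ⟨x, hU, hV⟩
  have e1 := hn ⟨x, hxW⟩
  have e2 := hn ⟨ξ, h.mem_open W.isOpen hxW⟩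
  rw [TopCat.Presheaf.germ_res_apply] at e1 e2
  rw [RefHull.evalStalk_germ, TopCat.Presheaf.germ_stalkSpecializes_apply,
    TopCat.Presheaf.germ_stalkSpecializes_apply, RefHull.evalStalk_germ, e1,
    TopCat.Presheaf.germ_stalkSpecializes_apply]
  exact e2

theorem dualEquiv_stalkSpecializes [IsLocallyNoetherian X] (hF : Coh.IsCoh F) {x ξ : X} (h : ξ ⤳ x) (θ : (RefHull.dual F).presheaf.stalk x)
    (v : F.presheaf.stalk x) :
    dualEquiv hF ξ ((RefHull.dual F).presheaf.stalkSpecializes h θ) (F.presheaf.stalkSpecializes h v) =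
      X.presheaf.stalkSpecializes h (dualEquiv hF x θ v) := by
  rw [dualEquiv_apply, dualEquiv_apply, evalStalk_stalkSpecializes, str_symm_stalkSpecializes]

theorem evalStalk_bidualMap (x : X) (v : F.presheaf.stalk x) :
    RefHull.evalStalk (RefHull.dual F) (Coh.structureModule X) x (RefHull.stalkMapₗ (RefHull.bidualMap F) x v) =
      RefHull.bidualAt F x v := by
  obtain ⟨V, hV, m, rfl⟩ := F.presheaf.exists_germ_eq v
  rw [RefHull.stalkMapₗ_germ, RefHull.evalStalk_germ, RefHull.bidualMap_app_apply]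

theorem bijective_bidual_stalk_iff [IsLocallyNoetherian X] (hF : Coh.IsCoh F) (x : X) :
    Function.Bijective (RefHull.stalkMapₗ (RefHull.bidualMap F) x) ↔ RefHull.IsReflexiveAt F x := by
  let C : Module.Dual (X.presheaf.stalk x) (Module.Dual (X.presheaf.stalk x) (F.presheaf.stalk x)) ≃ₗ[X.presheaf.stalk x]
      RefHull.StalkHom (RefHull.dual F) (Coh.structureModule X) x := LinearEquiv.arrowCongr (dualEquiv hF x).symm (str x)
  have key : ∀ v, RefHull.bidualAt F x v =
      C (Module.Dual.eval (X.presheaf.stalk x) (F.presheaf.stalk x) v) := fun v => by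
    refine LinearMap.ext fun θ => ?_
    rw [RefHull.bidualAt_apply]
    show _ = str x (dualEquiv hF x θ v)
    rw [dualEquiv_apply, LinearEquiv.apply_symm_apply]
  have h1 := evalStalk_bijective (M1.isFP_of_isCoh (isCoh_dual hF)) (Coh.structureModule X) x
  rw [← h1.of_comp_iff',
    show (RefHull.evalStalk (RefHull.dual F) (Coh.structureModule X) x) ∘ (RefHull.stalkMapₗ (RefHull.bidualMap F) x) =
      C ∘ Module.Dual.eval (X.presheaf.stalk x) (F.presheaf.stalk x) from
        funext fun v => (evalStalk_bidualMap x v).trans (key v), C.bijective.of_comp_iff']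
  exact ⟨fun h => ⟨h⟩, fun h => h.1⟩

theorem isReflexive_iff_stalks [IsLocallyNoetherian X] (hF : Coh.IsCoh F) :
    RefHull.IsReflexive F ↔ ∀ x : X, RefHull.IsReflexiveAt F x := by
  rw [RefHull.IsReflexive, isIso_iff_stalkMapₗ]
  exact forall_congr' (bijective_bidual_stalk_iff hF)

end Groth.Agent.RH26
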