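import Groth.Agent.Lib.RefHull26.Closed
import Groth.Agent.Lib.Ample18.Gen

/-! # Modules of rank one -/

set_option autoImplicit false
universe u

set_option backward.isDefEq.respectTransparency.types false

open CategoryTheory AlgebraicGeometry TopologicalSpace Opposite

namespace Groth.Agent.RH26

variable {X : Scheme.{u}} {F G : X.Modules}

theorem str_one_germ {W : X.Opens} {y : X} (hy : y ∈ W) (r : Γ(X, W)) :
    str y (X.presheaf.germ W y hy r) = (Coh.structureModule X).presheaf.germ W y hy r := by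
  have hone : Cyc26.oneStalk y = (Coh.structureModule X).presheaf.germ W y hy (M1.one W) := by
    rw [Cyc26.oneStalk, ← M1.mres_one (le_top : W ≤ ⊤)]
    exact (M1.germ_mres _ le_top hy _).symm
  rw [str_apply, hone, ← gsmul]
  congr 2
  exact mul_one r

theorem str_symm_germ {W : X.Opens} {y : X} (hy : y ∈ W) (r : Γ(Coh.structureModule X, W)) :
    (str y).symm ((Coh.structureModule X).presheaf.germ W y hy r) =
      X.presheaf.germ W y hy (show Γ(X, W) from r) :=
  (LinearEquiv.symm_apply_eq _).2 (str_one_germ hy _).symm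

/-- A section generating every stalk is a generator. -/
theorem isGenerator_of_gen {U : X.Opens} {e : Γ(F, U)} (he : ∀ y (hy : y ∈ U), Amp.Gen (Amp.gm F y hy e)) :
    Groth.Agent.M2.IsGenerator e := by
  intro V hV
  have hgerm : ∀ (r : Γ(X, V)) (y : X) (hy : y ∈ V), F.presheaf.germ V y hy (r • Groth.Agent.M2.res F hV e) =
      X.presheaf.germ V y hy r • Amp.gm F y (hV hy) e := fun r y hy => by
    rw [gsmul]
    congr 1
    exact Amp.gm_res hV hy e
  refine ⟨fun r r' h => ?_, fun t => ?_⟩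
  · refine TopCat.Presheaf.section_ext X.sheaf V r r' fun y hy => (he y (hV hy)).1 ?_
    show _ • _ = _ • _
    exact (hgerm r y hy).symm.trans ((congrArg _ h).trans (hgerm r' y hy))
  · choose c hc using fun (y : X) (hy : y ∈ V) => (he y (hV hy)).2 (F.presheaf.germ V y hy t)
    obtain ⟨r, hr, -⟩ := exists_section_of_germs (Coh.structureModule X) V (fun y hy => str y (c y hy)) fun x hx => by
      obtain ⟨W, hW, r₀, hr₀⟩ := X.presheaf.exists_germ_eq (c x hx)
      have hx' : X.presheaf.germ W x hW r₀ • Amp.gm F x (hV hx) e = F.presheaf.germ V x hx t := by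
        rw [hr₀]; exact hc x hx
      obtain ⟨W', hW', i₁, i₂, he'⟩ := F.presheaf.germ_eq x (show x ∈ W ⊓ V from ⟨hW, hx⟩) hx
        (X.presheaf.map (homOfLE (inf_le_left : W ⊓ V ≤ W)).op r₀ •
          F.presheaf.map (homOfLE ((inf_le_right : W ⊓ V ≤ V).trans hV)).op e) t (by
        rw [gsmul, TopCat.Presheaf.germ_res_apply, TopCat.Presheaf.germ_res_apply]; exact hx')
      refine ⟨W', hW', i₂.le, X.presheaf.map (homOfLE ((i₁.le).trans inf_le_left)).op r₀, fun y hy => ?_⟩
      rw [← str_one_germ hy (X.presheaf.map (homOfLE ((i₁.le).trans inf_le_left)).op r₀)]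
      congr 1
      refine (he y (hV (i₂.le hy))).1 ?_
      show _ • _ = _ • _
      refine Eq.trans ?_ (hc y (i₂.le hy)).symm
      have := congrArg (F.presheaf.germ W' y hy) he'
      rw [TopCat.Presheaf.germ_res_apply, TopCat.Presheaf.germ_res_apply, gsmul, TopCat.Presheaf.germ_res_apply,
        TopCat.Presheaf.germ_res_apply] at this
      rw [TopCat.Presheaf.germ_res_apply]
      exact this
    refine ⟨(show Γ(X, V) from r), section_ext' F fun y hy => ?_⟩
    show F.presheaf.germ V y hy ((show Γ(X, V) from r) • Groth.Agent.M2.res F hV e) = F.presheaf.germ V y hy t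
    rw [hgerm, ← str_symm_germ hy r, hr y hy, LinearEquiv.symm_apply_apply]
    exact hc y hy

/-- A coherent module free of rank one at a point is so nearby. -/
theorem exists_isGenerator_nhd [IsLocallyNoetherian X] (hF : Coh.IsCoh F) {x : X} {g : F.presheaf.stalk x}
    (hg : Amp.Gen g) : ∃ (W : X.Opens) (hx : x ∈ W) (e : Γ(F, W)), Groth.Agent.M2.IsGenerator e ∧
      Amp.gm F x hx e = g := by
  have hFP := M1.isFP_of_isCoh hF
  haveI := M1.isFP_isQCoh hFP
  obtain ⟨U₀, hxU₀, e₀, rfl⟩ := F.presheaf.exists_germ_eq g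
  let L := LinearEquiv.ofBijective (LinearMap.toSpanSingleton (X.presheaf.stalk x) _ (Amp.gm F x hxU₀ e₀)) hg
  let φ : RefHull.StalkHom F (Coh.structureModule X) x :=
    (str x).toLinearMap.comp L.symm.toLinearMap
  obtain ⟨θ, hθ⟩ := evalStalk_surjective hFP (Coh.structureModule X) x φ
  obtain ⟨U₁, hxU₁, gs, rfl⟩ := (RefHull.homSh F (Coh.structureModule X)).presheaf.exists_germ_eq θ
  rw [RefHull.evalStalk_germ] at hθ
  obtain ⟨U, hU, hxU, hUle⟩ := exists_isAffineOpen_mem_and_subset (x := x) (U := U₀ ⊓ U₁) ⟨hxU₀, hxU₁⟩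
  haveI := M1.finite_sections hF.1 (M1.isFP_isFT hFP) hU
  obtain ⟨n, l, hl⟩ := Module.Finite.exists_fin' Γ(X, U) Γ(F, U)
  have hle₀ : U ≤ U₀ := fun y hy => (hUle hy).1
  have hle₁ : U ≤ U₁ := fun y hy => (hUle hy).2
  let e := F.presheaf.map (homOfLE hle₀).op e₀
  let gU := (RefHull.homSh F (Coh.structureModule X)).presheaf.map (homOfLE hle₁).op gs
  choose a ha _ using fun m : Γ(F, U) => exists_app (le_refl U) gU m
  have hgU : ∀ (y : X) (hy : y ∈ U), gU.1 ⟨y, hy⟩ = gs.1 ⟨y, hle₁ hy⟩ := fun y hy => rfl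
  have hcoef : ∀ (m : Γ(F, U)), X.presheaf.germ U x hxU (show Γ(X, U) from a m) • F.presheaf.germ U x hxU e =
      F.presheaf.germ U x hxU m := fun m => by
    rw [← str_symm_germ hxU (a m), ha m x hxU, hgU]
    show (str x).symm (gs.1 ⟨x, hxU₁⟩ _) • _ = _
    rw [hθ]
    show (str x).symm (str x (L.symm _)) • F.presheaf.germ U x hxU e = _
    rw [LinearEquiv.symm_apply_apply, TopCat.Presheaf.germ_res_apply]
    exact L.apply_symm_apply _
  let m : Option (Fin n) → Γ(F, U) := fun o => o.elim e fun i => l (Pi.single i 1)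
  have hone : X.presheaf.germ U x hxU (show Γ(X, U) from a e) = 1 := hg.1 (by
    show _ • _ = _ • _
    rw [one_smul]
    have := hcoef e
    rw [TopCat.Presheaf.germ_res_apply] at this
    exact this)
  have h0 : ∀ o, ∀ᶠ y in nhds x, ∀ hy : y ∈ U, X.presheaf.germ U y hy (show Γ(X, U) from a (m o)) •
      F.presheaf.germ U y hy e = F.presheaf.germ U y hy (m o) := fun o => by
    have hz : F.presheaf.germ U x hxU ((show Γ(X, U) from a (m o)) • e) = F.presheaf.germ U x hxU (m o) := by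
      rw [gsmul]; exact hcoef (m o)
    obtain ⟨W, hW, i₁, i₂, he⟩ := F.presheaf.germ_eq x hxU hxU _ _ hz
    refine Filter.mem_of_superset (W.isOpen.mem_nhds hW) fun y hy hyU => ?_
    rw [← gsmul, ← TopCat.Presheaf.germ_res_apply F.presheaf i₁ y hy, he, TopCat.Presheaf.germ_res_apply]
  have h1 : ∀ᶠ y in nhds x, ∀ hy : y ∈ U, X.presheaf.germ U y hy (show Γ(X, U) from a e) = 1 := by
    obtain ⟨W, hW, i₁, i₂, he⟩ := X.presheaf.germ_eq x hxU hxU (show Γ(X, U) from a e) 1 (by rw [hone, map_one])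
    refine Filter.mem_of_superset (W.isOpen.mem_nhds hW) fun y hy hyU => ?_
    rw [← TopCat.Presheaf.germ_res_apply X.presheaf i₁ y hy, he, TopCat.Presheaf.germ_res_apply, map_one]
  obtain ⟨W, hWs, hWo, hxW⟩ := mem_nhds_iff.1
    (Filter.inter_mem (Filter.inter_mem (Filter.eventually_all.2 h0) h1) (U.isOpen.mem_nhds hxU))
  have hWU : (⟨W, hWo⟩ : X.Opens) ≤ U := fun y hy => (hWs hy).2
  refine ⟨⟨W, hWo⟩, hxW, F.presheaf.map (homOfLE hWU).op e, isGenerator_of_gen fun y hy => ?_, ?_⟩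
  · have hyU := hWU hy
    show Amp.Gen (F.presheaf.germ _ y hy (F.presheaf.map (homOfLE hWU).op e))
    rw [TopCat.Presheaf.germ_res_apply]
    refine ⟨fun r r' h => ?_, fun v => ?_⟩
    · have h' := congrArg (fun z => (str y).symm (gU.1 ⟨y, hyU⟩ z)) h
      simp only [map_smul, ← ha e y hyU, str_symm_germ] at h'
      rwa [smul_eq_mul, smul_eq_mul, (hWs hy).1.2 hyU, mul_one, mul_one] at h'
    · obtain ⟨c, z, hc, he⟩ := M1.exists_germ_smul_eq F hU hyU v
      obtain ⟨u, hu⟩ := hc
      obtain ⟨w, rfl⟩ := hl z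
      refine ⟨(↑u⁻¹ : X.presheaf.stalk y) *
        ∑ i, X.presheaf.germ U y hyU (w i) * X.presheaf.germ U y hyU (show Γ(X, U) from a (m (some i))), ?_⟩
      show (_ * _) • F.presheaf.germ U y hyU e = v
      rw [mul_smul, Finset.sum_smul,
        Finset.sum_congr rfl fun i _ => show _ = X.presheaf.germ U y hyU (w i) •
          F.presheaf.germ U y hyU (l (Pi.single i 1)) by rw [mul_smul, (hWs hy).1.1 (some i) hyU]; rfl,
        ← germ_combination hyU l w, ← he, ← hu, ← mul_smul, Units.inv_mul, one_smul]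
  · show F.presheaf.germ _ x hxW _ = _
    rw [TopCat.Presheaf.germ_res_apply, TopCat.Presheaf.germ_res_apply]

variable [IsIntegral X]

theorem genInvertible_of_gen [IsLocallyNoetherian X] (hF : Coh.IsCoh F) {g : F.presheaf.stalk (genericPoint X)}
    (hg : Amp.Gen g) : RefHull.GenInvertible F := by
  obtain ⟨W, hW, e, he, -⟩ := exists_isGenerator_nhd hF hg
  refine ⟨W, W.isOpen.dense ⟨_, hW⟩, ?_⟩
  refine Twist.isInvertible_restrict F W.ι fun y => ⟨W, y.2, ?_⟩
  exact Twist.nonempty_restrict_iso F W e he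

theorem exists_gen_of_genInvertible (h : RefHull.GenInvertible F) :
    ∃ g : F.presheaf.stalk (genericPoint X), Amp.Gen g := by
  obtain ⟨U, hU, hinv⟩ := h
  obtain ⟨x, hx⟩ := hU.nonempty
  obtain ⟨D, hD, ⟨i⟩⟩ := hinv ⟨genericPoint X, (genericPoint_specializes x).mem_open U.isOpen hx⟩
  let D' : X.Opens := U.ι ''ᵁ D
  have hηD : genericPoint X ∈ D' := ⟨_, hD, rfl⟩
  have hr : Set.range D'.ι ⊆ Set.range (D.ι ≫ U.ι) := by
    rw [Scheme.Opens.range_ι]
    rintro _ ⟨z, hz, rfl⟩
    exact ⟨⟨z, hz⟩, rfl⟩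
  let iso : F.restrict D'.ι ≅ Coh.structureModule (D' : Scheme.{u}) :=
    (M1.restrictLiftIso F (D.ι ≫ U.ι) D'.ι hr).symm ≪≫
      (Scheme.Modules.restrictFunctor _).mapIso ((M1.restrictRestrictIso F U.ι D.ι (D.ι ≫ U.ι) rfl).symm ≪≫ i) ≪≫
      Scheme.Modules.restrictUnitIso _
  obtain ⟨e, he⟩ := Groth.Agent.M2.exists_generator iso
  exact ⟨_, Amp.gen_of_isGenerator he hηD⟩

end Groth.Agent.RH26
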