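import Groth.Agent.Lib.ModM1.Exact
import Groth.Agent.Lib.ModM1.Stalk
import Groth.Prelude.Def_RefHull

/-! # Sections and morphisms from families of germs -/

set_option autoImplicit false
universe u

set_option backward.isDefEq.respectTransparency.types false

open CategoryTheory AlgebraicGeometry TopologicalSpace Opposite

namespace Groth.Agent.RH26

variable {X : Scheme.{u}}

theorem gsmul (M : X.Modules) {U : X.Opens} {x : X} (hx : x ∈ U) (r : Γ(X, U)) (m : Γ(M, U)) :
    M.presheaf.germ U x hx (r • m) = X.presheaf.germ U x hx r • M.presheaf.germ U x hx m :=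
  M1.germ_smul M hx r m

theorem section_ext' (G : X.Modules) {U : X.Opens} {s t : Γ(G, U)}
    (h : ∀ y (hy : y ∈ U), G.presheaf.germ U y hy s = G.presheaf.germ U y hy t) : s = t :=
  TopCat.Presheaf.section_ext ⟨G.presheaf, G.isSheaf⟩ U s t h

theorem exists_section_of_germs (G : X.Modules) (U : X.Opens) (a : ∀ y : X, y ∈ U → G.presheaf.stalk y)
    (h : ∀ x ∈ U, ∃ (W : X.Opens) (_ : x ∈ W) (hWU : W ≤ U) (n : Γ(G, W)),
      ∀ (y : X) (hy : y ∈ W), G.presheaf.germ W y hy n = a y (hWU hy)) :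
    ∃! s : Γ(G, U), ∀ (y : X) (hy : y ∈ U), G.presheaf.germ U y hy s = a y hy := by
  choose W hxW hWU n hn using h
  obtain ⟨s, hs, -⟩ := TopCat.Sheaf.existsUnique_gluing' (⟨G.presheaf, G.isSheaf⟩ : TopCat.Sheaf Ab X)
    (fun x : U => W x.1 x.2) U (fun x => homOfLE (hWU x.1 x.2))
    (fun y hy => Opens.mem_iSup.2 ⟨⟨y, hy⟩, hxW y hy⟩) (fun x => n x.1 x.2) (fun i j => section_ext' G fun y hy => by
      rw [TopCat.Presheaf.germ_res_apply, TopCat.Presheaf.germ_res_apply, hn, hn])
  refine ⟨s, fun y hy => ?_, fun t ht => ?_⟩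
  · rw [← hn y hy y (hxW y hy), ← hs ⟨y, hy⟩, TopCat.Presheaf.germ_res_apply]
  · refine section_ext' G fun y hy => ?_
    rw [ht, ← hn y hy y (hxW y hy), ← hs ⟨y, hy⟩, TopCat.Presheaf.germ_res_apply]

/-- A family of stalk maps which sends sections to sections is a morphism. -/
theorem exists_hom_of_stalkFamily (F G : X.Modules) (f : ∀ x : X, RefHull.StalkHom F G x)
    (hf : ∀ (V : X.Opens) (m : Γ(F, V)) (x : X) (hx : x ∈ V), ∃ (W : X.Opens) (_ : x ∈ W) (hWV : W ≤ V)
      (n : Γ(G, W)), ∀ (y : X) (hy : y ∈ W),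
        G.presheaf.germ W y hy n = f y (F.presheaf.germ V y (hWV hy) m)) :
    ∃ φ : F ⟶ G, ∀ x, RefHull.stalkMapₗ φ x = f x := by
  choose s hs _ using fun (V : X.Opens) (m : Γ(F, V)) =>
    exists_section_of_germs G V (fun y hy => f y (F.presheaf.germ V y hy m)) (fun x hx => hf V m x hx)
  have hu : ∀ (V : X.Opens) (m : Γ(F, V)) (t : Γ(G, V)),
      (∀ y hy, G.presheaf.germ V y hy t = f y (F.presheaf.germ V y hy m)) → t = s V m := fun V m t ht =>
    section_ext' G fun y hy => by rw [ht, hs]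
  let φ : F ⟶ G := ⟨PresheafOfModules.homMk
    { app := fun V => AddCommGrpCat.ofHom
        { toFun := fun m => s V.unop m
          map_zero' := (hu _ _ 0 fun y hy =>
            (map_zero (G.presheaf.germ V.unop y hy).hom).trans
              ((congrArg (f y) (map_zero (F.presheaf.germ V.unop y hy).hom)).trans (map_zero (f y))).symm).symm
          map_add' := fun a b => (hu _ _ (s V.unop a + s V.unop b) fun y hy =>
            (map_add (G.presheaf.germ V.unop y hy).hom _ _).trans
              ((congrArg₂ (· + ·) (hs V.unop a y hy) (hs V.unop b y hy)).trans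
                ((map_add (f y) _ _).symm.trans
                  (congrArg (f y) (map_add (F.presheaf.germ V.unop y hy).hom a b).symm)))).symm }
      naturality := fun {V W} i => by
        ext m
        exact (hu W.unop (F.presheaf.map i m) (G.presheaf.map i (s V.unop m)) fun y hy => by
          rw [TopCat.Presheaf.germ_res_apply' G.presheaf i y hy, TopCat.Presheaf.germ_res_apply' F.presheaf i y hy, hs]).symm }
    (fun V r m => (hu _ _ _ fun y hy => by
      show G.presheaf.germ V.unop y hy ((show Γ(X, V.unop) from r) • s V.unop m) =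
        f y (F.presheaf.germ V.unop y hy ((show Γ(X, V.unop) from r) • (show Γ(F, V.unop) from m)))
      rw [gsmul, gsmul, hs, map_smul]).symm)⟩
  refine ⟨φ, fun x => LinearMap.ext fun v => ?_⟩
  obtain ⟨V, hV, m, rfl⟩ := F.presheaf.exists_germ_eq v
  rw [RefHull.stalkMapₗ_germ]
  exact hs V m x hV

theorem stalkMapₗ_comp {F G H : X.Modules} (φ : F ⟶ G) (ψ : G ⟶ H) (x : X) :
    RefHull.stalkMapₗ (φ ≫ ψ) x = (RefHull.stalkMapₗ ψ x).comp (RefHull.stalkMapₗ φ x) := by
  refine LinearMap.ext fun v => ?_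
  obtain ⟨V, hV, m, rfl⟩ := F.presheaf.exists_germ_eq v
  rw [LinearMap.comp_apply, RefHull.stalkMapₗ_germ, RefHull.stalkMapₗ_germ, RefHull.stalkMapₗ_germ]
  rfl

theorem isIso_iff_stalkMapₗ {F G : X.Modules} (φ : F ⟶ G) :
    IsIso φ ↔ ∀ x, Function.Bijective (RefHull.stalkMapₗ φ x) :=
  M1.isIso_iff_stalk φ

theorem stalkMapₗ_stalkSpecializes {F G : X.Modules} (φ : F ⟶ G) {x ξ : X} (h : ξ ⤳ x) (v : F.presheaf.stalk x) :
    G.presheaf.stalkSpecializes h (RefHull.stalkMapₗ φ x v) =
      RefHull.stalkMapₗ φ ξ (F.presheaf.stalkSpecializes h v) := by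
  obtain ⟨V, hV, m, rfl⟩ := F.presheaf.exists_germ_eq v
  rw [RefHull.stalkMapₗ_germ, TopCat.Presheaf.germ_stalkSpecializes_apply,
    TopCat.Presheaf.germ_stalkSpecializes_apply, RefHull.stalkMapₗ_germ]

end Groth.Agent.RH26
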