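import Groth.Agent.Lib.RefHull26.Extend
import Groth.Agent.Lib.ParaF27.DepthTwo

/-! # Reflexive modules across closed subsets of depth two -/

set_option autoImplicit false
universe u

set_option backward.isDefEq.respectTransparency.types false

open CategoryTheory AlgebraicGeometry TopologicalSpace Opposite

namespace Groth.Agent.RH26

variable {X : Scheme.{u}}

/-- The semilinear identification of the stalks of a restriction. -/
theorem exists_restrict_stalk_equiv (F : X.Modules) (U : X.Opens) (z : (U : Scheme.{u})) :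
    ∃ e : (F.restrict U.ι).presheaf.stalk z ≃+ F.presheaf.stalk z.1,
      ∀ (a : (U : Scheme.{u}).presheaf.stalk z) (v : (F.restrict U.ι).presheaf.stalk z),
        e (a • v) = (U.stalkIso z).hom a • e v := by
  let i := (Scheme.Modules.restrictStalkNatIso U.ι z).app F
  let e : (F.restrict U.ι).presheaf.stalk z ≃+ F.presheaf.stalk z.1 := i.addCommGroupIsoToAddEquiv
  refine ⟨e, fun a v => ?_⟩
  obtain ⟨W, hW, r, rfl⟩ := (U : Scheme.{u}).presheaf.exists_germ_eq a
  obtain ⟨W', hW', m, rfl⟩ := (F.restrict U.ι).presheaf.exists_germ_eq v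
  have key : ∀ (V : (U : Scheme.{u}).Opens) (hV : z ∈ V) (t : Γ(F.restrict U.ι, V)),
      e ((F.restrict U.ι).presheaf.germ V z hV t) =
        F.presheaf.germ (U.ι ''ᵁ V) z.1 ⟨z, hV, rfl⟩ ((F.restrictAppIso U.ι V).hom t) := fun V hV t =>
    ConcreteCategory.congr_hom (Scheme.Modules.germ_restrictStalkNatIso_hom_app U.ι z F hV) t
  have hstalk : ∀ (V : (U : Scheme.{u}).Opens) (hV : z ∈ V) (t : Γ((U : Scheme.{u}), V)),
      (U.stalkIso z).hom ((U : Scheme.{u}).presheaf.germ V z hV t) =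
        X.presheaf.germ (U.ι ''ᵁ V) z.1 ⟨z, hV, rfl⟩ (show Γ(X, U.ι ''ᵁ V) from t) := fun V hV t =>
    ConcreteCategory.congr_hom (Scheme.Opens.germ_stalkIso_hom U z hV) t
  rw [← TopCat.Presheaf.germ_res_apply (U : Scheme.{u}).presheaf (homOfLE (inf_le_left : W ⊓ W' ≤ W)) z ⟨hW, hW'⟩ r,
    ← TopCat.Presheaf.germ_res_apply (F.restrict U.ι).presheaf (homOfLE (inf_le_right : W ⊓ W' ≤ W')) z ⟨hW, hW'⟩ m,
    ← gsmul, key, key, hstalk, ← gsmul]
  congr 1
  exact M1.restrict_ι_smul (M := F) _ _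

theorem isReflexive_of_ringEquiv {A B M N : Type u} [CommRing A] [CommRing B] [AddCommGroup M] [Module A M]
    [AddCommGroup N] [Module B N] (σ : A ≃+* B) (e : M ≃+ N) (h : ∀ (a : A) (m : M), e (a • m) = σ a • e m)
    [Module.IsReflexive B N] : Module.IsReflexive A M := by
  letI : Algebra A B := σ.toRingHom.toAlgebra
  let pull : Module.Dual B N → Module.Dual A M := fun φ =>
    { toFun := fun m => σ.symm (φ (e m))
      map_add' := fun m m' => by rw [map_add, map_add, map_add]
      map_smul' := fun a m => by rw [h, map_smul, smul_eq_mul, map_mul, RingEquiv.symm_apply_apply]; rfl }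
  let push : Module.Dual A M → Module.Dual B N := fun φ =>
    { toFun := fun n => σ (φ (e.symm n))
      map_add' := fun n n' => by rw [map_add, map_add, map_add]
      map_smul' := fun b n => by
        have hb : e.symm (b • n) = σ.symm b • e.symm n := e.injective (by
          rw [h, AddEquiv.apply_symm_apply, AddEquiv.apply_symm_apply, RingEquiv.apply_symm_apply])
        rw [hb, map_smul, smul_eq_mul, map_mul, RingEquiv.apply_symm_apply]; rfl }
  have hpp : ∀ φ, pull (push φ) = φ := fun φ => LinearMap.ext fun m => by simp [pull, push]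
  have hpp' : ∀ φ, push (pull φ) = φ := fun φ => LinearMap.ext fun m => by simp [pull, push]
  refine ⟨fun m m' hm => e.injective ((Module.bijective_dual_eval B N).1 (LinearMap.ext fun φ => σ.symm.injective ?_)), fun Φ => ?_⟩
  · exact LinearMap.congr_fun hm (pull φ)
  · let Ψ : Module.Dual B (Module.Dual B N) :=
      { toFun := fun φ => σ (Φ (pull φ))
        map_add' := fun φ ψ => by
          rw [show pull (φ + ψ) = pull φ + pull ψ from LinearMap.ext fun m => by simp [pull], map_add, map_add]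
        map_smul' := fun b φ => by
          rw [show pull (b • φ) = σ.symm b • pull φ from LinearMap.ext fun m => by simp [pull], map_smul, smul_eq_mul,
            map_mul, RingEquiv.apply_symm_apply]; rfl }
    obtain ⟨n, hn⟩ := (Module.bijective_dual_eval B N).2 Ψ
    refine ⟨e.symm n, LinearMap.ext fun φ => σ.injective ?_⟩
    have := LinearMap.congr_fun hn (push φ)
    simp only [Ψ, LinearMap.coe_mk, AddHom.coe_mk, hpp] at this
    exact this

theorem isReflexiveAt_restrict_iff (F : X.Modules) (U : X.Opens) (z : (U : Scheme.{u})) :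
    RefHull.IsReflexiveAt (F.restrict U.ι) z ↔ RefHull.IsReflexiveAt F z.1 := by
  obtain ⟨e, he⟩ := exists_restrict_stalk_equiv F U z
  let σ := (U.stalkIso z).commRingCatIsoToRingEquiv
  constructor
  · intro h
    haveI : Module.IsReflexive ((U : Scheme.{u}).presheaf.stalk z) ((F.restrict U.ι).presheaf.stalk z) := h
    exact isReflexive_of_ringEquiv σ.symm e.symm fun a v => e.injective (by
      rw [he, AddEquiv.apply_symm_apply, AddEquiv.apply_symm_apply]
      exact congrArg (· • v) (σ.apply_symm_apply a).symm)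
  · intro h
    haveI : Module.IsReflexive (X.presheaf.stalk z.1) (F.presheaf.stalk z.1) := h
    exact isReflexive_of_ringEquiv σ e he

variable [IsIntegral X] {F : X.Modules}

/-- Functions extend across points of depth two. -/
theorem mem_range_sp_of_depth [IsLocallyNoetherian X] {U : X.Opens}
    (hU : ∀ x : X, x ∉ U → (2 : ℕ∞) ≤ LocCoh.depth (X.presheaf.stalk x) (X.presheaf.stalk x)) (y : X)
    (c : X.presheaf.stalk (genericPoint X))
    (h : ∀ ξ : X, ξ ⤳ y → ξ ∈ U → ∃ b, X.presheaf.stalkSpecializes (gsp ξ) b = c) :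
    ∃ b, X.presheaf.stalkSpecializes (gsp y) b = c := by
  let I : Ideal (X.presheaf.stalk y) :=
    { carrier := {r | ∃ b, X.presheaf.stalkSpecializes (gsp y) b = X.presheaf.stalkSpecializes (gsp y) r * c}
      add_mem' := by
        rintro r s ⟨b, hb⟩ ⟨b', hb'⟩
        exact ⟨b + b', by rw [map_add, map_add, add_mul, hb, hb']⟩
      zero_mem' := ⟨0, by rw [map_zero, zero_mul]⟩
      smul_mem' := by
        rintro t r ⟨b, hb⟩
        exact ⟨t * b, by rw [smul_eq_mul, map_mul, map_mul, hb, mul_assoc]⟩ }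
  by_contra hc
  have hI : I ≠ ⊤ := fun h0 => hc (by
    obtain ⟨b, hb⟩ : (1 : X.presheaf.stalk y) ∈ I := h0 ▸ Submodule.mem_top
    exact ⟨b, by rw [hb, map_one, one_mul]⟩)
  obtain ⟨m, hm, hIm⟩ := Ideal.exists_le_maximal I hI
  obtain ⟨p, hp, -⟩ := Ideal.exists_minimalPrimes_le hIm
  haveI := hp.isPrime
  obtain ⟨ξ, hξ, hpξ⟩ := DivDesc12.exists_primeAt_eq y p
  have hpI : I ≤ DivDesc12.primeAt hξ := by rw [hpξ]; exact hp.1.2
  have hno : ¬ ∃ b, X.presheaf.stalkSpecializes (gsp ξ) b = c := by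
    rintro ⟨b, hb⟩
    letI := (DivDesc12.sp hξ).toAlgebra
    haveI := LocFact12.isLocalization_sp hξ
    obtain ⟨⟨r, s⟩, hs⟩ := IsLocalization.surj (DivDesc12.primeAt hξ).primeCompl b
    refine s.2 (hpI ⟨r, ?_⟩)
    rw [← hb, ← sp_trans' hξ (gsp ξ) r, ← sp_trans' hξ (gsp ξ) s.1, ← map_mul, mul_comm]
    exact congrArg _ hs.symm
  have hξU : ξ ∉ U := fun hu => hno (h ξ hξ hu)
  let J : Ideal (X.presheaf.stalk ξ) :=
    { carrier := {r | ∃ b, X.presheaf.stalkSpecializes (gsp ξ) b = X.presheaf.stalkSpecializes (gsp ξ) r * c}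
      add_mem' := by
        rintro r s ⟨b, hb⟩ ⟨b', hb'⟩
        exact ⟨b + b', by rw [map_add, map_add, add_mul, hb, hb']⟩
      zero_mem' := ⟨0, by rw [map_zero, zero_mul]⟩
      smul_mem' := by
        rintro t r ⟨b, hb⟩
        exact ⟨t * b, by rw [smul_eq_mul, map_mul, map_mul, hb, mul_assoc]⟩ }
  obtain ⟨a, b, ⟨u, hu⟩, ⟨v, hv⟩, hareg, hab⟩ :=
    (Groth.Agent.ParaF27.pair2_of_depth (X.presheaf.stalk ξ) (hU ξ hξU)).dvd J fun q hq hqm hJq => hqm (by
      letI := (DivDesc12.sp hξ).toAlgebra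
      haveI := LocFact12.isLocalization_sp hξ
      haveI := hq
      let q' : Ideal (X.presheaf.stalk y) := Ideal.comap (DivDesc12.sp hξ) q
      have hle : I ≤ q' := fun r hr => hJq (by
        obtain ⟨b, hb⟩ := hr
        exact ⟨X.presheaf.stalkSpecializes hξ b, by
          rw [sp_trans', hb]
          exact congrArg (· * c) (sp_trans' hξ (gsp ξ) r).symm⟩)
      have hq'p : q' ≤ DivDesc12.primeAt hξ := fun r hr => by
        by_contra hn
        exact hq.ne_top (Ideal.eq_top_of_isUnit_mem _ hr (IsLocalization.map_units (M := (DivDesc12.primeAt hξ).primeCompl) (X.presheaf.stalk ξ) ⟨r, hn⟩))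
      have heq : q' = DivDesc12.primeAt hξ := le_antisymm hq'p (by
        rw [hpξ] at hq'p ⊢
        exact hp.2 ⟨Ideal.IsPrime.comap _, hle⟩ hq'p)
      refine le_antisymm (IsLocalRing.le_maximalIdeal hq.ne_top) fun z hz => ?_
      obtain ⟨⟨r, s⟩, hs⟩ := IsLocalization.surj (DivDesc12.primeAt hξ).primeCompl z
      have hr : r ∈ q' := heq ▸ (by
        by_contra hn
        have hunit : IsUnit (algebraMap (X.presheaf.stalk y) (X.presheaf.stalk ξ) r) :=
          IsLocalization.map_units (M := (DivDesc12.primeAt hξ).primeCompl) _ ⟨r, hn⟩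
        rw [← hs] at hunit
        exact hz (isUnit_of_mul_isUnit_left hunit))
      have : z * algebraMap (X.presheaf.stalk y) (X.presheaf.stalk ξ) s ∈ q := hs ▸ hr
      exact (hq.mem_or_mem this).resolve_right fun hsq => hq.ne_top
        (Ideal.eq_top_of_isUnit_mem _ hsq (IsLocalization.map_units (M := (DivDesc12.primeAt hξ).primeCompl) (X.presheaf.stalk ξ) s)))
  obtain ⟨w, hw⟩ := hab u ⟨v, sp_injective ξ (by rw [map_mul, map_mul, hu, hv]; ring)⟩
  have ha0 : X.presheaf.stalkSpecializes (gsp ξ) a ≠ 0 := fun h0 =>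
    zero_ne_one (α := X.presheaf.stalk ξ) (hareg (show a * 0 = a * 1 by
      rw [sp_injective ξ (h0.trans (map_zero _).symm), zero_mul, zero_mul]))
  refine hno ⟨w, ?_⟩
  obtain ⟨ai, hai⟩ := (isField_η (X := X)).mul_inv_cancel ha0
  rw [hw, map_mul] at hu
  calc X.presheaf.stalkSpecializes (gsp ξ) w
      = ai * (X.presheaf.stalkSpecializes (gsp ξ) a * X.presheaf.stalkSpecializes (gsp ξ) w) := by
        rw [← mul_assoc, mul_comm ai, hai, one_mul]
    _ = c := by rw [hu, ← mul_assoc, mul_comm ai, hai, one_mul]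

theorem inStalk_dual_of_depth [IsLocallyNoetherian X] (hF : Coh.IsCoh F) {U : X.Opens}
    (hU : ∀ x : X, x ∉ U → (2 : ℕ∞) ≤ LocCoh.depth (X.presheaf.stalk x) (X.presheaf.stalk x)) (x : X)
    {a : (RefHull.dual F).presheaf.stalk (genericPoint X)}
    (ha : ∀ ξ : X, ξ ⤳ x → ξ ∈ U → InStalk (RefHull.dual F) ξ a) : InStalk (RefHull.dual F) x a := by
  have hval : ∀ v, ∃ b, X.presheaf.stalkSpecializes (gsp x) b =
      dualEquiv hF _ a (F.presheaf.stalkSpecializes (gsp x) v) := fun v =>
    mem_range_sp_of_depth hU x _ fun ξ hξ hu => by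
      obtain ⟨θ, hθ⟩ := ha ξ hξ hu
      exact ⟨dualEquiv hF ξ θ (F.presheaf.stalkSpecializes hξ v), by
        rw [← dualEquiv_stalkSpecializes hF, hθ, sp_trans]⟩
  choose b hb using hval
  let φ : Module.Dual (X.presheaf.stalk x) (F.presheaf.stalk x) :=
    { toFun := b
      map_add' := fun v w => sp_injective x (by rw [map_add, hb, hb, hb, map_add, map_add])
      map_smul' := fun r v => sp_injective x (by
        rw [RingHom.id_apply, smul_eq_mul, map_mul, hb, hb, Cyc26.stalkSpecializes_smul, map_smul, smul_eq_mul]) }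
  refine ⟨(dualEquiv hF x).symm φ, (dualEquiv hF _).injective (LinearMap.ext fun w => ?_)⟩
  obtain ⟨r, v, hr, he⟩ := exists_smul_eq_sp hF.1 (gsp x) w
  refine hr.mul_left_cancel ?_
  rw [← smul_eq_mul, ← map_smul, he, dualEquiv_stalkSpecializes hF, LinearEquiv.apply_symm_apply]
  refine (hb v).trans ?_
  rw [← he, map_smul, smul_eq_mul]

theorem inStalk_of_depth [IsLocallyNoetherian X] (hF : Coh.IsCoh F) {U : X.Opens}
    (hU : ∀ x : X, x ∉ U → (2 : ℕ∞) ≤ LocCoh.depth (X.presheaf.stalk x) (X.presheaf.stalk x)) {x : X}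
    (hx : RefHull.IsReflexiveAt F x) {a : F.presheaf.stalk (genericPoint X)}
    (ha : ∀ ξ : X, ξ ⤳ x → ξ ∈ U → InStalk F ξ a) : InStalk F x a := by
  have hη := (bijective_bidual_stalk_iff hF _).2 (isReflexiveAt_generic hF)
  obtain ⟨v', hv'⟩ := inStalk_dual_of_depth (isCoh_dual hF) hU x
    (a := RefHull.stalkMapₗ (RefHull.bidualMap F) _ a) fun ξ hξ hu => by
      obtain ⟨v, hv⟩ := ha ξ hξ hu
      exact ⟨RefHull.stalkMapₗ (RefHull.bidualMap F) ξ v, by rw [stalkMapₗ_stalkSpecializes, hv]⟩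
  obtain ⟨v, rfl⟩ := ((bijective_bidual_stalk_iff hF x).2 hx).2 v'
  exact ⟨v, hη.1 (by rw [← stalkMapₗ_stalkSpecializes, hv'])⟩

theorem genericPoint_mem_of_depth {U : X.Opens}
    (hU : ∀ x : X, x ∉ U → (2 : ℕ∞) ≤ LocCoh.depth (X.presheaf.stalk x) (X.presheaf.stalk x)) :
    genericPoint X ∈ U := by
  by_contra hn
  obtain ⟨a, b, ha, -, hareg, -⟩ := Groth.Agent.ParaF27.pair2_of_depth _ (hU _ hn)
  rw [IsLocalRing.mem_maximalIdeal, mem_nonunits_iff] at ha
  have h0 : a = 0 := by
    by_contra h0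
    obtain ⟨c, hc⟩ := (isField_η (X := X)).mul_inv_cancel h0
    exact ha (IsUnit.of_mul_eq_one _ hc)
  exact zero_ne_one (α := X.presheaf.stalk (genericPoint X)) (hareg (show a * 0 = a * 1 by rw [h0, zero_mul, zero_mul]))

theorem isIso_unit_of_depth [IsLocallyNoetherian X] (hF : Coh.IsCoh F) {U : X.Opens}
    (hU : ∀ x : X, x ∉ U → (2 : ℕ∞) ≤ LocCoh.depth (X.presheaf.stalk x) (X.presheaf.stalk x))
    (hr : ∀ x : X, RefHull.IsReflexiveAt F x) : IsIso ((Scheme.Modules.restrictAdjunction U.ι).unit.app F) := by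
  have hinj := fun y => injective_sp_of_isReflexiveAt hF (hr y)
  have hη := genericPoint_mem_of_depth hU
  refine (isIso_unit_iff U).2 fun W => ⟨fun s t e => section_ext' F fun y hy => hinj y ?_, fun t => ?_⟩
  · have hη' := (mem_image_preimage U W).2 ⟨mem_of_genericPoint W hy, hη⟩
    have e' := congrArg (F.presheaf.germ _ _ hη') e
    rw [TopCat.Presheaf.germ_res_apply, TopCat.Presheaf.germ_res_apply] at e'
    rw [TopCat.Presheaf.germ_stalkSpecializes_apply, TopCat.Presheaf.germ_stalkSpecializes_apply]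
    exact e'
  · rcases (W : Set X).eq_empty_or_nonempty with h0 | ⟨x₀, hx₀⟩
    · refine ⟨0, section_ext' F fun y hy => ?_⟩
      exact ((Set.eq_empty_iff_forall_notMem.1 h0) y ((mem_image_preimage U W).1 hy).1).elim
    · let a := F.presheaf.germ _ _ ((mem_image_preimage U W).2 ⟨mem_of_genericPoint W hx₀, hη⟩) t
      obtain ⟨s, hs⟩ := exists_section_of_inStalk W (fun y _ => hinj y) a fun y hy =>
        inStalk_of_depth hF hU (hr y) fun ξ hξ hu =>
          ⟨F.presheaf.germ _ ξ ((mem_image_preimage U W).2 ⟨hξ.mem_open W.isOpen hy, hu⟩) t,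
            TopCat.Presheaf.germ_stalkSpecializes_apply _ _ _ _⟩
      refine ⟨s, section_ext' F fun y hy => hinj y ?_⟩
      rw [TopCat.Presheaf.germ_res_apply, hs, TopCat.Presheaf.germ_stalkSpecializes_apply]

end Groth.Agent.RH26
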