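import Groth.Agent.Lib.RefHull26.Closed
import Groth.Agent.Lib.RegLoc.UFD

/-! # Sections across closed subsets of codimension two -/

set_option autoImplicit false
universe u

set_option backward.isDefEq.respectTransparency.types false

open CategoryTheory AlgebraicGeometry TopologicalSpace Opposite

namespace Groth.Agent.RH26

variable {X : Scheme.{u}}

theorem isNormalScheme_of_regular (hreg : ∀ x : X, IsRegularLocalRing (X.presheaf.stalk x)) :
    Pi1.IsNormalScheme X := fun x => by
  haveI := hreg x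
  haveI := Groth.Agent.RegLoc.isDomain (X.presheaf.stalk x)
  haveI := Groth.Agent.RegLoc.ufd_of_isRegularLocalRing (X.presheaf.stalk x)
  exact ⟨inferInstance, inferInstance⟩

theorem dim_mono {ξ y : X} (h : ξ ⤳ y) : ringKrullDim (X.presheaf.stalk ξ) ≤ ringKrullDim (X.presheaf.stalk y) := by
  rw [ringKrullDim_stalk_eq_coheight, ringKrullDim_stalk_eq_coheight]
  exact WithBot.coe_le_coe.2 (Order.coheight_anti h)

variable [IsIntegral X] {F : X.Modules}

theorem mem_of_genericPoint (U : X.Opens) {y : X} (hy : y ∈ U) : genericPoint X ∈ U :=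
  (genericPoint_specializes y).mem_open U.isOpen hy

theorem eq_genericPoint_or_one_le (y : X) :
    y = genericPoint X ∨ (1 : WithBot ℕ∞) ≤ ringKrullDim (X.presheaf.stalk y) := by
  rw [or_iff_not_imp_left]
  intro hy
  rw [ringKrullDim_stalk_eq_coheight]
  refine WithBot.one_le_coe.2 (Order.one_le_iff_pos.2 (Order.coheight_pos.2 fun hmax => hy ?_))
  exact ((genericPoint_specializes y).antisymm (hmax (genericPoint_specializes y))).eq.symm

/-- The open set of points where a generic value is in the stalk. -/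
theorem isOpen_inStalk (a : F.presheaf.stalk (genericPoint X)) : IsOpen {y : X | InStalk F y a} := by
  refine isOpen_iff_forall_mem_open.2 fun y hy => ?_
  obtain ⟨v, hv⟩ := hy
  obtain ⟨W, hW, m, rfl⟩ := F.presheaf.exists_germ_eq v
  refine ⟨W, fun z hz => ⟨F.presheaf.germ W z hz m, ?_⟩, W.isOpen, hW⟩
  rw [TopCat.Presheaf.germ_stalkSpecializes_apply, ← hv, TopCat.Presheaf.germ_stalkSpecializes_apply]

/-- Generic values which are in every stalk over an open set come from a section. -/
theorem exists_section_of_inStalk (U : X.Opens) (hinj : ∀ y ∈ U, Function.Injective (F.presheaf.stalkSpecializes (gsp y)))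
    (a : F.presheaf.stalk (genericPoint X)) (h : ∀ y ∈ U, InStalk F y a) :
    ∃ s : Γ(F, U), ∀ (y : X) (hy : y ∈ U), F.presheaf.stalkSpecializes (gsp y) (F.presheaf.germ U y hy s) = a := by
  choose v hv using h
  obtain ⟨s, hs, -⟩ := exists_section_of_germs F U v fun y hy => by
    obtain ⟨W, hW, m, hm⟩ := F.presheaf.exists_germ_eq (v y hy)
    refine ⟨W ⊓ U, ⟨hW, hy⟩, inf_le_right, F.presheaf.map (homOfLE inf_le_left).op m, fun z hz => hinj z hz.2 ?_⟩
    rw [TopCat.Presheaf.germ_res_apply, hv, TopCat.Presheaf.germ_stalkSpecializes_apply, ← hv y hy, ← hm,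
      TopCat.Presheaf.germ_stalkSpecializes_apply]
  exact ⟨s, fun y hy => by rw [hs, hv]⟩

/-- A value which is in all codimension one stalks under `x` is in the stalks of codimension at most one near `x`. -/
theorem exists_nhd_inStalk [IsLocallyNoetherian X] (x : X) (a : F.presheaf.stalk (genericPoint X))
    (h : ∀ ξ : X, ξ ⤳ x → ringKrullDim (X.presheaf.stalk ξ) = 1 → InStalk F ξ a) :
    ∃ W : X.Opens, x ∈ W ∧ ∀ y ∈ W, ¬ InStalk F y a → (2 : WithBot ℕ∞) ≤ ringKrullDim (X.presheaf.stalk y) := by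
  obtain ⟨U, hU, hxU, -⟩ := exists_isAffineOpen_mem_and_subset (x := x) (U := (⊤ : X.Opens)) trivial
  haveI := IsLocallyNoetherian.component_noetherian (X := X) ⟨U, hU⟩
  haveI : NoetherianSpace U := noetherianSpace_of_isAffineOpen U hU
  let Z : Closeds U := ⟨{y : U | ¬ InStalk F y.1 a},
    ((isOpen_inStalk a).preimage continuous_subtype_val).isClosed_compl⟩
  obtain ⟨S, hSi, hS⟩ := NoetherianSpace.exists_finset_irreducible Z
  let B : Set U := ⋃ C ∈ {C ∈ (S : Set (Closeds U)) | (⟨x, hxU⟩ : U) ∉ C}, (C : Set U)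
  have hB : IsClosed B := (S.finite_toSet.subset fun C hC => hC.1).isClosed_biUnion fun C _ => C.isClosed
  refine ⟨⟨Subtype.val '' Bᶜ, U.isOpen.isOpenMap_subtype_val _ hB.isOpen_compl⟩, ⟨⟨x, hxU⟩, ?_, rfl⟩, ?_⟩
  · intro hx
    obtain ⟨C, hC, hxC⟩ := Set.mem_iUnion₂.1 hx
    exact hC.2 hxC
  rintro _ ⟨y, hyB, rfl⟩ hy
  have hyZ : y ∈ ((S.sup id : Closeds U) : Set U) := hS ▸ (show y ∈ (Z : Set U) from hy)
  obtain ⟨C, hCS, hyC⟩ : ∃ C ∈ S, y ∈ C := by
    rw [Closeds.coe_finset_sup, Finset.sup_set_eq_biUnion] at hyZ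
    obtain ⟨C, hC, hy⟩ := Set.mem_iUnion₂.1 hyZ
    exact ⟨C, hC, hy⟩
  have hxC : (⟨x, hxU⟩ : U) ∈ C := by
    by_contra hxC
    exact hyB (Set.mem_iUnion₂.2 ⟨C, ⟨hCS, hxC⟩, hyC⟩)
  have hirr : IsIrreducible (C : Set U) := hSi ⟨C, hCS⟩
  have hgen := hirr.isGenericPoint_genericPoint C.isClosed
  have hmem := hgen.mem
  have hbad : ¬ InStalk F hirr.genericPoint.1 a := by
    have : hirr.genericPoint ∈ (Z : Set U) := by
      rw [hS]
      exact (Finset.le_sup (f := id) hCS : C ≤ S.sup id) hmem
    exact this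
  have hx' : hirr.genericPoint.1 ⤳ x := (hgen.specializes hxC).map continuous_subtype_val
  have hy' : hirr.genericPoint.1 ⤳ y.1 := (hgen.specializes hyC).map continuous_subtype_val
  refine le_trans ?_ (dim_mono hy')
  rcases eq_genericPoint_or_one_le hirr.genericPoint.1 with h0 | h1
  · refine absurd ?_ hbad
    rw [h0]
    exact ⟨a, by rw [TopCat.Presheaf.stalkSpecializes_refl]; rfl⟩
  · rcases h1.lt_or_eq with h2 | h2
    · rw [ringKrullDim_stalk_eq_coheight] at h2 ⊢
      have h3 := Order.add_one_le_of_lt (WithBot.coe_lt_coe.1 h2)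
      rw [one_add_one_eq_two] at h3
      exact WithBot.coe_le_coe.2 h3
    · exact absurd (h _ hx' h2.symm) hbad

/-- Torsion-free modules with the extension property are determined in codimension one. -/
theorem closed1_of_extend [IsLocallyNoetherian X]
    (hinj : ∀ x : X, Function.Injective (F.presheaf.stalkSpecializes (gsp x)))
    (hext : ∀ (U V : X.Opens) (hVU : V ≤ U),
      (∀ x : X, x ∈ U → x ∉ V → (2 : WithBot ℕ∞) ≤ ringKrullDim (X.presheaf.stalk x)) →
      Function.Surjective (F.presheaf.map (homOfLE hVU).op)) : Closed1 F := by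
  refine ⟨hinj, fun x a h => ?_⟩
  obtain ⟨W, hxW, hW⟩ := exists_nhd_inStalk x a h
  let V : X.Opens := W ⊓ ⟨_, isOpen_inStalk a⟩
  have hbig : ∀ y, y ∈ W → y ∉ V → (2 : WithBot ℕ∞) ≤ ringKrullDim (X.presheaf.stalk y) := fun y hy hyV =>
    hW y hy fun hya => hyV ⟨hy, hya⟩
  obtain ⟨s, hs⟩ := exists_section_of_inStalk V (fun y _ => hinj y) a fun y hy => hy.2
  obtain ⟨t, rfl⟩ := hext W V inf_le_left hbig s
  have hη : genericPoint X ∈ V := by
    by_contra hη
    have h0 := hbig _ (mem_of_genericPoint W hxW) hη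
    rw [ringKrullDim_eq_zero_of_isField
      (isField_stalk_of_closure_mem_irreducibleComponents X _ (by simp [irreducibleComponents_eq_singleton]))] at h0
    exact absurd h0 (by decide)
  refine ⟨F.presheaf.germ W x hxW t, ?_⟩
  rw [← hs _ hη, TopCat.Presheaf.germ_res_apply, TopCat.Presheaf.germ_stalkSpecializes_apply,
    TopCat.Presheaf.germ_stalkSpecializes_apply]

/-- Sections of a determined-in-codimension-one module extend across codimension two. -/
theorem bijective_res_of_closed1 (hF : Closed1 F) (U V : X.Opens) (hVU : V ≤ U)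
    (h : ∀ x : X, x ∈ U → x ∉ V → (2 : WithBot ℕ∞) ≤ ringKrullDim (X.presheaf.stalk x)) :
    Function.Bijective (F.presheaf.map (homOfLE hVU).op) := by
  have hη : ∀ {x}, x ∈ U → genericPoint X ∈ V := fun {x} hx => by
    by_contra hη
    have h0 := h _ (mem_of_genericPoint U hx) hη
    rw [ringKrullDim_eq_zero_of_isField
      (isField_stalk_of_closure_mem_irreducibleComponents X _ (by simp [irreducibleComponents_eq_singleton]))] at h0
    exact absurd h0 (by decide)
  refine ⟨fun s t e => section_ext' F fun y hy => hF.1 y ?_, fun t => ?_⟩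
  · have e' := congrArg (F.presheaf.germ V _ (hη hy)) e
    rw [TopCat.Presheaf.germ_res_apply, TopCat.Presheaf.germ_res_apply] at e'
    rw [TopCat.Presheaf.germ_stalkSpecializes_apply, TopCat.Presheaf.germ_stalkSpecializes_apply]
    exact e'
  · rcases (U : Set X).eq_empty_or_nonempty with h0 | ⟨x₀, hx₀⟩
    · refine ⟨0, section_ext' F fun y hy => ?_⟩
      exact ((Set.eq_empty_iff_forall_notMem.1 h0) y (hVU hy)).elim
    · let a := F.presheaf.germ V _ (hη hx₀) t
      have hin : ∀ y ∈ V, InStalk F y a := fun y hy =>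
        ⟨F.presheaf.germ V y hy t, TopCat.Presheaf.germ_stalkSpecializes_apply _ _ _ _⟩
      obtain ⟨s, hs⟩ := exists_section_of_inStalk U (fun y _ => hF.1 y) a fun y hy =>
        hF.2 y a fun ξ hξ h1 => hin ξ (by
          by_contra hξV
          have h2 := h ξ (hξ.mem_open U.isOpen hy) hξV
          rw [h1] at h2
          exact absurd h2 (by decide))
      refine ⟨s, section_ext' F fun y hy => hF.1 y ?_⟩
      rw [TopCat.Presheaf.germ_res_apply, hs, TopCat.Presheaf.germ_stalkSpecializes_apply]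

end Groth.Agent.RH26
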