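import Mathlib
import Groth.Agent.Lib.RegLoc.GlobalDim
import Groth.Agent.Lib.RegLoc.UFD
import Groth.Agent.Lib.DimInter18.Basic

/-! # Reflexive modules over domains -/

set_option autoImplicit false
universe u

open CategoryTheory TensorProduct

namespace Groth.Agent.RH26

variable {R : Type u} [CommRing R] [IsDomain R] [IsNoetherianRing R]
variable {M N : Type u} [AddCommGroup M] [Module R M] [AddCommGroup N] [Module R N]

theorem finite_dual [Module.Finite R M] : Module.Finite R (Module.Dual R M) := by
  obtain ⟨n, l, hl⟩ := Module.Finite.exists_fin' R M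
  exact Module.Finite.of_injective (LinearMap.dualMap l) (LinearMap.dualMap_injective_of_surjective hl)

omit [IsNoetherianRing R] in
/-- An element of a finite module killed by all functionals is torsion. -/
theorem exists_smul_eq_zero_of_forall_dual [Module.Finite R M] {q : M} (h : ∀ φ : Module.Dual R M, φ q = 0) :
    ∃ r : R, r ≠ 0 ∧ r • q = 0 := by
  obtain ⟨b, g, hg⟩ := DimInter18.exists_separating_functionals R (M ⧸ Submodule.torsion R M)
  have hz : g (Submodule.Quotient.mk q) = 0 := funext fun i =>
    h (((LinearMap.proj i).comp g).comp (Submodule.torsion R M).mkQ)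
  rw [← map_zero g] at hz
  obtain ⟨r, hr⟩ := (Submodule.mem_torsion_iff q).1 ((Submodule.Quotient.mk_eq_zero _).1 (hg hz))
  exact ⟨r, nonZeroDivisors.ne_zero r.2, hr⟩

/-- Biduality is surjective up to torsion. -/
theorem exists_smul_mem_range_eval [Module.Finite R M] (ξ : Module.Dual R (Module.Dual R M)) :
    ∃ r : R, r ≠ 0 ∧ r • ξ ∈ LinearMap.range (Module.Dual.eval R M) := by
  haveI := finite_dual (R := R) (M := M)
  haveI := finite_dual (R := R) (M := Module.Dual R M)
  obtain ⟨n, l, hl⟩ := Module.Finite.exists_fin' R (Module.Dual R M)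
  obtain ⟨r, hr, hq⟩ := exists_smul_eq_zero_of_forall_dual (R := R)
    (q := ((Submodule.Quotient.mk ((LinearMap.dualMap l) ξ)) :
      Module.Dual R (Fin n → R) ⧸ LinearMap.range ((LinearMap.dualMap l).comp (Module.Dual.eval R M)))) fun φ => by
    obtain ⟨c, hc⟩ : ∃ c : Fin n → R, ∀ f : Module.Dual R (Fin n → R),
        φ (Submodule.Quotient.mk f) = f c := by
      obtain ⟨c, hc⟩ := (Module.bijective_dual_eval R (Fin n → R)).2 (φ.comp (Submodule.mkQ _))
      exact ⟨c, fun f => (LinearMap.congr_fun hc f).symm⟩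
    have h0 : l c = 0 := LinearMap.ext fun m => by
      have := hc ((LinearMap.dualMap l) (Module.Dual.eval R M m))
      have hz : (Submodule.Quotient.mk ((LinearMap.dualMap l) (Module.Dual.eval R M m)) :
          Module.Dual R (Fin n → R) ⧸ LinearMap.range ((LinearMap.dualMap l).comp (Module.Dual.eval R M))) = 0 :=
        (Submodule.Quotient.mk_eq_zero _).2 (LinearMap.mem_range.2 ⟨m, rfl⟩)
      rw [hz, map_zero] at this
      exact this.symm
    rw [hc, LinearMap.dualMap_apply, h0, map_zero]
  rw [← Submodule.Quotient.mk_smul, Submodule.Quotient.mk_eq_zero, ← map_smul] at hq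
  obtain ⟨m, hm⟩ := hq
  exact ⟨r, hr, m, LinearMap.dualMap_injective_of_surjective hl hm⟩

/-- Over a noetherian domain a dual is reflexive. -/
theorem isReflexive_dual [Module.Finite R M] : Module.IsReflexive R (Module.Dual R M) := by
  refine ⟨fun φ ψ h => LinearMap.ext fun m => LinearMap.congr_fun h (Module.Dual.eval R M m), fun Φ => ?_⟩
  refine ⟨Φ.comp (Module.Dual.eval R M), LinearMap.ext fun ξ => ?_⟩
  obtain ⟨r, hr, m, hm⟩ := exists_smul_mem_range_eval ξ
  refine mul_left_cancel₀ hr ?_
  rw [← smul_eq_mul, ← smul_eq_mul, ← map_smul, ← map_smul, ← hm]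
  rfl

theorem isReflexive_linearMap [Module.Finite R M] [Module.Finite R N] [Module.IsReflexive R N] :
    Module.IsReflexive R (M →ₗ[R] N) := by
  haveI := finite_dual (R := R) (M := N)
  haveI := isReflexive_dual (R := R) (M := M ⊗[R] Module.Dual R N)
  exact Module.IsReflexive.of_split
    (((TensorProduct.lift.equiv (RingHom.id R) M (Module.Dual R N) R).toLinearMap).comp
      (LinearEquiv.arrowCongr (LinearEquiv.refl R M) (Module.evalEquiv R N)).toLinearMap)
    ((LinearEquiv.arrowCongr (LinearEquiv.refl R M) (Module.evalEquiv R N)).symm.toLinearMap.comp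
      (TensorProduct.lift.equiv (RingHom.id R) M (Module.Dual R N) R).symm.toLinearMap)
    (LinearMap.ext fun f => by simp)

/-- Over a factorial domain a reflexive module of rank one is free. -/
theorem exists_basis_of_rankOne [UniqueFactorizationMonoid R] [Module.Finite R M] [Module.IsReflexive R M]
    {v₀ : M} (hv₀ : v₀ ≠ 0) (hrk : ∀ v : M, ∃ c d : R, c ≠ 0 ∧ c • v = d • v₀) :
    Nonempty (R ≃ₗ[R] M) := by
  classical
  haveI : Module.IsTorsionFree R M :=
    (Module.bijective_dual_eval R M).1.moduleIsTorsionFree _ fun r v => map_smul _ r v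
  obtain ⟨φ₀, hφ₀⟩ : ∃ φ₀ : Module.Dual R M, φ₀ v₀ ≠ 0 := by
    by_contra h
    push Not at h
    exact hv₀ ((Module.bijective_dual_eval R M).1 (LinearMap.ext fun φ => by rw [map_zero]; exact h φ))
  haveI := finite_dual (R := R) (M := M)
  obtain ⟨n, φ, hφ⟩ := Module.Finite.exists_fin' R (Module.Dual R M)
  set b := φ₀ v₀ with hb
  let a : Fin n → R := fun i => φ (Pi.single i 1) v₀
  have hrel : ∀ (ψ : Module.Dual R M) (m : M), ψ v₀ * φ₀ m = b * ψ m := fun ψ m => by
    obtain ⟨c, d, hc, e⟩ := hrk m
    refine mul_left_cancel₀ hc ?_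
    have e₁ := congrArg ψ e
    have e₂ := congrArg φ₀ e
    simp only [map_smul, smul_eq_mul] at e₁ e₂
    linear_combination (ψ v₀) * e₂ - b * e₁
  let I : Ideal R := ⨅ i, Submodule.comap (LinearMap.mulLeft R (a i)) (Ideal.span {b})
  have hprin : I.IsPrincipal := by
    have h1 : ∀ s : Finset (Fin n),
        (⨅ i ∈ s, Submodule.comap (LinearMap.mulLeft R (a i)) (Ideal.span {b})).IsPrincipal := by
      letI := UniqueFactorizationMonoid.toGCDMonoid R
      intro s
      induction s using Finset.cons_induction with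
      | empty => exact ⟨⟨1, by simp⟩⟩
      | cons i s hi ih =>
        obtain ⟨⟨g, hg⟩⟩ := ih
        obtain ⟨a', b', ha', hb', hu⟩ := extract_gcd (a i) b
        have hg0 : gcd (a i) b ≠ 0 := fun h0 => hφ₀ ((gcd_eq_zero_iff _ _).1 h0).2
        generalize gcd (a i) b = G at ha' hb' hg0
        have hi' : Submodule.comap (LinearMap.mulLeft R (a i)) (Ideal.span {b}) = Ideal.span {b'} := by
          ext x
          simp only [Submodule.mem_comap, LinearMap.mulLeft_apply, Ideal.mem_span_singleton]
          conv_lhs => rw [hb', ha', mul_assoc, mul_dvd_mul_iff_left hg0]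
          exact ⟨fun hx => (gcd_isUnit_iff_isRelPrime.1 hu).symm.dvd_of_dvd_mul_left hx, fun hx => dvd_mul_of_dvd_right hx _⟩
        refine ⟨⟨lcm b' g, ?_⟩⟩
        rw [Finset.cons_eq_insert, Finset.iInf_insert, hi', hg, Ideal.submodule_span_eq, Ideal.submodule_span_eq]
        ext x
        simp [Ideal.mem_span_singleton, lcm_dvd_iff]
    simpa [I] using h1 Finset.univ
  have hI : ∀ x, x ∈ I ↔ ∃ m : M, φ₀ m = x := fun x => by
    constructor
    · intro hx
      have hd : ∀ ψ : Module.Dual R M, b ∣ ψ v₀ * x := fun ψ => by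
        obtain ⟨w, rfl⟩ := hφ ψ
        rw [pi_eq_sum_univ w, map_sum, LinearMap.sum_apply, Finset.sum_mul]
        refine Finset.dvd_sum fun i _ => ?_
        have hi := Ideal.mem_span_singleton.1 ((Submodule.mem_iInf _).1 hx i)
        rw [map_smul, LinearMap.smul_apply, smul_eq_mul, mul_assoc]
        refine dvd_mul_of_dvd_right ?_ _
        rw [show (fun j => if i = j then (1 : R) else 0) = Pi.single i 1 from funext fun j => by
          rw [Pi.single_apply]; exact if_congr eq_comm rfl rfl]
        exact hi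
      choose g hg using hd
      let G : Module.Dual R (Module.Dual R M) :=
        { toFun := g
          map_add' := fun ψ χ => mul_left_cancel₀ hφ₀ (by rw [← hg, mul_add, ← hg, ← hg, LinearMap.add_apply, add_mul])
          map_smul' := fun r ψ => mul_left_cancel₀ hφ₀ (by
            rw [← hg, LinearMap.smul_apply, RingHom.id_apply, smul_eq_mul, smul_eq_mul, mul_assoc, hg]; ring) }
      obtain ⟨m, hm⟩ := (Module.bijective_dual_eval R M).2 G
      refine ⟨m, mul_left_cancel₀ hφ₀ ?_⟩
      rw [show φ₀ m = g φ₀ from LinearMap.congr_fun hm φ₀, ← hg]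
    · rintro ⟨m, rfl⟩
      refine (Submodule.mem_iInf _).2 fun i => Ideal.mem_span_singleton.2 ⟨φ (Pi.single i 1) m, ?_⟩
      exact hrel _ m
  obtain ⟨⟨g, hg⟩⟩ := hprin
  obtain ⟨m₁, hm₁⟩ := (hI g).1 (by rw [hg]; exact Submodule.mem_span_singleton_self g)
  have hinj : Function.Injective φ₀ := fun m m' e => (Module.bijective_dual_eval R M).1 (LinearMap.ext fun ψ =>
    mul_left_cancel₀ hφ₀ (by rw [Module.Dual.eval_apply, Module.Dual.eval_apply, ← hrel, ← hrel, e]))
  have hg0 : g ≠ 0 := fun h0 => hφ₀ (by
    have : φ₀ v₀ ∈ I := (hI _).2 ⟨v₀, rfl⟩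
    rw [hg, h0] at this
    simpa using this)
  refine ⟨LinearEquiv.ofBijective (LinearMap.toSpanSingleton R M m₁) ⟨fun r r' e => ?_, fun m => ?_⟩⟩
  · have := congrArg φ₀ e
    simp only [LinearMap.toSpanSingleton_apply, map_smul, hm₁, smul_eq_mul] at this
    exact mul_right_cancel₀ hg0 this
  · have : φ₀ m ∈ I := (hI _).2 ⟨m, rfl⟩
    rw [hg] at this
    obtain ⟨r, hr⟩ := Submodule.mem_span_singleton.1 this
    exact ⟨r, hinj (by rw [LinearMap.toSpanSingleton_apply, map_smul, hm₁]; exact hr)⟩

omit [IsDomain R] in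
/-- Reflexive modules over a regular local ring of dimension at most two are free. -/
theorem free_of_isReflexive_regular {R : Type u} [CommRing R] [IsRegularLocalRing R] (hd : ringKrullDim R ≤ 2)
    (M : Type u) [AddCommGroup M] [Module R M] [Module.Finite R M] [Module.IsReflexive R M] : Module.Free R M := by
  haveI := Groth.Agent.RegLoc.isDomain R
  haveI := finite_dual (R := R) (M := M)
  obtain ⟨n, l, hl⟩ := Module.Finite.exists_fin' R (Module.Dual R M)
  obtain ⟨m, k, hk⟩ := Module.Finite.exists_fin' R (LinearMap.ker l)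
  let d₁ : Module.Dual R (Fin n → R) →ₗ[R] Module.Dual R (Fin m → R) :=
    LinearMap.dualMap ((LinearMap.ker l).subtype.comp k)
  let C := Module.Dual R (Fin m → R) ⧸ LinearMap.range d₁
  have hdim : (IsLocalRing.maximalIdeal R).spanFinrank ≤ 2 := by
    have := IsRegularLocalRing.spanFinrank_maximalIdeal (R := R)
    rw [← this] at hd
    exact_mod_cast hd
  have hC : HasProjectiveDimensionLT (ModuleCat.of R C) 3 :=
    haveI := RegLoc.hasProjectiveDimensionLT_of_regular (R := R) rfl (ModuleCat.of R C)
    hasProjectiveDimensionLT_of_ge _ ((IsLocalRing.maximalIdeal R).spanFinrank + 1) 3 (by omega)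
  let S₁ : ShortComplex (ModuleCat.{u} R) := ShortComplex.mk
    (ModuleCat.ofHom (X := ↥(LinearMap.range d₁)) (Y := Module.Dual R (Fin m → R)) (LinearMap.range d₁).subtype)
    (ModuleCat.ofHom (Y := C) (LinearMap.range d₁).mkQ)
    (ModuleCat.hom_ext (LinearMap.ext fun x => (Submodule.Quotient.mk_eq_zero _).2 x.2))
  have hS₁ : S₁.ShortExact :=
    { exact := (ShortComplex.moduleCat_exact_iff _).2 fun x hx => ⟨⟨x, (Submodule.Quotient.mk_eq_zero _).1 hx⟩, rfl⟩
      mono_f := (ModuleCat.mono_iff_injective _).2 Subtype.val_injective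
      epi_g := (ModuleCat.epi_iff_surjective _).2 (Submodule.mkQ_surjective _) }
  let S₂ : ShortComplex (ModuleCat.{u} R) := ShortComplex.mk
    (ModuleCat.ofHom (X := ↥(LinearMap.ker d₁)) (Y := Module.Dual R (Fin n → R)) (LinearMap.ker d₁).subtype)
    (ModuleCat.ofHom (Y := ↥(LinearMap.range d₁)) d₁.rangeRestrict)
    (ModuleCat.hom_ext (LinearMap.ext fun x => Subtype.ext x.2))
  have hS₂ : S₂.ShortExact :=
    { exact := (ShortComplex.moduleCat_exact_iff _).2 fun x hx =>
        ⟨⟨x, LinearMap.mem_ker.2 (congrArg Subtype.val hx)⟩, rfl⟩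
      mono_f := (ModuleCat.mono_iff_injective _).2 Subtype.val_injective
      epi_g := (ModuleCat.epi_iff_surjective _).2 d₁.surjective_rangeRestrict }
  haveI : Projective S₁.X₂ := (IsProjective.iff_projective _).1 (inferInstance : Module.Projective R (Module.Dual R (Fin m → R)))
  haveI : Projective S₂.X₂ := (IsProjective.iff_projective _).1 (inferInstance : Module.Projective R (Module.Dual R (Fin n → R)))
  have h₂ : HasProjectiveDimensionLT (ModuleCat.of R (LinearMap.range d₁)) 2 :=
    (hS₁.hasProjectiveDimensionLT_X₃_iff 1 inferInstance).1 hC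
  have h₁ : HasProjectiveDimensionLT (ModuleCat.of R (LinearMap.ker d₁)) 1 :=
    (hS₂.hasProjectiveDimensionLT_X₃_iff 0 inferInstance).1 h₂
  have : Module.Projective R (LinearMap.ker d₁) :=
    (IsProjective.iff_projective _).2 (projective_iff_hasProjectiveDimensionLT_one.2 h₁)
  have hker : LinearMap.range (LinearMap.dualMap l) = LinearMap.ker d₁ := by
    refine le_antisymm ?_ fun f hf => ?_
    · rintro _ ⟨ξ, rfl⟩
      exact LinearMap.ext fun x => (congrArg ξ (k x).2).trans (map_zero ξ)
    · have hkl : LinearMap.ker l ≤ LinearMap.ker f := fun x hx => by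
        obtain ⟨y, hy⟩ := hk ⟨x, hx⟩
        have := LinearMap.congr_fun hf y
        simpa [d₁, hy] using this
      exact ⟨((LinearMap.ker l).liftQ f hkl).comp (l.quotKerEquivOfSurjective hl).symm.toLinearMap, LinearMap.ext fun x => by
        have : (l.quotKerEquivOfSurjective hl).symm (l x) = Submodule.Quotient.mk x :=
          (LinearEquiv.symm_apply_eq _).2 rfl
        simp [this]⟩
  let e : M ≃ₗ[R] LinearMap.ker d₁ :=
    (Module.evalEquiv R M).trans ((LinearEquiv.ofInjective (LinearMap.dualMap l) (LinearMap.dualMap_injective_of_surjective hl)).trans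
      (LinearEquiv.ofEq _ _ hker))
  haveI : Module.Projective R M := Module.Projective.of_equiv e.symm
  exact Module.free_of_flat_of_isLocalRing

end Groth.Agent.RH26
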