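import Groth.Agent.Lib.RefHull26.Normal

/-! # Torsion; the property at one point -/

set_option autoImplicit false
universe u

set_option backward.isDefEq.respectTransparency.types false

open CategoryTheory AlgebraicGeometry TopologicalSpace Opposite

namespace Groth.Agent.RH26

variable {X : Scheme.{u}} [IsIntegral X] {F : X.Modules}

theorem isField_η : IsField (X.presheaf.stalk (genericPoint X)) :=
  isField_stalk_of_closure_mem_irreducibleComponents X _ (by simp [irreducibleComponents_eq_singleton])

theorem sp_ne_zero {x : X} {r : X.presheaf.stalk x} (hr : r ≠ 0) :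
    IsUnit (X.presheaf.stalkSpecializes (gsp x) r) := by
  have h0 : X.presheaf.stalkSpecializes (gsp x) r ≠ 0 := fun h0 =>
    hr (sp_injective x (h0.trans (map_zero _).symm))
  obtain ⟨c, hc⟩ := isField_η.mul_inv_cancel h0
  exact IsUnit.of_mul_eq_one _ hc

theorem injective_sp_of_isTorsionFree (hF : Coh.IsQCoh F) (x : X)
    [Module.IsTorsionFree (X.presheaf.stalk x) (F.presheaf.stalk x)] :
    Function.Injective (F.presheaf.stalkSpecializes (gsp x)) := by
  rw [injective_iff_map_eq_zero]
  intro v hv
  haveI := hF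
  obtain ⟨U, hU, hxU, -⟩ := exists_isAffineOpen_mem_and_subset (x := x) (U := (⊤ : X.Opens)) trivial
  obtain ⟨r, m, hr, he⟩ := M1.exists_germ_smul_eq F hU hxU v
  have hm : F.presheaf.germ U _ (mem_of_genericPoint U hxU) m = 0 := by
    have e := congrArg (F.presheaf.stalkSpecializes (gsp x)) he
    rw [Cyc26.stalkSpecializes_smul, hv, smul_zero, TopCat.Presheaf.germ_stalkSpecializes_apply] at e
    exact e.symm
  obtain ⟨s, hs, hsm⟩ := M1.exists_smul_eq_zero_of_germ_eq_zero F hU (mem_of_genericPoint U hxU) m hm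
  have hs0 : X.presheaf.germ U x hxU s ≠ 0 := fun h0 => by
    have := congrArg (X.presheaf.stalkSpecializes (gsp x)) h0
    rw [TopCat.Presheaf.germ_stalkSpecializes_apply, map_zero] at this
    exact hs.ne_zero this
  have e : X.presheaf.germ U x hxU s • F.presheaf.germ U x hxU m = 0 := by rw [← gsmul, hsm, map_zero]
  rw [smul_eq_zero_iff_right hs0] at e
  rw [e] at he
  exact hr.smul_eq_zero.1 he

theorem isTorsionFree_of_injective_sp {x : X} (h : Function.Injective (F.presheaf.stalkSpecializes (gsp x))) :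
    Module.IsTorsionFree (X.presheaf.stalk x) (F.presheaf.stalk x) := by
  constructor
  intro r hr v w e
  refine h ((sp_ne_zero hr.ne_zero).smul_left_cancel.1 ?_)
  rw [← Cyc26.stalkSpecializes_smul, ← Cyc26.stalkSpecializes_smul]
  exact congrArg _ e

theorem isReflexiveAt_generic [IsLocallyNoetherian X] (hF : Coh.IsCoh F) : RefHull.IsReflexiveAt F (genericPoint X) := by
  haveI := M1.finite_stalk hF.1 (M1.isFP_isFT (M1.isFP_of_isCoh hF)) (genericPoint X)
  letI := (isField_η (X := X)).toField
  show Module.IsReflexive (X.presheaf.stalk (genericPoint X)) (F.presheaf.stalk (genericPoint X))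
  infer_instance

theorem injective_sp_of_isReflexiveAt [IsLocallyNoetherian X] (hF : Coh.IsCoh F) {x : X}
    (h : RefHull.IsReflexiveAt F x) : Function.Injective (F.presheaf.stalkSpecializes (gsp x)) := by
  haveI : Module.IsReflexive (X.presheaf.stalk x) (F.presheaf.stalk x) := h
  haveI : Module.IsTorsionFree (X.presheaf.stalk x) (F.presheaf.stalk x) := by
    refine (Module.bijective_dual_eval (X.presheaf.stalk x) (F.presheaf.stalk x)).1.moduleIsTorsionFree _
      fun r v => map_smul _ r v
  exact injective_sp_of_isTorsionFree hF.1 x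

/-- A point with reflexive stalk has the codimension one property. -/
theorem inStalk_of_isReflexiveAt [IsLocallyNoetherian X] (hX : Pi1.IsNormalScheme X) (hF : Coh.IsCoh F) {x : X}
    (hx : RefHull.IsReflexiveAt F x) {a : F.presheaf.stalk (genericPoint X)}
    (ha : ∀ ξ : X, ξ ⤳ x → ringKrullDim (X.presheaf.stalk ξ) = 1 → InStalk F ξ a) : InStalk F x a := by
  have hη := (bijective_bidual_stalk_iff hF _).2 (isReflexiveAt_generic hF)
  have hdd : Closed1 (RefHull.ddual F) := closed1_dual hX (isCoh_dual hF)
  obtain ⟨v', hv'⟩ := hdd.2 x (RefHull.stalkMapₗ (RefHull.bidualMap F) _ a) fun ξ hξ h1 => by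
    obtain ⟨v, hv⟩ := ha ξ hξ h1
    exact ⟨RefHull.stalkMapₗ (RefHull.bidualMap F) ξ v, by rw [stalkMapₗ_stalkSpecializes, hv]⟩
  obtain ⟨v, rfl⟩ := ((bijective_bidual_stalk_iff hF x).2 hx).2 v'
  exact ⟨v, hη.1 (by rw [← stalkMapₗ_stalkSpecializes, hv'])⟩

theorem topSp_trans (F : X.Modules) {x ξ : X} (h : ξ ⤳ x) (v : F.presheaf.stalk x) :
    F.presheaf.stalkSpecializes (gsp ξ) (F.presheaf.stalkSpecializes h v) = F.presheaf.stalkSpecializes (gsp x) v :=
  sp_trans F h (gsp ξ) v

end Groth.Agent.RH26
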