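import Groth.Agent.Lib.RefHull26.Rank
import Groth.Agent.Lib.RefHull26.Local
import Groth.Agent.Lib.RefHull26.Algebra
import Groth.Agent.Lib.ModM1.LocFree

/-! # Free stalks -/

set_option autoImplicit false
universe u

set_option backward.isDefEq.respectTransparency.types false

open CategoryTheory AlgebraicGeometry TopologicalSpace Opposite

namespace Groth.Agent.RH26

variable {X : Scheme.{u}} [IsIntegral X] {F : X.Modules}

theorem isFinLocFree_of_stalks [IsLocallyNoetherian X] (hF : Coh.IsCoh F)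
    (h : ∀ x : X, Module.Free (X.presheaf.stalk x) (F.presheaf.stalk x)) : FlatMod.IsFinLocFree F :=
  (M1.isFinLocFree_iff F).2 ⟨M1.isFP_of_isCoh hF, h⟩

theorem free_of_isPrincipal [IsLocallyNoetherian X] (hF : Coh.IsCoh F) {x : X}
    [IsPrincipalIdealRing (X.presheaf.stalk x)] [Module.IsTorsionFree (X.presheaf.stalk x) (F.presheaf.stalk x)] :
    Module.Free (X.presheaf.stalk x) (F.presheaf.stalk x) := by
  haveI := M1.finite_stalk hF.1 (M1.isFP_isFT (M1.isFP_of_isCoh hF)) x
  exact Module.free_of_finite_type_torsion_free'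

theorem exists_gen_of_isReflexiveAt_ufd [IsLocallyNoetherian X] (hF : Coh.IsCoh F) {x : X}
    [UniqueFactorizationMonoid (X.presheaf.stalk x)] (hx : RefHull.IsReflexiveAt F x)
    {g : F.presheaf.stalk (genericPoint X)} (hg : Amp.Gen g) : ∃ g' : F.presheaf.stalk x, Amp.Gen g' := by
  haveI : Module.IsReflexive (X.presheaf.stalk x) (F.presheaf.stalk x) := hx
  haveI := M1.finite_stalk hF.1 (M1.isFP_isFT (M1.isFP_of_isCoh hF)) x
  have hinj := injective_sp_of_isReflexiveAt hF hx
  obtain ⟨v₀, hv₀⟩ : ∃ v₀ : F.presheaf.stalk x, v₀ ≠ 0 := by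
    obtain ⟨r, v, hr, he⟩ := exists_smul_eq_sp hF.1 (gsp x) g
    refine ⟨v, fun h0 => hr.ne_zero (hg.1 ?_)⟩
    show X.presheaf.stalkSpecializes (gsp x) r • g = (0 : X.presheaf.stalk (genericPoint X)) • g
    rw [he, h0, map_zero, zero_smul]
  obtain ⟨k, hk⟩ := hg.2 (F.presheaf.stalkSpecializes (gsp x) v₀)
  have hk0 : k ≠ 0 := fun h0 => hv₀ (hinj (by rw [← hk, h0, map_zero]; exact zero_smul _ g))
  obtain ⟨kinv, hkinv⟩ := (isField_η (X := X)).mul_inv_cancel hk0
  obtain ⟨e⟩ := exists_basis_of_rankOne hv₀ fun v => by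
    obtain ⟨l, hl⟩ := hg.2 (F.presheaf.stalkSpecializes (gsp x) v)
    obtain ⟨r, s, hs, hrs⟩ := IsFractionRing.div_surjective (A := X.presheaf.stalk x) (K := X.functionField) (l * kinv)
    refine ⟨s, r, nonZeroDivisors.ne_zero hs, hinj ?_⟩
    have hrs' : X.presheaf.stalkSpecializes (gsp x) s * l = X.presheaf.stalkSpecializes (gsp x) r * k := by
      have hs0 : algebraMap (X.presheaf.stalk x) X.functionField s ≠ 0 :=
        IsFractionRing.to_map_ne_zero_of_mem_nonZeroDivisors hs
      rw [div_eq_iff hs0] at hrs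
      show algebraMap (X.presheaf.stalk x) X.functionField s * l = algebraMap (X.presheaf.stalk x) X.functionField r * k
      rw [hrs]
      linear_combination -(algebraMap (X.presheaf.stalk x) X.functionField s * l) * hkinv
    rw [Cyc26.stalkSpecializes_smul, Cyc26.stalkSpecializes_smul, ← hl, ← hk]
    show X.presheaf.stalkSpecializes (gsp x) s • (l • g) = X.presheaf.stalkSpecializes (gsp x) r • (k • g)
    rw [← mul_smul, ← mul_smul, hrs']
  refine ⟨e 1, ?_⟩
  have : (fun r => r • e 1) = e := funext fun r => by rw [← map_smul, smul_eq_mul, mul_one]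
  show Function.Bijective (fun r => r • e 1)
  rw [this]
  exact e.bijective

theorem isInvertible_of_gen [IsLocallyNoetherian X] (hF : Coh.IsCoh F)
    (h : ∀ x : X, ∃ g : F.presheaf.stalk x, Amp.Gen g) : PicF.IsInvertible F := fun x => by
  obtain ⟨g, hg⟩ := h x
  obtain ⟨W, hW, e, he, -⟩ := exists_isGenerator_nhd hF hg
  exact ⟨W, hW, Twist.nonempty_restrict_iso F W e he⟩

end Groth.Agent.RH26
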