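import Groth.Agent.Lib.RefHull26.Dual
import Groth.Agent.Lib.Cyc26.Frac
import Groth.Agent.Lib.LocFact12.Basic
import Groth.Agent.Lib.CAlgLow.NormalInter
import Groth.Agent.Lib.Curve17.Basic
import Groth.Prelude.Def_Pi1

/-! # Reflexive modules are determined in codimension one -/

set_option autoImplicit false
universe u

set_option backward.isDefEq.respectTransparency.types false

open CategoryTheory AlgebraicGeometry TopologicalSpace Opposite

namespace Groth.Agent.RH26

variable {X : Scheme.{u}} [IsIntegral X] {F G : X.Modules}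

theorem gsp (x : X) : genericPoint X ⤳ x := genericPoint_specializes x

/-- The generic value lies in the stalk at `ξ`. -/
def InStalk (F : X.Modules) (ξ : X) (a : F.presheaf.stalk (genericPoint X)) : Prop :=
  ∃ v, F.presheaf.stalkSpecializes (gsp ξ) v = a

/-- Torsion free and determined in codimension one. -/
def Closed1 (F : X.Modules) : Prop :=
  (∀ x : X, Function.Injective (F.presheaf.stalkSpecializes (gsp x))) ∧
    ∀ (x : X) (a : F.presheaf.stalk (genericPoint X)),
      (∀ ξ : X, ξ ⤳ x → ringKrullDim (X.presheaf.stalk ξ) = 1 → InStalk F ξ a) → InStalk F x a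

theorem sp_trans (F : X.Modules) {x ξ ζ : X} (h : ξ ⤳ x) (h' : ζ ⤳ ξ) (v : F.presheaf.stalk x) :
    F.presheaf.stalkSpecializes h' (F.presheaf.stalkSpecializes h v) = F.presheaf.stalkSpecializes (h'.trans h) v :=
  ConcreteCategory.congr_hom (TopCat.Presheaf.stalkSpecializes_comp F.presheaf h' h) v

theorem sp_trans' {x ξ ζ : X} (h : ξ ⤳ x) (h' : ζ ⤳ ξ) (v : X.presheaf.stalk x) :
    X.presheaf.stalkSpecializes h' (X.presheaf.stalkSpecializes h v) = X.presheaf.stalkSpecializes (h'.trans h) v :=
  ConcreteCategory.congr_hom (TopCat.Presheaf.stalkSpecializes_comp X.presheaf h' h) v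

theorem sp_injective (x : X) : Function.Injective (X.presheaf.stalkSpecializes (gsp x)) :=
  IsFractionRing.injective (X.presheaf.stalk x) X.functionField

/-- Hartogs for functions. -/
theorem mem_range_sp [IsLocallyNoetherian X] (hX : Pi1.IsNormalScheme X) (x : X)
    (a : X.presheaf.stalk (genericPoint X))
    (h : ∀ ξ : X, ξ ⤳ x → ringKrullDim (X.presheaf.stalk ξ) = 1 → ∃ b, X.presheaf.stalkSpecializes (gsp ξ) b = a) :
    ∃ b, X.presheaf.stalkSpecializes (gsp x) b = a := by
  haveI := (hX x).2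
  refine NormalInter.mem_range_of_forall_height_one (R := X.presheaf.stalk x) (K := X.functionField) a fun P _ hP => ?_
  obtain ⟨ξ, hξ, rfl⟩ := DivDesc12.exists_primeAt_eq x P
  obtain ⟨b, hb⟩ := h ξ hξ (by rw [LocFact12.ringKrullDim_eq_height hξ, hP]; rfl)
  letI := (DivDesc12.sp hξ).toAlgebra
  haveI := LocFact12.isLocalization_sp hξ
  obtain ⟨⟨r, s⟩, hs⟩ := IsLocalization.surj (DivDesc12.primeAt hξ).primeCompl b
  refine ⟨s.1, s.2, r, ?_⟩
  show X.presheaf.stalkSpecializes (gsp x) r = X.presheaf.stalkSpecializes (gsp x) s.1 * a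
  rw [← hb, ← sp_trans' hξ (gsp ξ) r, ← sp_trans' hξ (gsp ξ) s.1, ← map_mul, mul_comm]
  exact congrArg _ hs.symm

theorem closed1_structure [IsLocallyNoetherian X] (hX : Pi1.IsNormalScheme X) :
    Closed1 (Coh.structureModule X) := by
  have key : ∀ {x ξ : X} (h : ξ ⤳ x) (r : X.presheaf.stalk x),
      (Coh.structureModule X).presheaf.stalkSpecializes h (str x r) = str ξ (X.presheaf.stalkSpecializes h r) :=
    fun h r => Cyc26.stalkSpecializes_smul_one h r
  refine ⟨fun x v w e => ?_, fun x a ha => ?_⟩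
  · obtain ⟨r, rfl⟩ := (str x).surjective v
    obtain ⟨r', rfl⟩ := (str x).surjective w
    rw [key, key] at e
    rw [sp_injective x ((str _).injective e)]
  · obtain ⟨a, rfl⟩ := (str _).surjective a
    obtain ⟨b, hb⟩ := mem_range_sp hX x a fun ξ hξ h1 => by
      obtain ⟨v, hv⟩ := ha ξ hξ h1
      obtain ⟨c, rfl⟩ := (str ξ).surjective v
      rw [key] at hv
      exact ⟨c, (str _).injective hv⟩
    exact ⟨str x b, by rw [key, hb]⟩

/-- Elements of the stalk at a generalisation are fractions. -/
theorem exists_smul_eq_sp (hF : Coh.IsQCoh F) {x ξ : X} (h : ξ ⤳ x) (w : F.presheaf.stalk ξ) :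
    ∃ (r : X.presheaf.stalk x) (v : F.presheaf.stalk x), IsUnit (X.presheaf.stalkSpecializes h r) ∧
      X.presheaf.stalkSpecializes h r • w = F.presheaf.stalkSpecializes h v := by
  haveI := hF
  obtain ⟨U, hU, hxU, -⟩ := exists_isAffineOpen_mem_and_subset (x := x) (U := (⊤ : X.Opens)) trivial
  obtain ⟨r, m, hr, he⟩ := M1.exists_germ_smul_eq F hU (h.mem_open U.isOpen hxU) w
  refine ⟨X.presheaf.germ U x hxU r, F.presheaf.germ U x hxU m, ?_, ?_⟩
  · rwa [TopCat.Presheaf.germ_stalkSpecializes_apply]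
  · rw [TopCat.Presheaf.germ_stalkSpecializes_apply, TopCat.Presheaf.germ_stalkSpecializes_apply, he]

theorem closed1_dual [IsLocallyNoetherian X] (hX : Pi1.IsNormalScheme X) (hF : Coh.IsCoh F) :
    Closed1 (RefHull.dual F) := by
  have hsep : ∀ (x : X) (φ φ' : Module.Dual (X.presheaf.stalk (genericPoint X)) (F.presheaf.stalk (genericPoint X))),
      (∀ v, φ (F.presheaf.stalkSpecializes (gsp x) v) = φ' (F.presheaf.stalkSpecializes (gsp x) v)) → φ = φ' := by
    intro x φ φ' h
    refine LinearMap.ext fun w => ?_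
    obtain ⟨r, v, hr, he⟩ := exists_smul_eq_sp hF.1 (gsp x) w
    refine hr.mul_left_cancel ?_
    rw [← smul_eq_mul, ← map_smul, he, h, ← he, map_smul, smul_eq_mul]
  refine ⟨fun x θ θ' e => (dualEquiv hF x).injective (LinearMap.ext fun v => sp_injective x ?_), fun x a ha => ?_⟩
  · rw [← dualEquiv_stalkSpecializes hF, e, dualEquiv_stalkSpecializes hF]
  · have hval : ∀ v, ∃ b, X.presheaf.stalkSpecializes (gsp x) b =
        dualEquiv hF _ a (F.presheaf.stalkSpecializes (gsp x) v) := fun v =>
      mem_range_sp hX x _ fun ξ hξ h1 => by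
        obtain ⟨θ, hθ⟩ := ha ξ hξ h1
        exact ⟨dualEquiv hF ξ θ (F.presheaf.stalkSpecializes hξ v), by
          rw [← dualEquiv_stalkSpecializes hF, hθ, sp_trans]⟩
    choose b hb using hval
    let φ : Module.Dual (X.presheaf.stalk x) (F.presheaf.stalk x) :=
      { toFun := b
        map_add' := fun v w => sp_injective x (by rw [map_add, hb, hb, hb, map_add, map_add])
        map_smul' := fun r v => sp_injective x (by
          rw [RingHom.id_apply, smul_eq_mul, map_mul, hb, hb, Cyc26.stalkSpecializes_smul, map_smul, smul_eq_mul]) }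
    refine ⟨(dualEquiv hF x).symm φ, (dualEquiv hF _).injective (hsep x _ _ fun v => ?_)⟩
    rw [dualEquiv_stalkSpecializes hF, LinearEquiv.apply_symm_apply]
    exact hb v

theorem closed1_of_iso (e : F ≅ G) (h : Closed1 G) : Closed1 F := by
  have hb : ∀ x, Function.Bijective (RefHull.stalkMapₗ e.hom x) := (isIso_iff_stalkMapₗ e.hom).1 inferInstance
  refine ⟨fun x v w evw => (hb x).1 (h.1 x ?_), fun x a ha => ?_⟩
  · rw [stalkMapₗ_stalkSpecializes, stalkMapₗ_stalkSpecializes, evw]
  · obtain ⟨v', hv'⟩ := h.2 x (RefHull.stalkMapₗ e.hom _ a) fun ξ hξ h1 => by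
      obtain ⟨v, hv⟩ := ha ξ hξ h1
      exact ⟨RefHull.stalkMapₗ e.hom ξ v, by rw [stalkMapₗ_stalkSpecializes, hv]⟩
    obtain ⟨v, rfl⟩ := (hb x).2 v'
    exact ⟨v, (hb _).1 (by rw [← stalkMapₗ_stalkSpecializes, hv'])⟩

/-- A map of determined-in-codimension-one modules, bijective in codimension at most one, is an isomorphism. -/
theorem isIso_of_codim_one (φ : F ⟶ G) (hF : Closed1 F) (hG : Closed1 G)
    (hη : Function.Bijective (RefHull.stalkMapₗ φ (genericPoint X)))
    (h1 : ∀ ξ : X, ringKrullDim (X.presheaf.stalk ξ) = 1 → Function.Surjective (RefHull.stalkMapₗ φ ξ)) :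
    IsIso φ := by
  refine (isIso_iff_stalkMapₗ φ).2 fun x => ⟨fun v w e => hF.1 x (hη.1 ?_), fun b => ?_⟩
  · rw [← stalkMapₗ_stalkSpecializes, ← stalkMapₗ_stalkSpecializes, e]
  · obtain ⟨a, ha⟩ := hη.2 (G.presheaf.stalkSpecializes (gsp x) b)
    obtain ⟨v, hv⟩ := hF.2 x a fun ξ hξ hdim => by
      obtain ⟨c, hc⟩ := h1 ξ hdim (G.presheaf.stalkSpecializes hξ b)
      exact ⟨c, hη.1 (by rw [← stalkMapₗ_stalkSpecializes, hc, sp_trans, ha])⟩
    exact ⟨v, hG.1 x (by rw [stalkMapₗ_stalkSpecializes, hv, ha])⟩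

theorem isPrincipalIdealRing_stalk [IsLocallyNoetherian X] (hX : Pi1.IsNormalScheme X) {ξ : X}
    (h : ringKrullDim (X.presheaf.stalk ξ) ≤ 1) : IsPrincipalIdealRing (X.presheaf.stalk ξ) := by
  haveI := (hX ξ).2
  by_cases h1 : ringKrullDim (X.presheaf.stalk ξ) = 1
  · haveI := Curve17.isDiscreteValuationRing_of_dim_one (X.presheaf.stalk ξ) h1
    infer_instance
  · haveI : Ring.KrullDimLE 0 (X.presheaf.stalk ξ) := Ring.krullDimLE_iff.2 (by
      have h0 := ringKrullDim_stalk_eq_coheight ξ
      rw [h0] at h h1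
      generalize Order.coheight ξ = n at h h1 h0
      rw [h0]
      cases n with
      | top => simp at h; cases h
      | coe n =>
        have hle : n ≤ 1 := by exact_mod_cast h
        have hne : n ≠ 1 := fun e => h1 (by rw [e]; rfl)
        have : n = 0 := by omega
        subst this
        rfl)
    have hf : IsField (X.presheaf.stalk ξ) := Ring.KrullDimLE.isField_of_isReduced
    letI := hf.toField
    infer_instance

theorem isReflexiveAt_of_dim_le_one [IsLocallyNoetherian X] (hX : Pi1.IsNormalScheme X) (hF : Coh.IsCoh F) {ξ : X}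
    (hinj : Function.Injective (F.presheaf.stalkSpecializes (gsp ξ))) (h : ringKrullDim (X.presheaf.stalk ξ) ≤ 1) :
    RefHull.IsReflexiveAt F ξ := by
  haveI := isPrincipalIdealRing_stalk hX h
  haveI := M1.finite_stalk hF.1 (M1.isFP_isFT (M1.isFP_of_isCoh hF)) ξ
  have hfield : IsField (X.presheaf.stalk (genericPoint X)) :=
    isField_stalk_of_closure_mem_irreducibleComponents X _ (by simp [irreducibleComponents_eq_singleton])
  haveI : Module.IsTorsionFree (X.presheaf.stalk ξ) (F.presheaf.stalk ξ) := by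
    constructor
    intro r hr v w e
    have hr0 : X.presheaf.stalkSpecializes (gsp ξ) r ≠ 0 := fun h0 =>
      hr.ne_zero (sp_injective ξ (h0.trans (map_zero _).symm))
    obtain ⟨c, hc⟩ := hfield.mul_inv_cancel hr0
    refine hinj ?_
    have e' := congrArg (fun z => c • F.presheaf.stalkSpecializes (gsp ξ) z) e
    simp only [Cyc26.stalkSpecializes_smul, ← mul_smul] at e'
    rwa [mul_comm, hc, one_smul, one_smul] at e'
  show Module.IsReflexive (X.presheaf.stalk ξ) (F.presheaf.stalk ξ)
  infer_instance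

/-- On a normal scheme reflexive means torsion free and determined in codimension one. -/
theorem isReflexive_iff_closed1 [IsLocallyNoetherian X] (hX : Pi1.IsNormalScheme X) (hF : Coh.IsCoh F) :
    RefHull.IsReflexive F ↔ Closed1 F := by
  have hdd : Closed1 (RefHull.ddual F) := closed1_dual hX (isCoh_dual hF)
  constructor
  · intro h
    haveI : IsIso (RefHull.bidualMap F) := h
    exact closed1_of_iso (asIso (RefHull.bidualMap F)) hdd
  · intro h
    refine isIso_of_codim_one _ h hdd ?_ fun ξ hξ => ?_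
    · refine (bijective_bidual_stalk_iff hF _).2 (isReflexiveAt_of_dim_le_one hX hF (h.1 _) ?_)
      rw [ringKrullDim_eq_zero_of_isField
        (isField_stalk_of_closure_mem_irreducibleComponents X _ (by simp [irreducibleComponents_eq_singleton]))]
      exact zero_le_one
    · exact ((bijective_bidual_stalk_iff hF _).2 (isReflexiveAt_of_dim_le_one hX hF (h.1 _) hξ.le)).2

end Groth.Agent.RH26
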