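import Groth.Agent.Lib.RefHull26.Glue
import Groth.Agent.Lib.ModM1.Coh

/-! # Sections of the sheaf Hom of a quasi-coherent module -/

set_option autoImplicit false
universe u

set_option backward.isDefEq.respectTransparency.types false

open CategoryTheory AlgebraicGeometry TopologicalSpace Opposite

namespace Groth.Agent.RH26

variable {X : Scheme.{u}} {F G : X.Modules}

/-- Stalk maps of a quasi-coherent module are determined by sections over an affine open. -/
theorem stalkHom_ext [Coh.IsQCoh F] {U : X.Opens} (hU : IsAffineOpen U) {y : X} (hy : y ∈ U)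
    {f f' : RefHull.StalkHom F G y}
    (h : ∀ m : Γ(F, U), f (F.presheaf.germ U y hy m) = f' (F.presheaf.germ U y hy m)) : f = f' := by
  refine LinearMap.ext fun v => ?_
  obtain ⟨r, m, hr, he⟩ := M1.exists_germ_smul_eq F hU hy v
  refine hr.smul_left_cancel.1 ?_
  rw [← map_smul, ← map_smul, he, h m]

theorem homSh_ext [Coh.IsQCoh F] {U V : X.Opens} (hU : IsAffineOpen U) (hVU : V ≤ U) {g g' : Γ(RefHull.homSh F G, V)}
    (h : ∀ (y : X) (hy : y ∈ V) (m : Γ(F, U)),
      g.1 ⟨y, hy⟩ (F.presheaf.germ U y (hVU hy) m) = g'.1 ⟨y, hy⟩ (F.presheaf.germ U y (hVU hy) m)) : g = g' :=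
  Subtype.ext (funext fun y => stalkHom_ext hU (hVU y.2) fun m => h y.1 y.2 m)

/-- A section of the sheaf Hom applied to a section. -/
theorem exists_app {U V : X.Opens} (hVU : V ≤ U) (g : Γ(RefHull.homSh F G, V)) (m : Γ(F, U)) :
    ∃! n : Γ(G, V), ∀ (y : X) (hy : y ∈ V), G.presheaf.germ V y hy n =
      g.1 ⟨y, hy⟩ (F.presheaf.germ U y (hVU hy) m) := by
  refine exists_section_of_germs G V _ fun x hx => ?_
  obtain ⟨W, hW, j, n, hn⟩ := RefHull.isLocSect_of_mem g V (𝟙 V) (F.presheaf.map (homOfLE hVU).op m) ⟨x, hx⟩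
  refine ⟨W, hW, j.le, n, fun y hy => ?_⟩
  have := hn ⟨y, hy⟩
  rw [TopCat.Presheaf.germ_res_apply] at this
  exact this.symm

/-- A linear map on the sections over an affine open gives a section of the sheaf Hom. -/
theorem exists_ofLin [Coh.IsQCoh F] {U : X.Opens} (hU : IsAffineOpen U) {W : X.Opens} (hWU : W ≤ U)
    (φ : Γ(F, U) →+ Γ(G, W))
    (hφ : ∀ (a : Γ(X, U)) (m : Γ(F, U)), φ (a • m) = X.presheaf.map (homOfLE hWU).op a • φ m) :
    ∃ g : Γ(RefHull.homSh F G, W), ∀ (y : X) (hy : y ∈ W) (m : Γ(F, U)),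
      g.1 ⟨y, hy⟩ (F.presheaf.germ U y (hWU hy) m) = G.presheaf.germ W y hy (φ m) := by
  have key : ∀ (y : X) (hy : y ∈ W), ∃ f : RefHull.StalkHom F G y, ∀ m,
      f (F.presheaf.germ U y (hWU hy) m) = G.presheaf.germ W y hy (φ m) := by
    intro y hy
    letI := M1.stalkModule F (hWU hy)
    letI : Module Γ(X, U) (G.presheaf.stalk y) := M1.stalkModule G (hWU hy)
    let g₀ : Γ(F, U) →ₗ[Γ(X, U)] G.presheaf.stalk y :=
      { toFun := fun m => G.presheaf.germ W y hy (φ m)
        map_add' := fun a b => by rw [map_add, map_add]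
        map_smul' := fun a m => by
          show G.presheaf.germ W y hy (φ (a • m)) = X.presheaf.germ U y (hWU hy) a • G.presheaf.germ W y hy (φ m)
          rw [hφ, gsmul, TopCat.Presheaf.germ_res_apply] }
    haveI := M1.isLocalizedModule_germ F hU (hWU hy)
    set S := (hU.primeIdealOf ⟨y, hWU hy⟩).asIdeal.primeCompl
    have hu : ∀ s : S, IsUnit (algebraMap Γ(X, U) (Module.End Γ(X, U) (G.presheaf.stalk y)) s) := fun s => by
      obtain ⟨u, hu⟩ := (M1.isUnit_germ_iff hU (hWU hy) s.1).mpr s.2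
      rw [Module.End.isUnit_iff]
      refine Function.bijective_iff_has_inverse.mpr ⟨fun a => (↑u⁻¹ : X.presheaf.stalk y) • a, fun a => ?_, fun a => ?_⟩
      · change (↑u⁻¹ : X.presheaf.stalk y) • (X.presheaf.germ U y (hWU hy) s.1 • a) = a
        rw [← hu, ← mul_smul, Units.inv_mul, one_smul]
      · change X.presheaf.germ U y (hWU hy) s.1 • ((↑u⁻¹ : X.presheaf.stalk y) • a) = a
        rw [← hu, ← mul_smul, Units.mul_inv, one_smul]
    let l := IsLocalizedModule.lift S (M1.germₗ F (hWU hy)) g₀ hu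
    have hl : ∀ m, l (F.presheaf.germ U y (hWU hy) m) = G.presheaf.germ W y hy (φ m) := fun m =>
      IsLocalizedModule.lift_apply S (M1.germₗ F (hWU hy)) g₀ hu m
    refine ⟨{ toFun := l, map_add' := l.map_add, map_smul' := fun c v => ?_ }, hl⟩
    let := TopCat.Presheaf.algebra_section_stalk X.presheaf (⟨y, hWU hy⟩ : U)
    haveI := hU.isLocalization_stalk ⟨y, hWU hy⟩
    obtain ⟨⟨a, s⟩, hs⟩ := IsLocalization.surj S c
    have hs' : c * X.presheaf.germ U y (hWU hy) s.1 = X.presheaf.germ U y (hWU hy) a := hs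
    refine ((M1.isUnit_germ_iff hU (hWU hy) s.1).mpr s.2).smul_left_cancel.1 ?_
    show X.presheaf.germ U y (hWU hy) s.1 • l (c • v) = X.presheaf.germ U y (hWU hy) s.1 • (c • l v)
    rw [← mul_smul, mul_comm, hs']
    refine (l.map_smul s.1 (c • v)).symm.trans ?_
    show l (X.presheaf.germ U y (hWU hy) s.1 • (c • v)) = _
    rw [← mul_smul, mul_comm, hs']
    exact l.map_smul a v
  choose f hf using key
  refine ⟨⟨fun y => f y.1 y.2, fun V i m x => ?_⟩, hf⟩
  obtain ⟨r, m₀, hr, he⟩ := M1.exists_germ_smul_eq F hU (hWU (i.le x.2)) (F.presheaf.germ V x.1 x.2 m)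
  obtain ⟨W', hxW', j₁, j₂, hW'⟩ := F.presheaf.germ_eq x.1
    (show x.1 ∈ V ⊓ U from ⟨x.2, hWU (i.le x.2)⟩) (hWU (i.le x.2))
    (X.presheaf.map (homOfLE (inf_le_right : V ⊓ U ≤ U)).op r • F.presheaf.map (homOfLE (inf_le_left : V ⊓ U ≤ V)).op m)
    m₀ (by rw [gsmul, TopCat.Presheaf.germ_res_apply, TopCat.Presheaf.germ_res_apply, he])
  have hD : W' ⊓ X.basicOpen r ⊓ V ≤ W := fun y hy => i.le hy.2
  have hb : IsUnit (X.presheaf.map (homOfLE ((inf_le_left.trans inf_le_right).trans (X.basicOpen_le r) :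
      W' ⊓ X.basicOpen r ⊓ V ≤ U)).op r) := by
    rw [show X.presheaf.map (homOfLE _).op r = X.presheaf.map (homOfLE (inf_le_left.trans inf_le_right :
        W' ⊓ X.basicOpen r ⊓ V ≤ X.basicOpen r)).op (X.presheaf.map (homOfLE (X.basicOpen_le r)).op r) from
      ConcreteCategory.congr_hom (X.presheaf.map_comp (homOfLE (X.basicOpen_le r)).op (homOfLE _).op) r]
    exact (X.toRingedSpace.isUnit_res_basicOpen r).map _
  obtain ⟨b, hb⟩ := hb
  refine ⟨W' ⊓ X.basicOpen r ⊓ V, ⟨⟨hxW', (Scheme.mem_basicOpen X r x.1 (hWU (i.le x.2))).2 hr⟩, x.2⟩,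
    homOfLE inf_le_right, ((b⁻¹).val : Γ(X, W' ⊓ X.basicOpen r ⊓ V)) • G.presheaf.map (homOfLE hD).op (φ m₀), fun y => ?_⟩
  have hyU : y.1 ∈ U := hWU (hD y.2)
  have e1 : X.presheaf.germ U y.1 hyU r • F.presheaf.germ V y.1 y.2.2 m = F.presheaf.germ U y.1 hyU m₀ := by
    have := congrArg (F.presheaf.germ W' y.1 y.2.1.1) hW'
    rw [TopCat.Presheaf.germ_res_apply, TopCat.Presheaf.germ_res_apply, gsmul, TopCat.Presheaf.germ_res_apply,
      TopCat.Presheaf.germ_res_apply] at this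
    exact this
  have e2 := congrArg (f y.1 (hD y.2)) e1
  rw [map_smul, hf] at e2
  have e3 : X.presheaf.germ (W' ⊓ X.basicOpen r ⊓ V) y.1 y.2 (b⁻¹).val * X.presheaf.germ U y.1 hyU r = 1 := by
    rw [← TopCat.Presheaf.germ_res_apply X.presheaf (homOfLE (hD.trans hWU)) y.1 y.2 r, ← hb, ← map_mul, Units.inv_mul, map_one]
  rw [gsmul, TopCat.Presheaf.germ_res_apply, ← e2, ← mul_smul, e3, one_smul]

end Groth.Agent.RH26
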