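import Groth.Agent.Lib.RefHull26.OD
import Groth.Agent.Lib.RefHull26.Ops

/-! # `O(D)` is reflexive of rank one, with divisor `D` -/

set_option autoImplicit false
universe u

set_option backward.isDefEq.respectTransparency.types false

open CategoryTheory AlgebraicGeometry TopologicalSpace Opposite

namespace Groth.Agent.RH26

variable {X : Scheme.{u}} [IsIntegral X] [IsLocallyNoetherian X] {hX : Pi1.IsNormalScheme X}
  {D : AlgebraicCycle X ℤ}

theorem germ_res_od {U V : X.Opens} (h : V ≤ U) {y : X} (hy : y ∈ V) (f : Γ(od hX D, U)) :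
    (od hX D).presheaf.germ V y hy ((od hX D).presheaf.map (homOfLE h).op f) = (od hX D).presheaf.germ U y (h hy) f :=
  TopCat.Presheaf.germ_res_apply _ _ _ _ _

include hX in
theorem exists_nhd_all_good (k : X.functionField) (x : X)
    (h : ∀ ξ, ξ ⤳ x → Order.coheight ξ = 1 → Good D k ξ) :
    ∃ W : X.Opens, x ∈ W ∧ ∀ y ∈ W, Good D k y := by
  rcases eq_or_ne k 0 with rfl | hk
  · exact ⟨⊤, trivial, fun y _ => good_zero D y⟩
  obtain ⟨U, hU, hxU, -⟩ := exists_isAffineOpen_mem_and_subset (x := x) (U := (⊤ : X.Opens)) trivial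
  obtain ⟨W, hxW, hW⟩ := coheight_one_nhd x (exists_nhd_good (DD := D) (hX := hX) hk hU)
    fun ξ hξ hsp => hξ.2.2 (h ξ hsp hξ.2.1)
  refine ⟨W ⊓ U, ⟨hxW, hxU⟩, fun y hy h1 => ?_⟩
  by_contra hbad
  exact hW y ⟨hy.2, h1, fun hg => hbad (hg h1)⟩ hy.1

theorem exists_one_section : ∃ (W : X.Opens) (hη : genericPoint X ∈ W) (e : Γ(od hX D, W)), odVal hη e = 1 := by
  obtain ⟨W, hη, hW⟩ := exists_nhd_all_good (hX := hX) (D := D) 1 (genericPoint X) fun ξ hξ h1 =>
    (ne_genericPoint_of_coheight_one h1 (hξ.antisymm (gsp ξ)).eq).elim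
  obtain ⟨e, he⟩ := exists_od_section (hX := hX) (1 : X.functionField) hW
  exact ⟨W, hη, e, he hη⟩

/-- The generic germ of the section `1`. -/
noncomputable def oneη (hX : Pi1.IsNormalScheme X) (D : AlgebraicCycle X ℤ) :
    (od hX D).presheaf.stalk (genericPoint X) :=
  (od hX D).presheaf.germ (exists_one_section (hX := hX) (D := D)).choose _
    (exists_one_section (hX := hX) (D := D)).choose_spec.choose
    (exists_one_section (hX := hX) (D := D)).choose_spec.choose_spec.choose

theorem smul_oneη_eq {U : X.Opens} (hη : genericPoint X ∈ U) (f : Γ(od hX D, U)) {k : X.functionField}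
    (hk : odVal hη f = k) : k • oneη hX D = (od hX D).presheaf.germ U _ hη f := by
  set W := (exists_one_section (hX := hX) (D := D)).choose
  have hW : genericPoint X ∈ W := (exists_one_section (hX := hX) (D := D)).choose_spec.choose
  set e := (exists_one_section (hX := hX) (D := D)).choose_spec.choose_spec.choose with he
  have he1 : odVal hW e = 1 := (exists_one_section (hX := hX) (D := D)).choose_spec.choose_spec.choose_spec
  obtain ⟨V, hV, r, hr⟩ := X.presheaf.exists_germ_eq k
  show _ • (od hX D).presheaf.germ W _ hW e = _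
  rw [← hr, ← TopCat.Presheaf.germ_res_apply X.presheaf (homOfLE (inf_le_left : V ⊓ W ≤ V)) _ ⟨hV, hW⟩ r,
    ← germ_res_od (inf_le_right : V ⊓ W ≤ W) ⟨hV, hW⟩ e, ← gsmul]
  refine germ_eq_of_odVal (show genericPoint X ∈ V ⊓ W from ⟨hV, hW⟩) hη ?_ _ _
  rw [odVal_smul, odVal_res, he1, mul_one, TopCat.Presheaf.germ_res_apply]
  exact hr.trans hk.symm

theorem gen_oneη : Amp.Gen (oneη hX D) := by
  refine ⟨fun k l h => ?_, fun v => ?_⟩
  · obtain ⟨W, hη, hW⟩ := exists_nhd_all_good (hX := hX) (D := D) (k : X.functionField) (genericPoint X) fun ξ hξ h1 =>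
      (ne_genericPoint_of_coheight_one h1 (hξ.antisymm (gsp ξ)).eq).elim
    obtain ⟨W', hη', hW'⟩ := exists_nhd_all_good (hX := hX) (D := D) (l : X.functionField) (genericPoint X) fun ξ hξ h1 =>
      (ne_genericPoint_of_coheight_one h1 (hξ.antisymm (gsp ξ)).eq).elim
    obtain ⟨f, hf⟩ := exists_od_section (hX := hX) (k : X.functionField) hW
    obtain ⟨g, hg⟩ := exists_od_section (hX := hX) (l : X.functionField) hW'
    have h1 := odVal_eq_of_germ hη hη'
      ((smul_oneη_eq hη f (hf hη)).symm.trans (h.trans (smul_oneη_eq hη' g (hg hη'))))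
    exact (hf hη).symm.trans (h1.trans (hg hη'))
  · obtain ⟨U, hU, f, rfl⟩ := (od hX D).presheaf.exists_germ_eq v
    exact ⟨odVal hU f, smul_oneη_eq hU f rfl⟩

theorem inStalk_od_iff (x : X) (k : X.functionField) :
    InStalk (od hX D) x (k • oneη hX D) ↔ ∀ ξ, ξ ⤳ x → Order.coheight ξ = 1 → Good D k ξ := by
  constructor
  · rintro ⟨v, hv⟩ ξ hξ h1
    obtain ⟨U, hU, f, rfl⟩ := (od hX D).presheaf.exists_germ_eq v
    rw [TopCat.Presheaf.germ_stalkSpecializes_apply, ← smul_oneη_eq (mem_of_genericPoint U hU) f rfl] at hv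
    have := gen_oneη.1 hv
    rw [← (show odVal (mem_of_genericPoint U hU) f = k from this)]
    exact od_good _ f (hξ.mem_open U.isOpen hU)
  · intro h
    obtain ⟨W, hxW, hW⟩ := exists_nhd_all_good (hX := hX) k x h
    obtain ⟨f, hf⟩ := exists_od_section (hX := hX) k hW
    refine ⟨(od hX D).presheaf.germ W x hxW f, ?_⟩
    rw [TopCat.Presheaf.germ_stalkSpecializes_apply]
    exact (smul_oneη_eq _ f (hf _)).symm

theorem isQCoh_od : Coh.IsQCoh (od hX D) := by
  refine M1.isQCoh_of_loc_affine _ (fun U hU r t => ?_) (fun U hU r t ht => ?_)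
  · rcases (X.basicOpen r : Set X).eq_empty_or_nonempty with h0 | ⟨z, hz⟩
    · exact ⟨0, 0, od_ext fun hη => ((Set.eq_empty_iff_forall_notMem.1 h0) _ hη).elim⟩
    have hη : genericPoint X ∈ X.basicOpen r := mem_of_genericPoint _ hz
    have hηU : genericPoint X ∈ U := X.basicOpen_le r hη
    set k := odVal hη t with hk
    rcases eq_or_ne k 0 with hk0 | hk0
    · exact ⟨0, 0, od_ext fun hη' => by
        rw [pow_zero, one_smul]
        exact ((odVal_res (X.basicOpen_le r) hη' 0).trans (odVal_zero _)).trans hk0.symm⟩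
    set ρ : X.functionField := X.presheaf.germ U (genericPoint X) hηU r with hρ
    have hρ0 : ρ ≠ 0 := ((Scheme.mem_basicOpen X r _ hηU).1 hη).ne_zero
    have hfin := exists_nhd_good (DD := D) (hX := hX) hk0 hU
    let N : ℕ := ∑ ξ ∈ hfin.toFinset, (-(Scheme.ord k ξ + D ξ)).toNat
    have hgood : ∀ y ∈ U, Good D (ρ ^ N * k) y := fun y hy h1 => by
      right
      have hpow : ∀ n : ℕ, Scheme.ord (ρ ^ n) y = n * Scheme.ord ρ y := fun n => by
        induction n with
        | zero => simp [ord_one]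
        | succ n ih => rw [pow_succ, Scheme.ord_mul (pow_ne_zero n hρ0) hρ0, ih]; push_cast; ring
      rw [Scheme.ord_mul (pow_ne_zero N hρ0) hk0, hpow]
      have hρy : ρ = algebraMap (X.presheaf.stalk y) X.functionField (X.presheaf.germ U y hy r) := by
        rw [algebraMap_sp, TopCat.Presheaf.germ_stalkSpecializes_apply]
      have hr0 : X.presheaf.germ U y hy r ≠ 0 := fun h0 => hρ0 (by rw [hρy, h0, map_zero])
      have hK : Ring.KrullDimLE 1 (X.presheaf.stalk y) := krullDimLE_of_coheight_le h1.le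
      have hnn : 0 ≤ Scheme.ord ρ y := CDivLib.one_le_ordHom_of_inStalk h1 hρ0 ⟨_, hρy.symm⟩
      by_cases hy' : y ∈ X.basicOpen r
      · rcases od_good hη t hy' h1 with h2 | h2
        · exact absurd h2 hk0
        · have := mul_nonneg (Int.natCast_nonneg N) hnn
          rw [← hk] at h2
          omega
      by_cases hgd : Good D k y
      · rcases hgd h1 with h2 | h2
        · exact absurd h2 hk0
        · have := mul_nonneg (Int.natCast_nonneg N) hnn
          omega
      have h3 : 1 ≤ Scheme.ord ρ y := by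
        rw [hρy]
        exact one_le_ord_of_not_isUnit hX h1 hr0 fun hu => hy' ((Scheme.mem_basicOpen X r y hy).2 hu)
      have h4 : (-(Scheme.ord k y + D y)).toNat ≤ N :=
        Finset.single_le_sum (f := fun ξ => (-(Scheme.ord k ξ + D ξ)).toNat) (fun _ _ => Nat.zero_le _)
          (hfin.mem_toFinset.2 ⟨hy, h1, hgd⟩)
      have h5 := mul_le_mul_of_nonneg_left h3 (Int.natCast_nonneg N)
      rw [mul_one] at h5
      omega
    obtain ⟨t₀, ht₀⟩ := exists_od_section (hX := hX) (ρ ^ N * k) hgood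
    refine ⟨N, t₀, od_ext fun hη' => ?_⟩
    refine (odVal_res (X.basicOpen_le r) hη' t₀).trans ((ht₀ _).trans ?_)
    rw [odVal_smul, map_pow]
    congr 2
    exact (TopCat.Presheaf.germ_res_apply X.presheaf (homOfLE (X.basicOpen_le r)) _ hη' r).symm
  · rcases (X.basicOpen r : Set X).eq_empty_or_nonempty with h0 | ⟨z, hz⟩
    · refine ⟨1, od_ext fun hη => ?_⟩
      have hu : ¬ IsUnit (X.presheaf.germ U _ hη r) := fun hu =>
        (Set.eq_empty_iff_forall_notMem.1 h0) _ ((Scheme.mem_basicOpen X r _ hη).2 hu)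
      have hzero : X.presheaf.germ U _ hη r = 0 := by
        by_contra hne
        obtain ⟨c, hc⟩ := (isField_η (X := X)).mul_inv_cancel hne
        exact hu (IsUnit.of_mul_eq_one _ hc)
      rw [pow_one, odVal_smul, hzero, odVal_zero]
      exact zero_mul (M₀ := X.functionField) _
    · refine ⟨0, od_ext fun hη => ?_⟩
      rw [pow_zero, one_smul]
      exact congrArg (odVal (mem_of_genericPoint _ hz)) ht

include hX in
theorem exists_denominator {U : X.Opens} (hU : IsAffineOpen U) (hη : genericPoint X ∈ U) :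
    ∃ c : Γ(X, U), X.presheaf.germ U _ hη c ≠ 0 ∧ ∀ y (hy : y ∈ U), Order.coheight y = 1 →
      D y ≤ Scheme.ord (X.presheaf.germ U _ hη c : X.functionField) y := by
  classical
  have hfin : {y : X | y ∈ U ∧ Order.coheight y = 1 ∧ D y ≠ 0}.Finite :=
    (D.locallyFiniteSupport.finite_inter_support_of_isCompact hU.isCompact).subset fun y hy => ⟨hy.1, hy.2.2⟩
  have hr : ∀ y (hy : y ∈ U), Order.coheight y = 1 → ∃ r : Γ(X, U), X.presheaf.germ U _ hη r ≠ 0 ∧
      1 ≤ Scheme.ord (X.presheaf.germ U _ hη r : X.functionField) y := fun y hy h1 => by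
    have hnot : genericPoint X ∈ (⟨(closure {y})ᶜ, isClosed_closure.isOpen_compl⟩ : X.Opens) := fun hc =>
      ne_genericPoint_of_coheight_one h1 ((specializes_iff_mem_closure.2 hc).antisymm (gsp y)).eq
    obtain ⟨r, hrV, hηr⟩ := hU.exists_basicOpen_le ⟨genericPoint X, hnot⟩ hη
    have hu := (Scheme.mem_basicOpen X r _ hη).1 hηr
    refine ⟨r, hu.ne_zero, ?_⟩
    have e : (X.presheaf.germ U (genericPoint X) hη r : X.functionField) =
        algebraMap (X.presheaf.stalk y) X.functionField (X.presheaf.germ U y hy r) := by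
      rw [algebraMap_sp, TopCat.Presheaf.germ_stalkSpecializes_apply]
    rw [e]
    refine one_le_ord_of_not_isUnit hX h1 (fun h0 => hu.ne_zero ?_) fun hu' =>
      hrV ((Scheme.mem_basicOpen X r y hy).2 hu') (subset_closure rfl)
    exact e.trans (by rw [h0, map_zero])
  choose r hr0 hr1 using hr
  refine ⟨∏ y ∈ hfin.toFinset.attach, r y.1 (hfin.mem_toFinset.1 y.2).1 (hfin.mem_toFinset.1 y.2).2.1 ^ (D y.1).toNat, ?_, ?_⟩
  · rw [map_prod]
    haveI := (isField_η (X := X)).isDomain
    exact Finset.prod_ne_zero_iff.2 fun y _ => by rw [map_pow]; exact pow_ne_zero _ (hr0 _ _ _)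
  intro y hy h1
  set f : {z // z ∈ hfin.toFinset} → X.functionField := fun z =>
    (X.presheaf.germ U _ hη (r z.1 (hfin.mem_toFinset.1 z.2).1 (hfin.mem_toFinset.1 z.2).2.1) : X.functionField) ^ (D z.1).toNat
  have hnn : ∀ (a : Γ(X, U)), X.presheaf.germ U _ hη a ≠ 0 → 0 ≤ Scheme.ord (X.presheaf.germ U _ hη a : X.functionField) y := fun a ha => by
    have hK : Ring.KrullDimLE 1 (X.presheaf.stalk y) := krullDimLE_of_coheight_le h1.le
    exact CDivLib.one_le_ordHom_of_inStalk h1 ha ⟨X.presheaf.germ U y hy a, by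
      rw [algebraMap_sp, TopCat.Presheaf.germ_stalkSpecializes_apply]⟩
  have hsum : ∀ s : Finset {z // z ∈ hfin.toFinset}, (∏ z ∈ s, f z) ≠ 0 ∧
      Scheme.ord (∏ z ∈ s, f z) y = ∑ z ∈ s, ((D z.1).toNat : ℤ) *
        Scheme.ord (X.presheaf.germ U _ hη (r z.1 (hfin.mem_toFinset.1 z.2).1 (hfin.mem_toFinset.1 z.2).2.1) : X.functionField) y := fun s => by
    induction s using Finset.cons_induction with
    | empty => simp [ord_one]
    | cons z s hz ih =>
      have hfz : f z ≠ 0 := pow_ne_zero _ (hr0 _ _ _)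
      rw [Finset.prod_cons, Finset.sum_cons]
      refine ⟨mul_ne_zero hfz ih.1, ?_⟩
      rw [Scheme.ord_mul hfz ih.1, ih.2]
      congr 1
      show Scheme.ord (_ ^ _) y = _
      generalize (D z.1).toNat = n
      induction n with
      | zero => simp [ord_one]
      | succ n ihn => rw [pow_succ, Scheme.ord_mul (pow_ne_zero n (hr0 _ _ _)) (hr0 _ _ _), ihn]; push_cast; ring
  have he : (X.presheaf.germ U _ hη (∏ y ∈ hfin.toFinset.attach, r y.1 (hfin.mem_toFinset.1 y.2).1 (hfin.mem_toFinset.1 y.2).2.1 ^ (D y.1).toNat) : X.functionField) =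
      ∏ z ∈ hfin.toFinset.attach, f z := by
    rw [map_prod]
    exact Finset.prod_congr rfl fun z _ => map_pow _ _ _
  rw [he, (hsum _).2]
  by_cases hD : D y ≤ 0
  · exact hD.trans (Finset.sum_nonneg fun z _ => mul_nonneg (Int.natCast_nonneg _) (hnn _ (hr0 _ _ _)))
  · have hmem : y ∈ hfin.toFinset := hfin.mem_toFinset.2 ⟨hy, h1, by omega⟩
    refine le_trans ?_ (Finset.single_le_sum (fun z _ => mul_nonneg (Int.natCast_nonneg _) (hnn _ (hr0 _ _ _)))
      (Finset.mem_attach _ ⟨y, hmem⟩))
    have h2 := mul_le_mul_of_nonneg_left (hr1 y hy h1) (Int.natCast_nonneg (D y).toNat)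
    rw [mul_one] at h2
    show D y ≤ ((D y).toNat : ℤ) * Scheme.ord (X.presheaf.germ U _ hη (r y hy h1) : X.functionField) y
    omega

theorem isCoh_od : Coh.IsCoh (od hX D) := by
  have hq := isQCoh_od (hX := hX) (D := D)
  refine (M1.isCoh_iff_isFP _).2 (M1.isFP_of_finitePresentation_sections hq fun U hU => ?_)
  haveI : IsNoetherianRing Γ(X, U) := IsLocallyNoetherian.component_noetherian ⟨U, hU⟩
  rcases (U : Set X).eq_empty_or_nonempty with h0 | ⟨z, hz⟩
  · haveI : Subsingleton Γ(od hX D, U) :=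
      ⟨fun a b => od_ext fun hη => ((Set.eq_empty_iff_forall_notMem.1 h0) _ hη).elim⟩
    exact Module.finitePresentation_of_finite _ _
  have hη := mem_of_genericPoint U hz
  haveI : Nonempty U := ⟨⟨z, hz⟩⟩
  obtain ⟨c, hc0, hc⟩ := exists_denominator (hX := hX) (D := D) hU hη
  have hinj := germ_injective_of_isIntegral X (genericPoint X) hη
  have hex : ∀ f : Γ(od hX D, U), ∃ a : Γ(X, U), (X.presheaf.germ U _ hη a : X.functionField) =
      X.presheaf.germ U _ hη c * odVal hη f := fun f => by
    set k : X.functionField := X.presheaf.germ U _ hη c * odVal hη f with hkdef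
    obtain ⟨s, hs⟩ := exists_section_of_inStalk (F := Coh.structureModule X) U (fun y _ => (closed1_structure hX).1 y)
      (str (genericPoint X) k) fun y hy => (closed1_structure hX).2 y _ fun ξ hξ hdim => by
        have h1 := (dim_eq_one_iff ξ).1 hdim
        rcases eq_or_ne k 0 with hk | hk
        · exact ⟨0, by rw [map_zero, hk]; exact (map_zero (str (genericPoint X))).symm⟩
        have hf0 : odVal hη f ≠ 0 := fun h0 => hk (by rw [hkdef, h0, mul_zero])
        obtain ⟨b, hb⟩ := (inStalk_function_iff hX h1 hk).2 (by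
          rcases od_good hη f (hξ.mem_open U.isOpen hy) h1 with h2 | h2
          · exact absurd h2 hf0
          · rw [hkdef, Scheme.ord_mul (f := (X.presheaf.germ U _ hη c : X.functionField)) hc0 hf0]
            have := hc ξ (hξ.mem_open U.isOpen hy) h1
            omega)
        exact ⟨str ξ b, by rw [str_apply, Cyc26.stalkSpecializes_smul_one, hb]; rfl⟩
    refine ⟨(show Γ(X, U) from s), ?_⟩
    have h2 := hs _ hη
    rw [TopCat.Presheaf.germ_stalkSpecializes_apply] at h2
    exact (str_symm_germ hη s).symm.trans ((congrArg (str (genericPoint X)).symm h2).trans ((str (genericPoint X)).symm_apply_apply _))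
  choose a ha using hex
  let Φ : Γ(od hX D, U) →ₗ[Γ(X, U)] Γ(X, U) :=
    { toFun := a
      map_add' := fun f g => hinj (by
        rw [map_add]
        exact (ha _).trans ((by rw [odVal_add, mul_add] : _ = _).trans (congrArg₂ (· + ·) (ha f) (ha g)).symm))
      map_smul' := fun r f => hinj (by
        rw [RingHom.id_apply, smul_eq_mul, map_mul]
        refine (ha _).trans ?_
        rw [odVal_smul, mul_left_comm]
        exact congrArg (fun z : X.functionField => (X.presheaf.germ U _ hη r : X.functionField) * z) (ha f).symm) }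
  haveI : Module.Finite Γ(X, U) Γ(od hX D, U) := Module.Finite.of_injective Φ fun f g h => od_ext fun hη' => by
    have h1 := (ha f).symm.trans ((congrArg (fun z => (X.presheaf.germ U _ hη z : X.functionField)) h).trans (ha g))
    exact mul_left_cancel₀ (show (X.presheaf.germ U _ hη c : X.functionField) ≠ 0 from hc0) h1
  exact Module.finitePresentation_of_finite _ _

theorem r1_od : R1 (od hX D) := by
  refine ⟨hX, isCoh_od, ⟨fun x v w h => ?_, fun x a h => ?_⟩, _, gen_oneη⟩
  · obtain ⟨U, hU, f, rfl⟩ := (od hX D).presheaf.exists_germ_eq v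
    obtain ⟨V, hV, g, rfl⟩ := (od hX D).presheaf.exists_germ_eq w
    rw [TopCat.Presheaf.germ_stalkSpecializes_apply, TopCat.Presheaf.germ_stalkSpecializes_apply] at h
    exact germ_eq_of_odVal _ _ (odVal_eq_of_germ _ _ h) hU hV
  · obtain ⟨k, rfl⟩ := gen_oneη.2 a
    refine (inStalk_od_iff x k).2 fun ξ hξ h1 => ?_
    exact (inStalk_od_iff ξ k).1 (h ξ hξ ((dim_eq_one_iff ξ).2 h1)) ξ specializes_rfl h1

theorem oneη_ne_zero : oneη hX D ≠ 0 := fun h =>
  zero_ne_one (α := X.functionField) (gen_oneη.1 (by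
    show (0 : X.presheaf.stalk (genericPoint X)) • oneη hX D = (1 : X.presheaf.stalk (genericPoint X)) • oneη hX D
    rw [h, smul_zero, smul_zero]))

theorem ordv_oneη {x : X} (hx : Order.coheight x = 1) : ordv (od hX D) x (oneη hX D) = D x := by
  have key : ∀ n : ℤ, 0 ≤ n + ordv (od hX D) x (oneη hX D) ↔ 0 ≤ n + D x := fun n => by
    obtain ⟨k, hk, rfl⟩ := exists_ord_eq hX hx n
    rw [← r1_od.ordv_smul hx hk oneη_ne_zero, ← r1_od.inStalk_iff hx (r1_od.smul_ne_zero hk oneη_ne_zero)]
    refine (inStalk_od_iff x k).trans ⟨fun h => (h x specializes_rfl hx hx).resolve_left hk, fun h ξ hξ h1 => ?_⟩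
    rw [eq_of_coheight_one hξ h1 hx]
    exact fun _ => Or.inr h
  have a1 := key (-D x)
  have a2 := key (-ordv (od hX D) x (oneη hX D))
  omega

/-- The orders of a value form a cycle. -/
theorem R1.exists_cycle {F : X.Modules} (hF : R1 F) {a : F.presheaf.stalk (genericPoint X)} (ha : a ≠ 0) :
    ∃ E : AlgebraicCycle X ℤ, (∀ x : X, Order.coheight x ≠ 1 → E x = 0) ∧
      ∀ x : X, Order.coheight x = 1 → E x = ordv F x a := by
  classical
  obtain ⟨g, hg⟩ := hF.gen
  obtain ⟨k, rfl⟩ := hg.2 a
  have hk : k ≠ 0 := fun h => ha (by rw [h]; exact zero_smul _ g)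
  obtain ⟨c, hc⟩ := (isField_η (X := X)).mul_inv_cancel hk
  obtain ⟨W, hW, e, he, hge⟩ := exists_isGenerator_nhd hF.coh ((hg.ne_zero_smul k).2 (IsUnit.of_mul_eq_one _ hc))
  have hzero : ∀ x ∈ W, Order.coheight x = 1 → ordv F x (k • g) = 0 := fun x hxW hx => by
    have hgx := Amp.gen_of_isGenerator he hxW
    have hsp : F.presheaf.stalkSpecializes (gsp x) (Amp.gm F x hxW e) = k • g := by
      rw [← hge]; exact TopCat.Presheaf.germ_stalkSpecializes_apply _ _ _ _
    have hgη : Amp.Gen (F.presheaf.stalkSpecializes (gsp x) (Amp.gm F x hxW e)) := by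
      rw [hsp]; exact (hg.ne_zero_smul k).2 (IsUnit.of_mul_eq_one _ hc)
    have h := ordv_gen hx hgx hgη (one_ne_zero (α := X.functionField))
    rw [show (1 : X.functionField) • F.presheaf.stalkSpecializes (gsp x) (Amp.gm F x hxW e) = k • g from
      (one_smul (X.presheaf.stalk (genericPoint X)) _).trans hsp, ord_one] at h
    exact h
  let E : X → ℤ := fun x => if Order.coheight x = 1 then ordv F x (k • g) else 0
  refine ⟨{ toFun := E, supportWithinDomain' := Set.subset_univ _, supportLocallyFiniteWithinDomain' := fun z _ => ?_ },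
    fun x hx => if_neg hx, fun x hx => if_pos hx⟩
  obtain ⟨U, hU, hzU, -⟩ := exists_isAffineOpen_mem_and_subset (x := z) (U := (⊤ : X.Opens)) trivial
  refine ⟨U, U.isOpen.mem_nhds hzU,
    (finite_coheight_one hU W.isOpen.isClosed_compl (fun h => h hW)).subset fun x hx => ?_⟩
  obtain ⟨hxU, hxE⟩ := hx
  by_cases h1 : Order.coheight x = 1
  · exact ⟨hxU, fun hxW => hxE (by simp only [E, if_pos h1]; exact hzero x hxW h1), h1⟩
  · exact absurd (if_neg h1) hxE

end Groth.Agent.RH26
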