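import Groth.Agent.Lib.RefHull26.Ops

/-! # The group law on classes of rank one reflexive modules -/

set_option autoImplicit false
universe u

set_option backward.isDefEq.respectTransparency.types false

open CategoryTheory AlgebraicGeometry TopologicalSpace Opposite

namespace Groth.Agent.RH26

variable {X : Scheme.{u}}

theorem nonempty_iso_of_cl {F G : X.Modules} (h : PicF.cl F = PicF.cl G) : Nonempty (F ≅ G) := by
  have h' := Quot.eqvGen_exact h
  clear h
  induction h' with
  | rel a b hab => exact hab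
  | refl a => exact ⟨Iso.refl _⟩
  | symm a b _ ih => exact ih.map Iso.symm
  | trans a b c _ _ ih ih' => exact ⟨ih.some ≪≫ ih'.some⟩

variable [IsIntegral X] [IsLocallyNoetherian X] {F G H F' G' : X.Modules}

theorem R1.exists_ne_zero (hF : R1 F) : ∃ a : F.presheaf.stalk (genericPoint X), a ≠ 0 := by
  obtain ⟨g, hg⟩ := hF.gen
  exact ⟨g, fun h => zero_ne_one (α := X.presheaf.stalk (genericPoint X)) (hg.1 (by
    show (0 : X.presheaf.stalk (genericPoint X)) • g = (1 : X.presheaf.stalk (genericPoint X)) • g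
    rw [h, smul_zero, smul_zero]))⟩

theorem R1.map_ne_zero (e : F ≅ G) {a : F.presheaf.stalk (genericPoint X)} (ha : a ≠ 0) :
    RefHull.stalkMapₗ e.hom (genericPoint X) a ≠ 0 := fun h =>
  ha (((isIso_iff_stalkMapₗ e.hom).1 inferInstance _).1 (h.trans (map_zero _).symm))

theorem R1.tensorHull_congr (hF : R1 F) (hF' : R1 F') (hG : R1 G) (hG' : R1 G') (e : F ≅ F') (e' : G ≅ G') :
    Nonempty (RefHull.ddual (CohB1.tensorMod F G) ≅ RefHull.ddual (CohB1.tensorMod F' G')) := by
  obtain ⟨a, ha⟩ := hF.exists_ne_zero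
  obtain ⟨b, hb⟩ := hG.exists_ne_zero
  obtain ⟨h1, h2⟩ := hF.pr_spec hG ha hb
  obtain ⟨h3, h4⟩ := hF'.pr_spec hG' (R1.map_ne_zero e ha) (R1.map_ne_zero e' hb)
  exact (hF.tensorHull hG).nonempty_iso (hF'.tensorHull hG') h1 h3 fun x hx => by
    rw [h2 x hx, h4 x hx, hF.ordv_map e hx ha, hG.ordv_map e' hx hb]

theorem R1.tensorHull_comm (hF : R1 F) (hG : R1 G) :
    Nonempty (RefHull.ddual (CohB1.tensorMod F G) ≅ RefHull.ddual (CohB1.tensorMod G F)) := by
  obtain ⟨a, ha⟩ := hF.exists_ne_zero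
  obtain ⟨b, hb⟩ := hG.exists_ne_zero
  obtain ⟨h1, h2⟩ := hF.pr_spec hG ha hb
  obtain ⟨h3, h4⟩ := hG.pr_spec hF hb ha
  exact (hF.tensorHull hG).nonempty_iso (hG.tensorHull hF) h1 h3 fun x hx => by
    rw [h2 x hx, h4 x hx, add_comm]

theorem R1.tensorHull_assoc (hF : R1 F) (hG : R1 G) (hH : R1 H) :
    Nonempty (RefHull.ddual (CohB1.tensorMod (RefHull.ddual (CohB1.tensorMod F G)) H) ≅
      RefHull.ddual (CohB1.tensorMod F (RefHull.ddual (CohB1.tensorMod G H)))) := by
  obtain ⟨a, ha⟩ := hF.exists_ne_zero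
  obtain ⟨b, hb⟩ := hG.exists_ne_zero
  obtain ⟨c, hc⟩ := hH.exists_ne_zero
  obtain ⟨h1, h2⟩ := hF.pr_spec hG ha hb
  obtain ⟨h3, h4⟩ := hG.pr_spec hH hb hc
  obtain ⟨h5, h6⟩ := (hF.tensorHull hG).pr_spec hH h1 hc
  obtain ⟨h7, h8⟩ := hF.pr_spec (hG.tensorHull hH) ha h3
  exact ((hF.tensorHull hG).tensorHull hH).nonempty_iso (hF.tensorHull (hG.tensorHull hH)) h5 h7 fun x hx => by
    rw [h6 x hx, h8 x hx, h2 x hx, h4 x hx, add_assoc]

theorem ordv_structure_one {x : X} (hX : Pi1.IsNormalScheme X) (hx : Order.coheight x = 1) :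
    ordv (Coh.structureModule X) x (str (genericPoint X) 1) = 0 := by
  have hg : Amp.Gen (str x 1) := gen_of_equiv (str x)
  have hsp : (Coh.structureModule X).presheaf.stalkSpecializes (gsp x) (str x 1) = str (genericPoint X) 1 := by
    rw [str_apply, str_apply, Cyc26.stalkSpecializes_smul_one, map_one]
  have hgη : Amp.Gen ((Coh.structureModule X).presheaf.stalkSpecializes (gsp x) (str x 1)) := by
    rw [hsp]; exact gen_of_equiv (str (genericPoint X))
  have h := ordv_gen hx hg hgη (one_ne_zero (α := X.functionField))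
  rw [show (1 : X.functionField) • (Coh.structureModule X).presheaf.stalkSpecializes (gsp x) (str x 1) = _ from
    one_smul (X.presheaf.stalk (genericPoint X)) _, hsp, ord_one] at h
  exact h

theorem str_one_ne_zero : str (genericPoint X) 1 ≠ 0 := fun h =>
  zero_ne_one (α := X.presheaf.stalk (genericPoint X)) ((str (genericPoint X)).injective (h.trans (map_zero _).symm)).symm

theorem R1.one_tensorHull (hF : R1 F) :
    Nonempty (RefHull.ddual (CohB1.tensorMod (Coh.structureModule X) F) ≅ F) := by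
  obtain ⟨a, ha⟩ := hF.exists_ne_zero
  obtain ⟨h1, h2⟩ := (R1.structureModule hF.normal).pr_spec hF str_one_ne_zero ha
  exact ((R1.structureModule hF.normal).tensorHull hF).nonempty_iso hF h1 ha fun x hx => by
    rw [h2 x hx, ordv_structure_one hF.normal hx, zero_add]

theorem R1.dual_tensorHull (hF : R1 F) :
    Nonempty (RefHull.ddual (CohB1.tensorMod (RefHull.dual F) F) ≅ Coh.structureModule X) := by
  obtain ⟨a, ha⟩ := hF.exists_ne_zero
  obtain ⟨w, hw, hw'⟩ := hF.dual_spec ha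
  obtain ⟨h1, h2⟩ := hF.dual.pr_spec hF hw ha
  exact (hF.dual.tensorHull hF).nonempty_iso (R1.structureModule hF.normal) h1 str_one_ne_zero fun x hx => by
    rw [h2 x hx, hw' x hx, ordv_structure_one hF.normal hx, neg_add_cancel]

theorem R1.dual_congr (hF : R1 F) (hG : R1 G) (e : F ≅ G) : Nonempty (RefHull.dual F ≅ RefHull.dual G) := by
  obtain ⟨a, ha⟩ := hF.exists_ne_zero
  obtain ⟨w, hw, hw'⟩ := hF.dual_spec ha
  obtain ⟨w', hw1, hw2⟩ := hG.dual_spec (R1.map_ne_zero e ha)
  exact hF.dual.nonempty_iso hG.dual hw hw1 fun x hx => by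
    rw [hw' x hx, hw2 x hx, hF.ordv_map e hx ha]

end Groth.Agent.RH26
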