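import Groth.Agent.Lib.RefHull26.PowColim

/-! # When the isomorphism locus of a section is affine over the base -/

set_option autoImplicit false
universe u

set_option backward.isDefEq.respectTransparency.types false

open CategoryTheory AlgebraicGeometry TopologicalSpace Opposite
open scoped Pointwise

namespace Groth.Agent.RH26

variable {X : Scheme.{u}} [IsIntegral X] [IsLocallyNoetherian X] {F : X.Modules}
  (s : Coh.structureModule X ⟶ F)

/-- The rational function of a section. -/
noncomputable def gfun {U : X.Opens} {y : X} (hy : y ∈ U) : Γ(X, U) →+* X.functionField :=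
  (X.presheaf.germ U (genericPoint X) (mem_of_genericPoint U hy)).hom

omit [IsLocallyNoetherian X] in
theorem gfun_eq_sp {U : X.Opens} {y z : X} (hy : y ∈ U) (hz : z ∈ U) (a : Γ(X, U)) :
    gfun hy a = X.presheaf.stalkSpecializes (gsp z) (X.presheaf.germ U z hz a) :=
  (TopCat.Presheaf.germ_stalkSpecializes_apply _ _ _ _).symm

omit [IsLocallyNoetherian X] in
theorem gfun_res {U V : X.Opens} {y z : X} (h : V ≤ U) (hy : y ∈ U) (hz : z ∈ V) (a : Γ(X, U)) :
    gfun hz (X.presheaf.map (homOfLE h).op a) = gfun hy a :=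
  TopCat.Presheaf.germ_res_apply _ _ _ _ _

theorem inStalk_structure_iff (z : X) (k : X.functionField) :
    InStalk (Coh.structureModule X) z (str (genericPoint X) k) ↔
      ∃ b, X.presheaf.stalkSpecializes (gsp z) b = k := by
  constructor
  · rintro ⟨v, hv⟩
    obtain ⟨c, rfl⟩ := (str z).surjective v
    exact ⟨c, (str _).injective ((Cyc26.stalkSpecializes_smul_one (gsp z) c).symm.trans hv)⟩
  · rintro ⟨b, rfl⟩
    exact ⟨str z b, Cyc26.stalkSpecializes_smul_one _ _⟩

theorem germ_structure {W : X.Opens} {z : X} (hz : z ∈ W) (b : Γ(X, W)) :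
    (Coh.structureModule X).presheaf.germ W z hz (show Γ(X, W) from b) =
      str z (X.presheaf.germ W z hz b) := by
  rw [str_apply, Cyc26.oneStalk, ← TopCat.Presheaf.germ_res_apply (Coh.structureModule X).presheaf
    (homOfLE (le_top : W ≤ ⊤)) z hz, ← gsmul]
  refine congrArg _ ?_
  show b = b * (X.presheaf.map (homOfLE le_top).op 1)
  rw [map_one]
  exact (mul_one b).symm

/-- A function regular on an open subset is a section. -/
theorem exists_gfun_eq {W : X.Opens} {y : X} (hy : y ∈ W) (k : X.functionField)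
    (h : ∀ z ∈ W, ∃ b, X.presheaf.stalkSpecializes (gsp z) b = k) : ∃ b : Γ(X, W), gfun hy b = k := by
  have hη := mem_of_genericPoint W hy
  obtain ⟨b, hb⟩ := exists_section_of_inStalk (F := Coh.structureModule X) W
    (fun z _ => (closed1_inj z)) (str (genericPoint X) k) fun z hz => (inStalk_structure_iff z k).2 (h z hz)
  refine ⟨(show Γ(X, W) from b), ?_⟩
  have := hb y hy
  rw [show (Coh.structureModule X).presheaf.germ W y hy b =
    str y (X.presheaf.germ W y hy (show Γ(X, W) from b)) from germ_structure hy b] at this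
  rw [gfun_eq_sp hy hy]
  exact (str (genericPoint X)).injective ((Cyc26.stalkSpecializes_smul_one _ _).symm.trans this)
  where
  closed1_inj (z : X) : Function.Injective ((Coh.structureModule X).presheaf.stalkSpecializes (gsp z)) := fun v w e => by
    obtain ⟨r, rfl⟩ := (str z).surjective v
    obtain ⟨r', rfl⟩ := (str z).surjective w
    rw [show (Coh.structureModule X).presheaf.stalkSpecializes (gsp z) (str z r) =
        str (genericPoint X) (X.presheaf.stalkSpecializes (gsp z) r) from Cyc26.stalkSpecializes_smul_one _ r,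
      show (Coh.structureModule X).presheaf.stalkSpecializes (gsp z) (str z r') =
        str (genericPoint X) (X.presheaf.stalkSpecializes (gsp z) r') from Cyc26.stalkSpecializes_smul_one _ r'] at e
    rw [sp_injective z ((str _).injective e)]

/-- A local generator condition: generic values `k` with `k • s^n` in the stalk are regular on the locus. -/
theorem regular_of_inStalk_pow (hF : R1 F) {n : ℕ} {z : X} (hz : z ∈ RefPow.isoLocus s) {k : X.functionField}
    (h : InStalk (RefPow.refPow F n) z (k • RefPow.sPowGerm s n (genericPoint X))) :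
    ∃ b, X.presheaf.stalkSpecializes (gsp z) b = k := by
  obtain ⟨v, hv⟩ := h
  obtain ⟨c, rfl⟩ := (gen_pow s hF.coh hz n).2 v
  rw [Cyc26.stalkSpecializes_smul, sPowGerm_sp] at hv
  have hgen := gen_pow s hF.coh (show genericPoint X ∈ RefPow.isoLocus s from by
    have := (bijective_iff_gen s z).1 hz
    refine (bijective_iff_gen s _).2 ?_
    rw [← TopCat.Presheaf.germ_stalkSpecializes_apply F.presheaf (U := ⊤) (y := z) trivial (gsp z)]
    exact gen_sp (hF.closed.1 z) (gen_of_ne_zero hF (fun h0 => ne_zero_of_gen this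
      (hF.closed.1 z (h0.trans (map_zero _).symm)))) this) n
  exact ⟨c, hgen.1 hv⟩

theorem gen_η_of_gen (hF : R1 F) {z : X} (hz : z ∈ RefPow.isoLocus s) :
    genericPoint X ∈ RefPow.isoLocus s := by
  by_contra h
  exact ne_zero_of_gen ((bijective_iff_gen s z).1 hz) (germ_eq_zero_of_not_mem s hF h z)

omit [IsIntegral X] [IsLocallyNoetherian X] in
theorem mem_basicOpen_iff_germ {U : X.Opens} {z : X} (hz : z ∈ U) (f : Γ(X, U)) :
    z ∈ X.basicOpen f ↔ IsUnit (X.presheaf.germ U z hz f) := Scheme.mem_basicOpen X f z hz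

theorem ord_pow_le {k : X.functionField} (hk : k ≠ 0) (x : X) (n : ℕ) :
    Scheme.ord (k ^ n) x = n * Scheme.ord k x := by
  induction n with
  | zero => rw [pow_zero, ord_one, Nat.cast_zero, zero_mul]
  | succ n ih => rw [pow_succ, Scheme.ord_mul (pow_ne_zero n hk) hk, ih]; push_cast; ring

/-- A rational function regular on a basic open of the locus becomes regular after multiplication by a power. -/
theorem exists_pow_regular (hX : Pi1.IsNormalScheme X) (U : X.Opens) {V : X.Opens} (hV : IsAffineOpen V) {y : X}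
    (hy : y ∈ V) (f : Γ(X, V)) (hfy : y ∈ X.basicOpen f) (k : X.functionField)
    (hk : ∀ z : X, z ∈ X.basicOpen f → z ∈ U → ∃ b, X.presheaf.stalkSpecializes (gsp z) b = k) :
    ∃ N : ℕ, ∀ z ∈ V ⊓ U, ∃ b, X.presheaf.stalkSpecializes (gsp z) b = gfun hy f ^ N * k := by
  rcases eq_or_ne k 0 with rfl | hk0
  · exact ⟨0, fun z _ => ⟨0, by rw [map_zero, mul_zero]⟩⟩
  have hηf : genericPoint X ∈ X.basicOpen f := mem_of_genericPoint _ hfy
  have hf0 : gfun hy f ≠ 0 :=
    ((mem_basicOpen_iff_germ (mem_of_genericPoint V hy) f).1 hηf).ne_zero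
  have hfin := finite_coheight_one hV (X.basicOpen f).isOpen.isClosed_compl (fun h' => h' hηf)
  refine ⟨hfin.toFinset.sup fun ξ => (Scheme.ord k ξ).natAbs, fun z hz => mem_range_sp hX z _ fun ξ hξ h1 => ?_⟩
  set N := hfin.toFinset.sup fun ξ => (Scheme.ord k ξ).natAbs
  have h1' := (dim_eq_one_iff ξ).1 h1
  have hξV : ξ ∈ V := hξ.mem_open V.isOpen hz.1
  have hξU : ξ ∈ U := hξ.mem_open U.isOpen hz.2
  rw [gfun_eq_sp hy hξV] at hf0 ⊢
  by_cases hξf : ξ ∈ X.basicOpen f
  · obtain ⟨b, hb⟩ := hk ξ hξf hξU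
    exact ⟨X.presheaf.germ V ξ hξV f ^ N * b, by rw [map_mul, map_pow, hb]⟩
  · have hr0 : X.presheaf.germ V ξ hξV f ≠ 0 := fun h0 => hf0 (by rw [h0, map_zero])
    have h2 : 1 ≤ Scheme.ord (X.presheaf.stalkSpecializes (gsp ξ) (X.presheaf.germ V ξ hξV f)) ξ :=
      one_le_ord_of_not_isUnit hX h1' hr0 fun hu => hξf ((mem_basicOpen_iff_germ hξV f).2 hu)
    have hn : (Scheme.ord k ξ).natAbs ≤ N :=
      Finset.le_sup (f := fun ξ => (Scheme.ord k ξ).natAbs) (hfin.mem_toFinset.2 ⟨hξV, hξf, h1'⟩)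
    have h3 : (N : ℤ) ≤ N * Scheme.ord (X.presheaf.stalkSpecializes (gsp ξ) (X.presheaf.germ V ξ hξV f)) ξ :=
      le_mul_of_one_le_right (Int.natCast_nonneg N) h2
    rw [inStalk_function_iff hX h1' (mul_ne_zero (pow_ne_zero N hf0) hk0),
      Scheme.ord_mul (pow_ne_zero N hf0) hk0, ord_pow_le hf0]
    omega

/-- The locus meets an affine open in an affine open. -/
theorem isAffineOpen_inf_of_mem (hF : R1 F) (U : X.Opens) (hU : (U : Set X) = RefPow.isoLocus s)
    (h : ∀ x : X, x ∉ U → ∃ n : ℕ, 0 < n ∧ RefPow.sPowGerm s n x ∈ IsLocalRing.maximalIdeal (X.presheaf.stalk x) •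
      (⊤ : Submodule (X.presheaf.stalk x) ((RefPow.refPow F n).presheaf.stalk x)))
    {V : X.Opens} (hV : IsAffineOpen V) : IsAffineOpen (V ⊓ U) := by
  rcases ((V ⊓ U : X.Opens) : Set X).eq_empty_or_nonempty with h0 | ⟨y₀, hy₀⟩
  · rw [show V ⊓ U = ⊥ from Opens.ext h0]
    exact isAffineOpen_bot X
  have hη' : genericPoint X ∈ RefPow.isoLocus s := gen_η_of_gen s hF ((Set.ext_iff.1 hU y₀).1 hy₀.2)
  let res : Γ(X, V) →+* Γ(X, V ⊓ U) := (X.presheaf.map (homOfLE (inf_le_left : V ⊓ U ≤ V)).op).hom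
  refine isAffineOpen_of_isAffineOpen_basicOpen _ (res '' {a | X.basicOpen a ≤ U}) ?_ ?_
  swap
  · rintro _ ⟨a, ha, rfl⟩
    have : X.basicOpen (res a) = X.basicOpen a := by
      show X.basicOpen (X.presheaf.map _ a) = _
      rw [Scheme.basicOpen_res]
      exact inf_eq_right.2 (le_inf (X.basicOpen_le a) ha)
    rw [this]
    exact hV.basicOpen a
  by_contra hJ
  obtain ⟨q, hq, hle⟩ := Ideal.exists_le_maximal _ hJ
  have hp : (q.comap res).IsPrime := Ideal.comap_isPrime res q
  let y : X := hV.fromSpec ⟨q.comap res, hp⟩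
  have hyV : y ∈ V := by
    have : y ∈ Set.range hV.fromSpec := ⟨_, rfl⟩
    rwa [hV.range_fromSpec] at this
  have hmem : ∀ a, y ∈ X.basicOpen a ↔ res a ∉ q := fun a => by
    show (⟨q.comap res, hp⟩ : PrimeSpectrum _) ∈ hV.fromSpec ⁻¹ᵁ X.basicOpen a ↔ _
    rw [hV.fromSpec_preimage_basicOpen]
    exact Iff.rfl
  have hyU : y ∉ U := fun hyU => by
    obtain ⟨a, ha, hya⟩ := hV.exists_basicOpen_le (V := U) ⟨y, hyU⟩ hyV
    exact (hmem a).1 hya (hle (Ideal.subset_span ⟨a, ha, rfl⟩))
  obtain ⟨n, hn, hσ⟩ := h y hyU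
  set σ := RefPow.sPowGerm s n (genericPoint X) with hσdef
  have hgen : Amp.Gen σ := gen_pow s hF.coh hη' n
  have key : ∃ k : X.functionField, (RefPow.refPow F n).presheaf.stalkSpecializes (gsp y) (RefPow.sPowGerm s n y) =
      k • σ ∧ ∃ c : Γ(X, V), y ∈ X.basicOpen c ∧ ∃ b ∈ q, gfun hy₀ b = gfun hyV c * k := by
    refine Submodule.smul_induction_on
      (p := fun v => ∃ k : X.functionField, (RefPow.refPow F n).presheaf.stalkSpecializes (gsp y) v = k • σ ∧
        ∃ c : Γ(X, V), y ∈ X.basicOpen c ∧ ∃ b ∈ q, gfun hy₀ b = gfun hyV c * k) hσ (fun m hm a _ => ?_) ?_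
    · obtain ⟨k, hk⟩ := hgen.2 ((RefPow.refPow F n).presheaf.stalkSpecializes (gsp y) a)
      obtain ⟨f, hfW, hfy⟩ := hV.exists_basicOpen_le
        (V := ⟨_, isOpen_inStalk (F := RefPow.refPow F n) (k • σ)⟩) ⟨y, a, hk.symm⟩ hyV
      obtain ⟨N, hN⟩ := exists_pow_regular hF.normal U hV hyV f hfy k fun z hz hzU =>
        regular_of_inStalk_pow s hF ((Set.ext_iff.1 hU z).1 hzU) (hfW hz)
      obtain ⟨b₀, hb₀⟩ := exists_gfun_eq (W := V ⊓ U) hy₀ _ hN
      letI := TopCat.Presheaf.algebra_section_stalk X.presheaf (⟨y, hyV⟩ : V)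
      haveI := hV.isLocalization_stalk ⟨y, hyV⟩
      obtain ⟨⟨r, t⟩, hrt⟩ := IsLocalization.surj (hV.primeIdealOf ⟨y, hyV⟩).asIdeal.primeCompl m
      have ht : IsUnit (X.presheaf.germ V y hyV t.1) :=
        IsLocalization.map_units (X.presheaf.stalk y) t
      have hr : res r ∈ q := by
        by_contra hr
        have hru := (mem_basicOpen_iff_germ hyV r).1 ((hmem r).2 hr)
        refine hm ?_
        have : IsUnit (m * X.presheaf.germ V y hyV t.1) := by
          rw [show m * X.presheaf.germ V y hyV t.1 = X.presheaf.germ V y hyV r from hrt]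
          exact hru
        exact isUnit_of_mul_isUnit_left this
      refine ⟨X.presheaf.stalkSpecializes (gsp y) m * k, ?_, t.1 * f ^ N, ?_, res r * b₀, q.mul_mem_right _ hr, ?_⟩
      · rw [Cyc26.stalkSpecializes_smul, ← hk, ← mul_smul]
      · rw [mem_basicOpen_iff_germ hyV, map_mul, map_pow]
        exact ht.mul (((mem_basicOpen_iff_germ hyV f).1 hfy).pow N)
      · rw [map_mul (gfun hy₀), hb₀, map_mul (gfun hyV), map_pow,
          show gfun hy₀ (res r) = gfun hyV r from gfun_res _ hyV hy₀ r,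
          gfun_eq_sp hyV hyV r, gfun_eq_sp hyV hyV t.1,
          show X.presheaf.germ V y hyV r = m * X.presheaf.germ V y hyV t.1 from hrt.symm, map_mul]
        ring
    · rintro v w ⟨k, hk, c, hc, b, hb, e⟩ ⟨k', hk', c', hc', b', hb', e'⟩
      refine ⟨k + k', ?_, c * c', ?_, b * res c' + b' * res c,
        q.add_mem (q.mul_mem_right _ hb) (q.mul_mem_right _ hb'), ?_⟩
      · rw [map_add, hk, hk']; exact (add_smul k k' σ).symm
      · rw [mem_basicOpen_iff_germ hyV, map_mul]
        exact ((mem_basicOpen_iff_germ hyV c).1 hc).mul ((mem_basicOpen_iff_germ hyV c').1 hc')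
      · rw [map_add, map_mul (gfun hy₀), map_mul (gfun hy₀), map_mul (gfun hyV), e, e',
          show gfun hy₀ (res c') = gfun hyV c' from gfun_res _ hyV hy₀ c',
          show gfun hy₀ (res c) = gfun hyV c from gfun_res _ hyV hy₀ c]
        ring
  obtain ⟨k, hk, c, hc, b, hb, e⟩ := key
  have hk1 : k = 1 := hgen.1 (show k • σ = (1 : X.functionField) • σ by
    rw [← hk, sPowGerm_sp]; exact (one_smul _ σ).symm)
  rw [hk1, mul_one, ← gfun_res (inf_le_left : V ⊓ U ≤ V) hyV hy₀ c] at e
  have : b = res c := germ_injective_of_isIntegral X (genericPoint X) (mem_of_genericPoint _ hy₀) e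
  exact (hmem c).1 hc (this ▸ hb)

/-- If the locus is affine over the base, a power of the section vanishes at the points outside. -/
theorem exists_mem_of_isAffineOpen (hF : R1 F) (U : X.Opens) (hU : (U : Set X) = RefPow.isoLocus s)
    {V : X.Opens} (hV : IsAffineOpen V) (hW : IsAffineOpen (V ⊓ U)) {x : X} (hxV : x ∈ V) (hxU : x ∉ U) :
    ∃ n : ℕ, 0 < n ∧ RefPow.sPowGerm s n x ∈ IsLocalRing.maximalIdeal (X.presheaf.stalk x) •
      (⊤ : Submodule (X.presheaf.stalk x) ((RefPow.refPow F n).presheaf.stalk x)) := by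
  by_cases hη' : genericPoint X ∈ RefPow.isoLocus s
  swap
  · refine ⟨1, one_pos, ?_⟩
    rw [RefPow.sPowGerm, RefPow.sPow_one]
    exact (germ_eq_zero_of_not_mem s hF hη' x).symm ▸ Submodule.zero_mem _
  have hηU : genericPoint X ∈ U := (Set.ext_iff.1 hU _).2 hη'
  have hηW : genericPoint X ∈ V ⊓ U := ⟨mem_of_genericPoint V hxV, hηU⟩
  let res : Γ(X, V) →+* Γ(X, V ⊓ U) := (X.presheaf.map (homOfLE (inf_le_left : V ⊓ U ≤ V)).op).hom
  have htop : Ideal.span (res '' {a | x ∉ X.basicOpen a}) = ⊤ := by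
    by_contra hJ
    obtain ⟨q, hq, hle⟩ := Ideal.exists_le_maximal _ hJ
    let z : X := hW.fromSpec ⟨q, hq.isPrime⟩
    have hz : z ∈ V ⊓ U := by
      have : z ∈ Set.range hW.fromSpec := ⟨_, rfl⟩
      rwa [hW.range_fromSpec] at this
    obtain ⟨a, ha, hza⟩ := hV.exists_basicOpen_le (V := U) ⟨z, hz.2⟩ hz.1
    have hx : x ∉ X.basicOpen a := fun hx => hxU (ha hx)
    have hzres : z ∈ X.basicOpen (res a) := by
      show z ∈ X.basicOpen (X.presheaf.map _ a)
      rw [Scheme.basicOpen_res]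
      exact ⟨hz, hza⟩
    have : (⟨q, hq.isPrime⟩ : PrimeSpectrum _) ∈ hW.fromSpec ⁻¹ᵁ X.basicOpen (res a) := hzres
    rw [hW.fromSpec_preimage_basicOpen] at this
    exact this (hle (Ideal.subset_span ⟨a, hx, rfl⟩))
  let P : Γ(X, V ⊓ U) → Prop := fun b => ∀ c : Γ(X, V ⊓ U), ∃ n : ℕ,
    ∃ v ∈ IsLocalRing.maximalIdeal (X.presheaf.stalk x) •
      (⊤ : Submodule (X.presheaf.stalk x) ((RefPow.refPow F n).presheaf.stalk x)),
      (RefPow.refPow F n).presheaf.stalkSpecializes (gsp x) v = gfun hηW (c * b) • RefPow.sPowGerm s n (genericPoint X)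
  have step : ∀ (k : X.functionField) (n : ℕ),
      (∃ v ∈ IsLocalRing.maximalIdeal (X.presheaf.stalk x) •
          (⊤ : Submodule (X.presheaf.stalk x) ((RefPow.refPow F n).presheaf.stalk x)),
        (RefPow.refPow F n).presheaf.stalkSpecializes (gsp x) v = k • RefPow.sPowGerm s n (genericPoint X)) →
      ∀ m, n ≤ m → ∃ v ∈ IsLocalRing.maximalIdeal (X.presheaf.stalk x) •
          (⊤ : Submodule (X.presheaf.stalk x) ((RefPow.refPow F m).presheaf.stalk x)),
        (RefPow.refPow F m).presheaf.stalkSpecializes (gsp x) v = k • RefPow.sPowGerm s m (genericPoint X) := by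
    intro k n hn m hm
    induction m, hm using Nat.le_induction with
    | base => exact hn
    | succ m _ ih =>
      obtain ⟨v, hv, e⟩ := ih
      refine ⟨RefHull.stalkMapₗ (RefPow.mulBy s m) x v, ?_, ?_⟩
      · refine Submodule.smul_induction_on (p := fun v => RefHull.stalkMapₗ (RefPow.mulBy s m) x v ∈ _) hv
          (fun r hr w _ => ?_) fun _ _ h h' => ?_
        · rw [map_smul]; exact Submodule.smul_mem_smul hr trivial
        · rw [map_add]; exact add_mem h h'
      · rw [stalkMapₗ_stalkSpecializes, e, map_smul, sPowGerm_succ]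
  have hP : P 1 := by
    refine Submodule.span_induction (p := fun b _ => P b) ?_ ?_ ?_ ?_
      ((Ideal.eq_top_iff_one _).1 htop)
    · rintro _ ⟨a, ha, rfl⟩ c
      rcases eq_or_ne (gfun hηW c) 0 with h0 | h0
      · refine ⟨0, 0, zero_mem _, ?_⟩
        rw [map_zero, map_mul (gfun hηW), h0, zero_mul]
        exact (zero_smul _ _).symm
      obtain ⟨n, v, hv⟩ := exists_inStalk_pow s hF U hU hηU x h0 fun ξ hξ h1 hξU =>
        (inStalk_function_iff hF.normal h1 h0).1
          ⟨X.presheaf.germ (V ⊓ U) ξ ⟨hξ.mem_open V.isOpen hxV, hξU⟩ c, (gfun_eq_sp hηW _ c).symm⟩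
      have hm : X.presheaf.germ V x hxV a ∈ IsLocalRing.maximalIdeal (X.presheaf.stalk x) :=
        fun hu => ha ((mem_basicOpen_iff_germ hxV a).2 hu)
      refine ⟨n, X.presheaf.germ V x hxV a • v, Submodule.smul_mem_smul hm trivial, ?_⟩
      rw [Cyc26.stalkSpecializes_smul, hv, ← mul_smul, map_mul (gfun hηW),
        show gfun hηW (res a) = gfun hxV a from gfun_res _ hxV hηW a, gfun_eq_sp hxV hxV a, mul_comm]
    · intro c
      refine ⟨0, 0, zero_mem _, ?_⟩
      rw [map_zero, mul_zero, map_zero]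
      exact (zero_smul _ _).symm
    · intro b b' _ _ hb hb' c
      obtain ⟨n, h1⟩ := hb c
      obtain ⟨n', h2⟩ := hb' c
      obtain ⟨v, hv, e⟩ := step _ n h1 (max n n') (le_max_left _ _)
      obtain ⟨v', hv', e'⟩ := step _ n' h2 (max n n') (le_max_right _ _)
      refine ⟨max n n', v + v', add_mem hv hv', ?_⟩
      rw [map_add, e, e', mul_add, map_add (gfun hηW)]
      exact (add_smul _ _ _).symm
    · intro d b _ hb c
      rw [smul_eq_mul, ← mul_assoc]
      exact hb (c * d)
  obtain ⟨n, hn⟩ := hP 1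
  obtain ⟨v, hv, e⟩ := step _ n hn (n + 1) n.le_succ
  refine ⟨n + 1, n.succ_pos, ?_⟩
  have : RefPow.sPowGerm s (n + 1) x = v := (R1.refPow hF (n + 1)).closed.1 x (by
    rw [e, sPowGerm_sp, mul_one, map_one]
    exact (one_smul _ _).symm)
  rw [this]
  exact hv

/-- The locus is affine over the base iff powers of the section vanish at all points outside it. -/
theorem isAffineHom_iff_mem (hF : R1 F) (U : X.Opens) (hU : (U : Set X) = RefPow.isoLocus s) :
    IsAffineHom U.ι ↔
      ∀ x : X, x ∉ U → ∃ n : ℕ, 0 < n ∧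
        RefPow.sPowGerm s n x ∈ IsLocalRing.maximalIdeal (X.presheaf.stalk x) •
          (⊤ : Submodule (X.presheaf.stalk x) ((RefPow.refPow F n).presheaf.stalk x)) := by
  constructor
  · intro hA x hxU
    obtain ⟨V, hV, hxV, -⟩ := exists_isAffineOpen_mem_and_subset (x := x) (U := (⊤ : X.Opens)) trivial
    have := (hV.preimage U.ι).image_of_isOpenImmersion U.ι
    rw [Scheme.Hom.image_preimage_eq_opensRange_inf, Scheme.Opens.opensRange_ι, inf_comm] at this
    exact exists_mem_of_isAffineOpen s hF U hU hV this hxV hxU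
  · intro h
    refine isAffineHom_of_forall_exists_isAffineOpen _ fun x => ?_
    obtain ⟨V, hV, hxV, -⟩ := exists_isAffineOpen_mem_and_subset (x := x) (U := (⊤ : X.Opens)) trivial
    refine ⟨V, hxV, hV, ?_⟩
    rw [← U.ι.isAffineOpen_iff_of_isOpenImmersion, Scheme.Hom.image_preimage_eq_opensRange_inf,
      Scheme.Opens.opensRange_ι, inf_comm]
    exact isAffineOpen_inf_of_mem s hF U hU h hV

end Groth.Agent.RH26
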