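import Groth.Agent.Lib.RefHull26.Hom
import Groth.Agent.Lib.ModM1.QcohCrit
import Mathlib.Algebra.Module.FinitePresentation

/-! # Stalks of the sheaf Hom; quasi-coherence -/

set_option autoImplicit false
universe u

set_option backward.isDefEq.respectTransparency.types false

open CategoryTheory AlgebraicGeometry TopologicalSpace Opposite

namespace Groth.Agent.RH26

variable {X : Scheme.{u}} {F G : X.Modules}

theorem res_smul' (G : X.Modules) {U V : X.Opens} (h : V ≤ U) (r : Γ(X, U)) (m : Γ(G, U)) :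
    G.presheaf.map (homOfLE h).op (r • m) = X.presheaf.map (homOfLE h).op r • G.presheaf.map (homOfLE h).op m :=
  Scheme.Modules.map_smul G (homOfLE h) r m

theorem res_res' (G : X.Modules) {U V W : X.Opens} (h : V ≤ U) (h' : W ≤ V) (m : Γ(G, U)) :
    G.presheaf.map (homOfLE h').op (G.presheaf.map (homOfLE h).op m) = G.presheaf.map (homOfLE (h'.trans h)).op m :=
  (ConcreteCategory.congr_hom (G.presheaf.map_comp (homOfLE h).op (homOfLE h').op) m).symm

theorem mem_iInf_fin {n : ℕ} (W : Fin n → X.Opens) {x : X} (h : ∀ i, x ∈ W i) : x ∈ ⨅ i, W i := by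
  rw [← SetLike.mem_coe, Opens.coe_iInf]
  exact Set.mem_iInter.2 h

/-- The combination `∑ vᵢ nᵢ` with coefficients restricted. -/
noncomputable def comb {U W : X.Opens} (h : W ≤ U) {n : ℕ} (a : Fin n → Γ(G, W)) :
    (Fin n → Γ(X, U)) →+ Γ(G, W) where
  toFun v := ∑ i, X.presheaf.map (homOfLE h).op (v i) • a i
  map_zero' := by simp
  map_add' v w := by simp only [Pi.add_apply, map_add, add_smul, Finset.sum_add_distrib]

theorem comb_smul {U W : X.Opens} (h : W ≤ U) {n : ℕ} (a : Fin n → Γ(G, W)) (c : Γ(X, U))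
    (v : Fin n → Γ(X, U)) : comb h a (c • v) = X.presheaf.map (homOfLE h).op c • comb h a v := by
  show ∑ i : Fin n, X.presheaf.map (homOfLE h).op ((c • v) i) • a i = _ • ∑ i : Fin n, _
  rw [Finset.smul_sum]
  exact Finset.sum_congr rfl fun i _ => by rw [Pi.smul_apply, smul_eq_mul, map_mul, mul_smul]

theorem res_comb {U W W' : X.Opens} (h : W ≤ U) (h' : W' ≤ W) {n : ℕ} (a : Fin n → Γ(G, W))
    (v : Fin n → Γ(X, U)) : G.presheaf.map (homOfLE h').op (comb h a v) =
      comb (h'.trans h) (fun i => G.presheaf.map (homOfLE h').op (a i)) v := by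
  show G.presheaf.map (homOfLE h').op (∑ i : Fin n, _) = ∑ i : Fin n, _
  rw [map_sum]
  refine Finset.sum_congr rfl fun i _ => ?_
  rw [res_smul', ← ConcreteCategory.comp_apply, ← X.presheaf.map_comp]
  rfl

theorem germ_comb {U W : X.Opens} (h : W ≤ U) {n : ℕ} (a : Fin n → Γ(G, W)) (v : Fin n → Γ(X, U)) {y : X}
    (hy : y ∈ W) : G.presheaf.germ W y hy (comb h a v) =
      ∑ i, X.presheaf.germ U y (h hy) (v i) • G.presheaf.germ W y hy (a i) := by
  show G.presheaf.germ W y hy (∑ i : Fin n, _) = _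
  rw [map_sum]
  refine Finset.sum_congr rfl fun i _ => ?_
  rw [gsmul, TopCat.Presheaf.germ_res_apply]

/-- A presentation turns compatible sections into a semilinear map. -/
theorem exists_of_presentation {U W : X.Opens} (h : W ≤ U) {n m : ℕ} {l : (Fin n → Γ(X, U)) →ₗ[Γ(X, U)] Γ(F, U)}
    {k : (Fin m → Γ(X, U)) →ₗ[Γ(X, U)] (Fin n → Γ(X, U))} (hl : Function.Surjective l) (hk : Function.Exact k l)
    (a : Fin n → Γ(G, W)) (ha : ∀ j, comb h a (k (Pi.single j 1)) = 0) :
    ∃ φ : Γ(F, U) →+ Γ(G, W), (∀ v, φ (l v) = comb h a v) ∧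
      ∀ (c : Γ(X, U)) (x : Γ(F, U)), φ (c • x) = X.presheaf.map (homOfLE h).op c • φ x := by
  have hker : ∀ v, l v = 0 → comb h a v = 0 := fun v hv => by
    obtain ⟨w, rfl⟩ := (hk v).1 hv
    rw [pi_eq_sum_univ w, map_sum, map_sum]
    refine Finset.sum_eq_zero fun j _ => ?_
    rw [map_smul, comb_smul]
    rw [show (fun i => if j = i then (1 : Γ(X, U)) else 0) = Pi.single j 1 from funext fun i => by
      rw [Pi.single_apply]; exact if_congr eq_comm rfl rfl, ha j, smul_zero]
  choose sec hsec using hl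
  have hφ : ∀ v, comb h a (sec (l v)) = comb h a v := fun v => by
    rw [← sub_eq_zero, ← map_sub]
    exact hker _ (by rw [map_sub, hsec, sub_self])
  refine ⟨{ toFun := fun x => comb h a (sec x), map_zero' := ?_, map_add' := fun x y => ?_ }, hφ, fun c x => ?_⟩
  · have := hφ 0
    rwa [map_zero, map_zero] at this
  · have := hφ (sec x + sec y)
    rw [map_add, hsec, hsec, map_add] at this
    exact this
  · show comb h a (sec (c • x)) = _ • comb h a (sec x)
    rw [← comb_smul, ← hφ (c • sec x), map_smul, hsec]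

theorem germ_combination {U : X.Opens} {y : X} (hy : y ∈ U) {n : ℕ}
    (l : (Fin n → Γ(X, U)) →ₗ[Γ(X, U)] Γ(F, U)) (v : Fin n → Γ(X, U)) :
    F.presheaf.germ U y hy (l v) =
      ∑ i, X.presheaf.germ U y hy (v i) • F.presheaf.germ U y hy (l (Pi.single i 1)) := by
  conv_lhs => rw [pi_eq_sum_univ v, map_sum, map_sum]
  refine Finset.sum_congr rfl fun i _ => ?_
  rw [map_smul, gsmul]
  congr 3
  exact funext fun j => by rw [Pi.single_apply]; exact if_congr eq_comm rfl rfl

/-- The germ of a sheaf Hom of a finitely generated module is determined at the point. -/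
theorem evalStalk_injective [Coh.IsQCoh F] (hFT : CohB1.IsFT F) (G : X.Modules) (x : X) :
    Function.Injective (RefHull.evalStalk F G x) := by
  rw [injective_iff_map_eq_zero]
  intro θ hθ
  obtain ⟨V, hV, g, rfl⟩ := (RefHull.homSh F G).presheaf.exists_germ_eq θ
  rw [RefHull.evalStalk_germ] at hθ
  obtain ⟨U, hU, hxU, hUV⟩ := exists_isAffineOpen_mem_and_subset (x := x) (U := V) hV
  haveI := M1.finite_sections ‹_› hFT hU
  obtain ⟨n, l, hl⟩ := Module.Finite.exists_fin' Γ(X, U) Γ(F, U)
  choose a ha _ using fun i => exists_app (le_refl U) ((RefHull.homSh F G).presheaf.map (homOfLE hUV).op g)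
    (l (Pi.single i 1))
  have h0 : ∀ i, ∀ᶠ y in nhds x, ∀ hy : y ∈ U, G.presheaf.germ U y hy (a i) = 0 := fun i => by
    have hz : G.presheaf.germ U x hxU (a i) = G.presheaf.germ U x hxU 0 := by
      rw [ha i x hxU, map_zero]
      show g.1 ⟨x, _⟩ _ = 0
      rw [hθ]
      rfl
    obtain ⟨W, hW, i₁, i₂, he⟩ := G.presheaf.germ_eq x hxU hxU _ _ hz
    refine Filter.mem_of_superset (W.isOpen.mem_nhds hW) fun y hy hyU => ?_
    rw [← TopCat.Presheaf.germ_res_apply G.presheaf i₁ y hy, he, TopCat.Presheaf.germ_res_apply, map_zero]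
  obtain ⟨W, hWs, hWo, hxW⟩ := mem_nhds_iff.1 (Filter.inter_mem (Filter.eventually_all.2 h0) (U.isOpen.mem_nhds hxU))
  have hWU : (⟨W, hWo⟩ : X.Opens) ≤ U := fun y hy => (hWs hy).2
  have hzero : (RefHull.homSh F G).presheaf.map (homOfLE (hWU.trans hUV)).op g = 0 :=
    homSh_ext hU hWU fun y hy m => by
      obtain ⟨v, rfl⟩ := hl m
      show g.1 ⟨y, _⟩ _ = 0
      rw [germ_combination, map_sum]
      refine Finset.sum_eq_zero fun i _ => ?_
      rw [map_smul]
      have h2 := ha i y (hWU hy)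
      rw [(hWs hy).1 i (hWU hy)] at h2
      exact smul_eq_zero_of_right _ h2.symm
  rw [← TopCat.Presheaf.germ_res_apply (RefHull.homSh F G).presheaf (homOfLE (hWU.trans hUV)) x hxW g, hzero, map_zero]

/-- For finitely presented `F` every map of stalks is the germ of a section of the sheaf Hom. -/
theorem evalStalk_surjective (hFP : CohB1.IsFP F) (G : X.Modules) (x : X) :
    Function.Surjective (RefHull.evalStalk F G x) := by
  intro f
  haveI := M1.isFP_isQCoh hFP
  obtain ⟨U, hU, hxU, -⟩ := exists_isAffineOpen_mem_and_subset (x := x) (U := (⊤ : X.Opens)) trivial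
  haveI := M1.finitePresentation_sections hFP hU
  obtain ⟨n, m, l, k, hl, hk⟩ := Module.FinitePresentation.exists_fin' Γ(X, U) Γ(F, U)
  choose W₀ hW₀ a₀ ha₀ using fun i =>
    G.presheaf.exists_germ_eq (f (F.presheaf.germ U x hxU (l (Pi.single i 1))))
  have hxW : x ∈ (⨅ i, W₀ i) ⊓ U := ⟨mem_iInf_fin W₀ hW₀, hxU⟩
  let W : X.Opens := (⨅ i, W₀ i) ⊓ U
  let a : Fin n → Γ(G, W) := fun i => G.presheaf.map (homOfLE (inf_le_left.trans (iInf_le W₀ i))).op (a₀ i)
  have hga : ∀ i, G.presheaf.germ W x hxW (a i) = f (F.presheaf.germ U x hxU (l (Pi.single i 1))) := fun i => by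
    show G.presheaf.germ W x hxW (G.presheaf.map _ _) = _
    rw [TopCat.Presheaf.germ_res_apply, ha₀]
  have hrel : ∀ j, G.presheaf.germ W x hxW (comb (inf_le_right : W ≤ U) a (k (Pi.single j 1))) =
      G.presheaf.germ W x hxW 0 := fun j => by
    rw [germ_comb, map_zero, Finset.sum_congr rfl fun i _ => by rw [hga i, ← map_smul], ← map_sum,
      ← germ_combination, hk.apply_apply_eq_zero, map_zero, map_zero]
  choose W₁ hW₁ i₁ i₂ he using fun j => G.presheaf.germ_eq x hxW hxW _ _ (hrel j)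
  have hxW₂ : x ∈ (⨅ j, W₁ j) ⊓ W := ⟨mem_iInf_fin W₁ hW₁, hxW⟩
  let W₂ : X.Opens := (⨅ j, W₁ j) ⊓ W
  obtain ⟨φ, hφl, hφ⟩ := exists_of_presentation ((inf_le_right : W₂ ≤ W).trans inf_le_right) hl hk
    (fun i => G.presheaf.map (homOfLE (inf_le_right : W₂ ≤ W)).op (a i)) fun j => by
      rw [← res_comb (inf_le_right : W ≤ U)]
      refine section_ext' G fun y hy => ?_
      rw [TopCat.Presheaf.germ_res_apply, map_zero,
        ← TopCat.Presheaf.germ_res_apply G.presheaf (i₁ j) y ((inf_le_left.trans (iInf_le W₁ j) : W₂ ≤ W₁ j) hy), he j,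
        TopCat.Presheaf.germ_res_apply, map_zero]
  obtain ⟨g, hg⟩ := exists_ofLin hU ((inf_le_right : W₂ ≤ W).trans inf_le_right) φ hφ
  refine ⟨(RefHull.homSh F G).presheaf.germ W₂ x hxW₂ g, ?_⟩
  rw [RefHull.evalStalk_germ]
  refine stalkHom_ext hU hxU fun z => ?_
  obtain ⟨v, rfl⟩ := hl z
  rw [hg x hxW₂, hφl, germ_comb, germ_combination, map_sum]
  refine Finset.sum_congr rfl fun i _ => ?_
  rw [map_smul, TopCat.Presheaf.germ_res_apply, hga]

theorem evalStalk_bijective (hFP : CohB1.IsFP F) (G : X.Modules) (x : X) :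
    Function.Bijective (RefHull.evalStalk F G x) :=
  haveI := M1.isFP_isQCoh hFP
  ⟨evalStalk_injective (M1.isFP_isFT hFP) G x, evalStalk_surjective hFP G x⟩

/-- The sheaf Hom out of a finitely presented module into a quasi-coherent one is quasi-coherent. -/
theorem isQCoh_homSh (hFP : CohB1.IsFP F) (hG : Coh.IsQCoh G) : Coh.IsQCoh (RefHull.homSh F G) := by
  haveI := M1.isFP_isQCoh hFP
  haveI := hG
  refine M1.isQCoh_of_loc_affine _ (fun U hU r t => ?_) (fun U hU r t ht => ?_)
  · haveI := M1.finitePresentation_sections hFP hU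
    obtain ⟨n, m, l, k, hl, hk⟩ := Module.FinitePresentation.exists_fin' Γ(X, U) Γ(F, U)
    choose a' ha' _ using fun i => exists_app (X.basicOpen_le r) t (l (Pi.single i 1))
    choose p a₀ ha₀ using fun i => M1.exists_pow_smul_eq_res_affine G hU r (a' i)
    let N := ∑ i, p i
    let ρ : Γ(X, X.basicOpen r) := X.presheaf.map (homOfLE (X.basicOpen_le r)).op r
    let a : Fin n → Γ(G, U) := fun i => r ^ (N - p i) • a₀ i
    have hres : ∀ i, G.presheaf.map (homOfLE (X.basicOpen_le r)).op (a i) = ρ ^ N • a' i := fun i => by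
      show G.presheaf.map _ (r ^ (N - p i) • a₀ i) = _
      rw [res_smul', map_pow, show G.presheaf.map (homOfLE (X.basicOpen_le r)).op (a₀ i) = ρ ^ p i • a' i from ha₀ i,
        ← mul_smul, ← pow_add, Nat.sub_add_cancel (Finset.single_le_sum (fun j _ => Nat.zero_le (p j)) (Finset.mem_univ i))]
    have hkill : ∀ j, G.presheaf.map (homOfLE (X.basicOpen_le r)).op (comb le_rfl a (k (Pi.single j 1))) = 0 := fun j =>
      section_ext' G fun y hy => by
        rw [res_comb, germ_comb, map_zero, Finset.sum_congr rfl fun i _ => by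
          rw [hres i, gsmul, ha' i y hy, smul_comm, ← map_smul], ← Finset.smul_sum, ← map_sum, ← germ_combination,
          hk.apply_apply_eq_zero, map_zero, map_zero, smul_zero]
    choose q hq using fun j => M1.exists_pow_smul_eq_zero_affine G hU r _ (hkill j)
    let Q := ∑ j, q j
    have hscale : ∀ v, comb le_rfl (fun i => r ^ Q • a i) v = r ^ Q • comb le_rfl a v := fun v => by
      show ∑ i : Fin n, _ = r ^ Q • ∑ i : Fin n, _
      rw [Finset.smul_sum]
      exact Finset.sum_congr rfl fun i _ => smul_comm _ _ _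
    obtain ⟨φ, hφl, hφ⟩ := exists_of_presentation (le_refl U) hl hk (fun i => r ^ Q • a i) fun j => by
      rw [hscale, show Q = ∑ j, q j from rfl, ← Nat.sub_add_cancel (Finset.single_le_sum (fun i _ => Nat.zero_le (q i)) (Finset.mem_univ j)),
        pow_add, mul_smul, hq j, smul_zero]
    obtain ⟨g, hg⟩ := exists_ofLin hU (le_refl U) φ hφ
    refine ⟨Q + N, g, homSh_ext hU (X.basicOpen_le r) fun y hy z => ?_⟩
    obtain ⟨v, rfl⟩ := hl z
    show g.1 ⟨y, X.basicOpen_le r hy⟩ _ =
      X.presheaf.germ _ y hy (ρ ^ (Q + N)) • t.1 ⟨y, hy⟩ _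
    rw [hg y (X.basicOpen_le r hy), hφl, hscale, gsmul,
      ← TopCat.Presheaf.germ_res_apply G.presheaf (homOfLE (X.basicOpen_le r)) y hy (comb le_rfl a v),
      res_comb, germ_comb, germ_combination, map_sum, Finset.smul_sum, Finset.smul_sum]
    refine Finset.sum_congr rfl fun i _ => ?_
    rw [hres i, gsmul, ha' i y hy, map_smul, map_pow, map_pow, map_pow, TopCat.Presheaf.germ_res_apply, ← mul_smul,
      ← mul_smul, ← mul_smul]
    congr 1
    ring
  · haveI := M1.finitePresentation_sections hFP hU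
    obtain ⟨n, l, hl⟩ := Module.Finite.exists_fin' Γ(X, U) Γ(F, U)
    choose a ha _ using fun i => exists_app (le_refl U) t (l (Pi.single i 1))
    have hz : ∀ i, G.presheaf.map (homOfLE (X.basicOpen_le r)).op (a i) = 0 := fun i =>
      section_ext' G fun y hy => by
        rw [TopCat.Presheaf.germ_res_apply, ha i y (X.basicOpen_le r hy), map_zero]
        have := congrArg (fun s : Γ(RefHull.homSh F G, X.basicOpen r) => s.1 ⟨y, hy⟩) ht
        exact (LinearMap.congr_fun this _).trans rfl
    choose q hq using fun i => M1.exists_pow_smul_eq_zero_affine G hU r (a i) (hz i)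
    refine ⟨∑ i, q i, homSh_ext hU le_rfl fun y hy z => ?_⟩
    obtain ⟨v, rfl⟩ := hl z
    show X.presheaf.germ U y hy (r ^ ∑ i, q i) • t.1 ⟨y, hy⟩ _ = 0
    rw [germ_combination, map_sum, Finset.smul_sum]
    refine Finset.sum_eq_zero fun i _ => ?_
    rw [map_smul, ← ha i y hy, smul_comm, ← gsmul,
      ← Nat.sub_add_cancel (Finset.single_le_sum (fun j _ => Nat.zero_le (q j)) (Finset.mem_univ i)),
      pow_add, mul_smul, hq i, smul_zero, map_zero, smul_zero]

end Groth.Agent.RH26
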