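import Groth.Agent.Lib.RefHull26.Local
import Groth.Agent.Lib.ModM1.LocFree
import Groth.Agent.Lib.FormalH7.LocFree

/-! # Generic freeness of finite type modules on integral schemes -/

set_option autoImplicit false
universe u

set_option backward.isDefEq.respectTransparency.types false

open CategoryTheory AlgebraicGeometry TopologicalSpace Opposite

namespace Groth.Agent.RH26

/-- A finite module over a domain is free after inverting one nonzero element. -/
theorem exists_free_away {A N : Type u} [CommRing A] [IsDomain A] [AddCommGroup N] [Module A N] [Module.Finite A N] :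
    ∃ r : A, r ≠ 0 ∧ Module.Free (Localization (Submonoid.powers r)) (LocalizedModule.Away r N) := by
  classical
  let K := FractionRing A
  let V := LocalizedModule (nonZeroDivisors A) N
  let j : N →ₗ[A] V := LocalizedModule.mkLinearMap (nonZeroDivisors A) N
  haveI : Module.Finite K V := Module.Finite.of_isLocalizedModule (nonZeroDivisors A) j
  let b := Module.finBasis K V
  choose m s hs using fun i => IsLocalizedModule.surj (nonZeroDivisors A) j (b i) |>.imp fun p hp => (⟨p.2, hp⟩ : ∃ t : nonZeroDivisors A, t • b i = j p.1)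
  let φ : (Fin (Module.finrank K V) → A) →ₗ[A] N := Fintype.linearCombination A fun i => (m i).1
  have hjφ : ∀ v, j (φ v) = ∑ i, algebraMap A K (v i * s i) • b i := fun v => by
    rw [Fintype.linearCombination_apply, map_sum]
    refine Finset.sum_congr rfl fun i _ => ?_
    rw [map_smul, ← hs i, Submonoid.smul_def, algebraMap_smul, mul_smul]
  have hinj : Function.Injective φ := by
    rw [injective_iff_map_eq_zero]
    intro v hv
    funext i
    have h := Fintype.linearIndependent_iff.1 b.linearIndependent (fun i => algebraMap A K (v i * s i))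
      ((hjφ v).symm.trans (by rw [hv, map_zero])) i
    rw [map_eq_zero_iff _ (IsFractionRing.injective A K), mul_eq_zero] at h
    exact h.resolve_right (nonZeroDivisors.ne_zero (s i).2)
  have htor : ∀ n : N, ∃ a : A, a ≠ 0 ∧ a • n ∈ LinearMap.range φ := by
    intro n
    obtain ⟨d, hd⟩ := IsLocalization.exist_integer_multiples (nonZeroDivisors A) Finset.univ fun i => b.repr (j n) i
    choose c hc using fun i => hd i (Finset.mem_univ i)
    let S : A := ∏ i, (s i : A)
    have hS : S ≠ 0 := Finset.prod_ne_zero_iff.2 fun i _ => nonZeroDivisors.ne_zero (s i).2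
    let w : Fin (Module.finrank K V) → A := fun i => c i * ∏ k ∈ Finset.univ.erase i, (s k : A)
    have hw : ∀ i, w i * s i = c i * S := fun i => by
      simp only [w, S, mul_assoc]
      rw [Finset.prod_erase_mul _ _ (Finset.mem_univ i)]
    have e : j ((S * d.1) • n) = j (φ w) := by
      rw [map_smul, hjφ]
      conv_lhs => rw [← b.sum_repr (j n), Finset.smul_sum]
      refine Finset.sum_congr rfl fun i _ => ?_
      rw [hw, map_mul, mul_comm S, ← IsScalarTower.smul_assoc, mul_smul]
      congr 1
      rw [← mul_comm (algebraMap A K S)]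
      have hc' : algebraMap A K (c i) = (d : A) • b.repr (j n) i := hc i
      rw [hc', Algebra.smul_def, Algebra.smul_def, Algebra.smul_def]
      ring
    obtain ⟨t, ht⟩ := IsLocalizedModule.exists_of_eq (S := nonZeroDivisors A) (f := j) e
    refine ⟨t.1 * (S * d.1), mul_ne_zero (nonZeroDivisors.ne_zero t.2) (mul_ne_zero hS (nonZeroDivisors.ne_zero d.2)), t.1 • w, ?_⟩
    rw [map_smul, mul_smul]
    exact ht.symm
  obtain ⟨k, g, hg⟩ := Module.Finite.exists_fin' A N
  choose a ha hmem using fun i => htor (g (Pi.single i 1))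
  refine ⟨∏ i, a i, Finset.prod_ne_zero_iff.2 fun i _ => ha i, ?_⟩
  set r := ∏ i, a i
  have hall : ∀ n : N, r • n ∈ LinearMap.range φ := fun n => by
    obtain ⟨w, rfl⟩ := hg n
    rw [pi_eq_sum_univ w, map_sum, Finset.smul_sum]
    refine Submodule.sum_mem _ fun i _ => ?_
    rw [map_smul, smul_comm]
    refine Submodule.smul_mem _ _ ?_
    rw [show (fun j => if i = j then (1 : A) else 0) = Pi.single i 1 from funext fun j => by
      rw [Pi.single_apply]; exact if_congr eq_comm rfl rfl]
    show (∏ j, a j) • _ ∈ _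
    rw [← Finset.prod_erase_mul _ a (Finset.mem_univ i), mul_smul]
    exact Submodule.smul_mem _ _ (hmem i)
  let S := Submonoid.powers r
  let φ' := LocalizedModule.map S φ
  have hb : Function.Bijective φ' := by
    refine ⟨LocalizedModule.map_injective S φ hinj, fun z => ?_⟩
    obtain ⟨⟨n, t⟩, rfl⟩ := z.exists_rep
    obtain ⟨v, hv⟩ := hall n
    refine ⟨LocalizedModule.mk v (t * ⟨r, Submonoid.mem_powers r⟩), ?_⟩
    show LocalizedModule.map S φ _ = LocalizedModule.mk n t
    rw [LocalizedModule.map_mk, hv, LocalizedModule.mk_eq]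
    refine ⟨1, ?_⟩
    simp only [one_smul, Submonoid.smul_def, Submonoid.coe_mul, mul_smul]
  haveI : Module.Free (Localization S) (LocalizedModule S (Fin (Module.finrank K V) → A)) :=
    Module.free_of_isLocalizedModule S (LocalizedModule.mkLinearMap S _)
  exact Module.Free.of_equiv (LinearEquiv.ofBijective φ' hb)

variable {X : Scheme.{u}} [IsIntegral X] {F : X.Modules}

/-- A quasi-coherent module of finite type is free on a nonempty open. -/
theorem exists_open_free (hF : Coh.IsQCoh F) (hft : CohB1.IsFT F) :
    ∃ U : X.Opens, (U : Set X).Nonempty ∧ Nonempty (F.restrict U.ι ≅ FlatMod.freeMod (U : Scheme.{u})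
      (Module.finrank (X.presheaf.stalk (genericPoint X)) (F.presheaf.stalk (genericPoint X)))) := by
  obtain ⟨U, hU, hηU, -⟩ := exists_isAffineOpen_mem_and_subset (x := genericPoint X) (U := (⊤ : X.Opens)) trivial
  haveI : Nonempty U := ⟨⟨_, hηU⟩⟩
  haveI := M1.finite_sections hF hft hU
  haveI := M1.isQCoh_fromSpec hF hU
  let N := moduleSpecΓFunctor.obj (F.restrict hU.fromSpec)
  let eN : N ≃ₗ[Γ(X, U)] Γ(F, U) := M1.affineSecEquiv F hU
  haveI : Module.Finite Γ(X, U) N := Module.Finite.equiv eN.symm
  obtain ⟨r, hr, hfree⟩ := exists_free_away (A := Γ(X, U)) (N := N)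
  obtain ⟨I, hI, ⟨e⟩⟩ := M1.exists_fr_away N r
  let j := Spec.map (CommRingCat.ofHom (algebraMap Γ(X, U) (Localization (.powers r))))
  haveI : IsOpenImmersion j := IsOpenImmersion.of_isLocalization r
  obtain ⟨z, hz⟩ : (⟨⊥, Ideal.isPrime_bot⟩ : PrimeSpectrum Γ(X, U)) ∈ Set.range j := by
    change _ ∈ Set.range (PrimeSpectrum.comap (algebraMap Γ(X, U) (Localization (.powers r))))
    rw [PrimeSpectrum.localization_away_comap_range (S := Localization.Away r) r]
    exact fun h => hr ((Submodule.mem_bot _).1 h)
  let f : F.restrict hU.fromSpec ≅ tilde N :=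
    (@asIso _ _ _ _ (F.restrict hU.fromSpec).fromTildeΓ
      (Scheme.Modules.isIso_fromTildeΓ_of_isQuasicoherent (R := Γ(X, U)) _)).symm
  obtain ⟨V, n, hV, ⟨hn⟩⟩ := M1.exists_freeMod_of_openImmersion (j ≫ hU.fromSpec)
    ((M1.restrictRestrictIso F hU.fromSpec j (j ≫ hU.fromSpec) rfl).symm ≪≫
      (Scheme.Modules.restrictFunctor j).mapIso f ≪≫
      (Scheme.Modules.restrictFunctorIsoPullback j).app (tilde N) ≪≫ e) z
  have hηV : genericPoint X ∈ V := mem_of_genericPoint V hV
  haveI : Module.Free (X.presheaf.stalk (genericPoint X)) (F.presheaf.stalk (genericPoint X)) :=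
    M1.free_stalk_of_freeMod hF hn hηV
  obtain rfl := FormalH7.rank_eq_of_iso hn hηV rfl
  exact ⟨V, ⟨_, hV⟩, ⟨hn⟩⟩

end Groth.Agent.RH26
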