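import Groth.Agent.Lib.RefHull26.Pow

/-! # The colimit of the reflexive powers of a module along a section -/

set_option autoImplicit false
universe u

set_option backward.isDefEq.respectTransparency.types false

open CategoryTheory CategoryTheory.Limits AlgebraicGeometry TopologicalSpace Opposite

namespace Groth.Agent.RH26

variable {X : Scheme.{u}}

/-- A cocone on a sequence of modules is a colimit if it is one on stalks. -/
theorem isColimit_of_stalk (D : ℕ ⥤ X.Modules) (J : X.Modules) (ι : D ⟶ (Functor.const ℕ).obj J)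
    (hsurj : ∀ (x : X) (z : J.presheaf.stalk x), ∃ (n : ℕ) (a : (D.obj n).presheaf.stalk x),
      RefHull.stalkMapₗ (ι.app n) x a = z)
    (hinj : ∀ (x : X) (n : ℕ) (a : (D.obj n).presheaf.stalk x), RefHull.stalkMapₗ (ι.app n) x a = 0 →
      ∃ (m : ℕ) (h : n ≤ m), RefHull.stalkMapₗ (D.map (homOfLE h)) x a = 0) :
    Nonempty (IsColimit (Cocone.mk J ι)) := by
  have key : ∀ (c : Cocone D), ∃ d : J ⟶ c.pt, ∀ (x : X) (n : ℕ) (a : (D.obj n).presheaf.stalk x),
      RefHull.stalkMapₗ d x (RefHull.stalkMapₗ (ι.app n) x a) = RefHull.stalkMapₗ (c.ι.app n) x a := by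
    intro c
    choose nx ax hax using hsurj
    have hw : ∀ {n m : ℕ} (h : n ≤ m) (x : X) (a : (D.obj n).presheaf.stalk x),
        RefHull.stalkMapₗ (ι.app m) x (RefHull.stalkMapₗ (D.map (homOfLE h)) x a) =
            RefHull.stalkMapₗ (ι.app n) x a ∧
          RefHull.stalkMapₗ (c.ι.app m) x (RefHull.stalkMapₗ (D.map (homOfLE h)) x a) =
            RefHull.stalkMapₗ (c.ι.app n) x a := fun {n m} h x a => by
      refine ⟨?_, ?_⟩
      · rw [← LinearMap.comp_apply, ← stalkMapₗ_comp, ι.naturality]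
        rfl
      · rw [← LinearMap.comp_apply, ← stalkMapₗ_comp, c.w]
    have hwd : ∀ (x : X) {n m : ℕ} (a : (D.obj n).presheaf.stalk x) (b : (D.obj m).presheaf.stalk x),
        RefHull.stalkMapₗ (ι.app n) x a = RefHull.stalkMapₗ (ι.app m) x b →
        RefHull.stalkMapₗ (c.ι.app n) x a = RefHull.stalkMapₗ (c.ι.app m) x b := fun x n m a b e => by
      rw [← (hw (le_max_left n m) x a).2, ← (hw (le_max_right n m) x b).2, ← sub_eq_zero, ← map_sub]
      rw [← (hw (le_max_left n m) x a).1, ← (hw (le_max_right n m) x b).1, ← sub_eq_zero, ← map_sub] at e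
      obtain ⟨k, hk, hz⟩ := hinj x _ _ e
      rw [← (hw hk x _).2, hz, map_zero]
    let f : ∀ x : X, RefHull.StalkHom J c.pt x := fun x =>
      { toFun := fun z => RefHull.stalkMapₗ (c.ι.app (nx x z)) x (ax x z)
        map_add' := fun z w => by
          rw [← (hw (le_max_left (nx x z) (nx x w)) x (ax x z)).2,
            ← (hw (le_max_right (nx x z) (nx x w)) x (ax x w)).2, ← map_add]
          refine hwd x _ _ ?_
          rw [hax, map_add, (hw _ x _).1, (hw _ x _).1, hax, hax]
        map_smul' := fun r z => by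
          rw [RingHom.id_apply, ← map_smul]
          refine hwd x _ _ ?_
          rw [hax, map_smul, hax] }
    have hf : ∀ (x : X) (n : ℕ) (a : (D.obj n).presheaf.stalk x),
        f x (RefHull.stalkMapₗ (ι.app n) x a) = RefHull.stalkMapₗ (c.ι.app n) x a := fun x n a =>
      hwd x _ _ (hax x _)
    obtain ⟨d, hd⟩ := exists_hom_of_stalkFamily J c.pt f fun V t x hx => by
      obtain ⟨W, hxW, m, hm⟩ := (D.obj _).presheaf.exists_germ_eq (ax x (J.presheaf.germ V x hx t))
      have e := hax x (J.presheaf.germ V x hx t)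
      rw [← hm, RefHull.stalkMapₗ_germ] at e
      obtain ⟨W', hxW', i₁, i₂, e'⟩ := J.presheaf.germ_eq x hxW hx _ _ e
      refine ⟨W', hxW', i₂.le, (c.ι.app (nx x (J.presheaf.germ V x hx t))).app W'
        ((D.obj _).presheaf.map i₁.op m), fun y hy => ?_⟩
      rw [← RefHull.stalkMapₗ_germ, ← hf]
      refine congrArg _ ?_
      rw [TopCat.Presheaf.germ_res_apply, RefHull.stalkMapₗ_germ]
      exact (TopCat.Presheaf.germ_res_apply J.presheaf i₁ y hy _).symm.trans
        ((congrArg _ e').trans (TopCat.Presheaf.germ_res_apply _ i₂ y hy _))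
    exact ⟨d, fun x n a => by rw [hd]; exact hf x n a⟩
  choose desc hdesc using key
  refine ⟨{ desc := desc, fac := fun c n => ?_, uniq := fun c d hd => ?_ }⟩
  · refine Scheme.Modules.hom_ext _ _ fun V => ConcreteCategory.hom_ext _ _ fun m => section_ext' _ fun y hy => ?_
    rw [← RefHull.stalkMapₗ_germ, ← RefHull.stalkMapₗ_germ, stalkMapₗ_comp]
    exact hdesc c y n _
  · refine Scheme.Modules.hom_ext _ _ fun V => ConcreteCategory.hom_ext _ _ fun m => section_ext' _ fun y hy => ?_
    rw [← RefHull.stalkMapₗ_germ, ← RefHull.stalkMapₗ_germ]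
    obtain ⟨n, a, ha⟩ := hsurj y (J.presheaf.germ V y hy m)
    rw [← ha, hdesc c y n a, ← hd n, stalkMapₗ_comp]
    rfl

section Push

variable (U : X.Opens) {M : X.Modules}

/-- The restriction of a pushforward from an open to its intersection with the open is bijective. -/
theorem bijective_push_res (N : U.toScheme.Modules) (W : X.Opens) :
    Function.Bijective (((Scheme.Modules.pushforward U.ι).obj N).presheaf.map
      (homOfLE (inf_le_left : W ⊓ U ≤ W)).op) := by
  haveI : IsIso ((Opens.map U.ι.base).map (homOfLE (inf_le_left : W ⊓ U ≤ W))) :=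
    ⟨homOfLE fun z hz => ⟨hz, z.2⟩, Subsingleton.elim _ _, Subsingleton.elim _ _⟩
  refine (ConcreteCategory.isIso_iff_bijective _).1 ?_
  exact Functor.map_isIso N.presheaf ((Opens.map U.ι.base).map (homOfLE (inf_le_left : W ⊓ U ≤ W))).op

/-- The unit of restriction and pushforward. -/
noncomputable abbrev unitU (M : X.Modules) :
    M ⟶ (Scheme.Modules.pushforward U.ι).obj ((Scheme.Modules.restrictFunctor U.ι).obj M) :=
  (Scheme.Modules.restrictAdjunction U.ι).unit.app M

theorem bijective_unit_app {W : X.Opens} (hW : W ≤ U) :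
    Function.Bijective ((unitU U M).app W) := by
  rw [unitU, Scheme.Modules.restrictAdjunction_unit_app_app]
  haveI : IsIso (homOfLE (U.ι.image_preimage_le W)) :=
    ⟨homOfLE fun y hy => (mem_image_preimage U W).2 ⟨hy, hW hy⟩, Subsingleton.elim _ _, Subsingleton.elim _ _⟩
  exact (ConcreteCategory.isIso_iff_bijective _).1
    (Functor.map_isIso M.presheaf (homOfLE (U.ι.image_preimage_le W)).op)

theorem bijective_stalk_unit {y : X} (hy : y ∈ U) :
    Function.Bijective (RefHull.stalkMapₗ (unitU U M) y) := by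
  refine ⟨(injective_iff_map_eq_zero _).2 fun v hv => ?_, fun z => ?_⟩
  · obtain ⟨V, hV, m, rfl⟩ := M.presheaf.exists_germ_eq v
    have hy' : y ∈ V ⊓ U := ⟨hV, hy⟩
    rw [← M1.germ_mres M (inf_le_left : V ⊓ U ≤ V) hy' m] at hv ⊢
    rw [RefHull.stalkMapₗ_germ] at hv
    obtain ⟨W, hyW, i₁, i₂, e⟩ := TopCat.Presheaf.germ_eq _ y hy' hy' _ 0 (hv.trans (map_zero _).symm)
    have hWU : W ≤ U := i₁.le.trans inf_le_right
    have e2 : M.presheaf.map i₁.op (M1.mres M (inf_le_left : V ⊓ U ≤ V) m) = 0 := by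
      refine (bijective_unit_app U hWU).1 ?_
      rw [map_zero]
      have hn := (unitU U M).mapPresheaf.naturality i₁.op
      exact (ConcreteCategory.congr_hom hn (M1.mres M (inf_le_left : V ⊓ U ≤ V) m)).trans
        (e.trans (map_zero _))
    rw [← TopCat.Presheaf.germ_res_apply M.presheaf i₁ y hyW, e2, map_zero]
  · obtain ⟨V, hV, t, rfl⟩ := TopCat.Presheaf.exists_germ_eq _ z
    have hy' : y ∈ V ⊓ U := ⟨hV, hy⟩
    rw [← TopCat.Presheaf.germ_res_apply _ (homOfLE (inf_le_left : V ⊓ U ≤ V)) y hy' t]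
    obtain ⟨m, hm⟩ := (bijective_unit_app (M := M) U (inf_le_right : V ⊓ U ≤ U)).2
      (((Scheme.Modules.pushforward U.ι).obj ((Scheme.Modules.restrictFunctor U.ι).obj M)).presheaf.map
        (homOfLE (inf_le_left : V ⊓ U ≤ V)).op t)
    exact ⟨M.presheaf.germ _ y hy' m, by rw [RefHull.stalkMapₗ_germ, hm]⟩

variable [IsIntegral X]

theorem injective_push_sp (hη : genericPoint X ∈ U) (hM : ∀ x : X, Function.Injective (M.presheaf.stalkSpecializes (gsp x)))
    (x : X) : Function.Injective
      (((Scheme.Modules.pushforward U.ι).obj ((Scheme.Modules.restrictFunctor U.ι).obj M)).presheaf.stalkSpecializes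
        (gsp x)) := by
  refine (injective_iff_map_eq_zero _).2 fun v hv => ?_
  obtain ⟨W, hx, t, rfl⟩ := TopCat.Presheaf.exists_germ_eq _ v
  rw [TopCat.Presheaf.germ_stalkSpecializes_apply] at hv
  obtain ⟨m, hm⟩ := (bijective_unit_app (M := M) U (inf_le_right : W ⊓ U ≤ U)).2
    (((Scheme.Modules.pushforward U.ι).obj ((Scheme.Modules.restrictFunctor U.ι).obj M)).presheaf.map
        (homOfLE (inf_le_left : W ⊓ U ≤ W)).op t)
  have hηWU : genericPoint X ∈ W ⊓ U := ⟨mem_of_genericPoint W hx, hη⟩
  rw [← TopCat.Presheaf.germ_res_apply _ (homOfLE (inf_le_left : W ⊓ U ≤ W)) _ hηWU t, ← hm,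
    ← RefHull.stalkMapₗ_germ] at hv
  have h0 : M.presheaf.germ _ _ hηWU m = 0 := (bijective_stalk_unit U hη).1 (hv.trans (map_zero _).symm)
  have hm0 : m = 0 := section_ext' M fun y hy => hM y (by
    rw [TopCat.Presheaf.germ_stalkSpecializes_apply, map_zero, map_zero]
    exact h0)
  rw [hm0, map_zero] at hm
  have ht : t = 0 := (bijective_push_res U _ W).1 (hm.symm.trans (map_zero _).symm)
  rw [ht, map_zero]

theorem push_stalk_zero (hη : genericPoint X ∉ U) (x : X)
    (v : ((Scheme.Modules.pushforward U.ι).obj ((Scheme.Modules.restrictFunctor U.ι).obj M)).presheaf.stalk x) :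
    v = 0 := by
  obtain ⟨W, hx, t, rfl⟩ := TopCat.Presheaf.exists_germ_eq _ v
  have ht : t = 0 := (bijective_push_res U _ W).1 (section_ext' _ fun y hy =>
    absurd (mem_of_genericPoint U hy.2) hη)
  rw [ht, map_zero]

end Push

variable {F : X.Modules} (s : Coh.structureModule X ⟶ F) [IsIntegral X] [IsLocallyNoetherian X]

/-- The comparison maps to the functions on the isomorphism locus. -/
noncomputable def powι (hF : Coh.IsCoh F) (U : X.Opens) (hU : (U : Set X) = RefPow.isoLocus s) (n : ℕ) :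
    RefPow.refPow F n ⟶
      (Scheme.Modules.pushforward U.ι).obj ((Scheme.Modules.restrictFunctor U.ι).obj (Coh.structureModule X)) :=
  haveI := isIso_restrict_sPow s hF U hU n
  unitU U (RefPow.refPow F n) ≫
    (Scheme.Modules.pushforward U.ι).map (inv ((Scheme.Modules.restrictFunctor U.ι).map (RefPow.sPow s n)))

theorem sPow_powι (hF : Coh.IsCoh F) (U : X.Opens) (hU : (U : Set X) = RefPow.isoLocus s) (n : ℕ) :
    RefPow.sPow s n ≫ powι s hF U hU n =
      unitU U (Coh.structureModule X) := by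
  haveI := isIso_restrict_sPow s hF U hU n
  have hn : RefPow.sPow s n ≫ unitU U (RefPow.refPow F n) = unitU U (Coh.structureModule X) ≫
      (Scheme.Modules.pushforward U.ι).map ((Scheme.Modules.restrictFunctor U.ι).map (RefPow.sPow s n)) :=
    (Scheme.Modules.restrictAdjunction U.ι).unit.naturality (RefPow.sPow s n)
  rw [powι, ← Category.assoc, hn, Category.assoc, ← Functor.map_comp, IsIso.hom_inv_id, CategoryTheory.Functor.map_id,
    Category.comp_id]

theorem mulBy_powι (hF : Coh.IsCoh F) (U : X.Opens) (hU : (U : Set X) = RefPow.isoLocus s) (n : ℕ) :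
    RefPow.mulBy s n ≫ powι s hF U hU (n + 1) = powι s hF U hU n := by
  haveI := isIso_restrict_sPow s hF U hU n
  haveI := isIso_restrict_sPow s hF U hU (n + 1)
  have hn : RefPow.mulBy s n ≫ unitU U (RefPow.refPow F (n + 1)) = unitU U (RefPow.refPow F n) ≫
      (Scheme.Modules.pushforward U.ι).map ((Scheme.Modules.restrictFunctor U.ι).map (RefPow.mulBy s n)) :=
    (Scheme.Modules.restrictAdjunction U.ι).unit.naturality (RefPow.mulBy s n)
  rw [powι, powι, ← Category.assoc, hn, Category.assoc, ← Functor.map_comp]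
  congr 2
  rw [← cancel_epi ((Scheme.Modules.restrictFunctor U.ι).map (RefPow.sPow s n)), IsIso.hom_inv_id,
    ← Category.assoc, ← Functor.map_comp]
  exact IsIso.hom_inv_id ((Scheme.Modules.restrictFunctor U.ι).map (RefPow.sPow s (n + 1)))

theorem powι_zero (hF : Coh.IsCoh F) (U : X.Opens) (hU : (U : Set X) = RefPow.isoLocus s) :
    powι s hF U hU 0 = unitU U (Coh.structureModule X) := by
  have := sPow_powι s hF U hU 0
  rw [RefPow.sPow_zero] at this
  exact (Category.id_comp _).symm.trans this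

theorem bijective_stalk_powι (hF : Coh.IsCoh F) (U : X.Opens) (hU : (U : Set X) = RefPow.isoLocus s) (n : ℕ)
    {y : X} (hy : y ∈ U) : Function.Bijective (RefHull.stalkMapₗ (powι s hF U hU n) y) := by
  have h := bijective_stalk_unit (M := Coh.structureModule X) U hy
  rw [← sPow_powι s hF U hU n, stalkMapₗ_comp, LinearMap.coe_comp,
    Function.Bijective.of_comp_iff _ (bijective_sPow s hF (hU ▸ (hy : y ∈ (U : Set X))) n)] at h
  exact h

/-- The generic value of a local function on the locus is a value of some reflexive power. -/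
theorem exists_inStalk_pow (hF : R1 F) (U : X.Opens) (hU : (U : Set X) = RefPow.isoLocus s)
    (hη : genericPoint X ∈ U) (x : X) {k : X.functionField} (hk : k ≠ 0)
    (h : ∀ ξ : X, ξ ⤳ x → Order.coheight ξ = 1 → ξ ∈ U → 0 ≤ Scheme.ord k ξ) :
    ∃ n : ℕ, InStalk (RefPow.refPow F n) x (k • RefPow.sPowGerm s n (genericPoint X)) := by
  have hη' : genericPoint X ∈ RefPow.isoLocus s := hU ▸ (hη : genericPoint X ∈ (U : Set X))
  obtain ⟨V, hV, hxV, -⟩ := exists_isAffineOpen_mem_and_subset (x := x) (U := (⊤ : X.Opens)) trivial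
  have hfin := finite_coheight_one hV U.isOpen.isClosed_compl (fun h' => h' hη)
  let n := hfin.toFinset.sup fun ξ => (Scheme.ord k ξ).natAbs
  refine ⟨n, ((R1.refPow hF n).closed).2 x _ fun ξ hξ h1 => ?_⟩
  have h1' := (dim_eq_one_iff ξ).1 h1
  have hσ := ne_zero_of_gen (gen_pow s hF.coh hη' n)
  rw [(R1.refPow hF n).inStalk_iff h1' ((R1.refPow hF n).smul_ne_zero hk hσ),
    (R1.refPow hF n).ordv_smul h1' hk hσ, ordv_pow s hF hη' h1' n]
  obtain ⟨g, hg, hgη⟩ := hF.gen_one h1'
  obtain ⟨r, hr⟩ := hg.2 (F.presheaf.germ ⊤ ξ trivial (SecTwist.val s ⊤))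
  have hsr : F.presheaf.germ ⊤ (genericPoint X) trivial (SecTwist.val s ⊤) =
      X.presheaf.stalkSpecializes (gsp ξ) r • F.presheaf.stalkSpecializes (gsp ξ) g := by
    rw [← Cyc26.stalkSpecializes_smul]
    refine Eq.trans ?_ (congrArg (F.presheaf.stalkSpecializes (gsp ξ)) hr).symm
    exact (TopCat.Presheaf.germ_stalkSpecializes_apply _ _ _ _).symm
  have hr0 : r ≠ 0 := fun h0 => ne_zero_of_gen ((bijective_iff_gen s _).1 hη') (by
    rw [hsr, h0, map_zero]; exact zero_smul _ _)
  have hsp : X.presheaf.stalkSpecializes (gsp ξ) r ≠ 0 := fun h0 => hr0 (sp_injective ξ (h0.trans (map_zero _).symm))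
  rw [hsr, ordv_gen h1' hg hgη hsp]
  by_cases hξU : ξ ∈ U
  · have hu : IsUnit r := by
      have hgen := (bijective_iff_gen s ξ).1 ((Set.ext_iff.1 hU ξ).1 hξU)
      rw [← hr] at hgen
      exact (hg.ne_zero_smul r).1 hgen
    have h0 : 0 ≤ Scheme.ord (X.presheaf.stalkSpecializes (gsp ξ) r) ξ :=
      (inStalk_function_iff hF.normal h1' hsp).1 ⟨r, rfl⟩
    have := h ξ hξ h1' hξU
    positivity
  · have hu : ¬ IsUnit r := fun hu => hξU (by
      have hgen : Amp.Gen (F.presheaf.germ ⊤ ξ trivial (SecTwist.val s ⊤)) := by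
        rw [← hr]; exact (hg.ne_zero_smul r).2 hu
      exact (Set.ext_iff.1 hU ξ).2 ((bijective_iff_gen s ξ).2 hgen))
    have h2 : 1 ≤ Scheme.ord (X.presheaf.stalkSpecializes (gsp ξ) r) ξ :=
      one_le_ord_of_not_isUnit hF.normal h1' hr0 hu
    have hn : (Scheme.ord k ξ).natAbs ≤ n :=
      Finset.le_sup (f := fun ξ => (Scheme.ord k ξ).natAbs)
        (hfin.mem_toFinset.2 ⟨hξ.mem_open V.isOpen hxV, hξU, h1'⟩)
    have h3 : (n : ℤ) ≤ n * Scheme.ord (X.presheaf.stalkSpecializes (gsp ξ) r) ξ :=
      le_mul_of_one_le_right (Int.natCast_nonneg n) h2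
    omega

/-- The powers of a section have colimit the functions on its isomorphism locus. -/
theorem exists_colimit (hF : R1 F) (U : X.Opens) (hU : (U : Set X) = RefPow.isoLocus s) :
    ∃ ι : RefPow.diagram F s ⟶ (Functor.const ℕ).obj
        ((Scheme.Modules.pushforward U.ι).obj ((Coh.structureModule X).restrict U.ι)),
      ι.app 0 = (Scheme.Modules.restrictAdjunction U.ι).unit.app (Coh.structureModule X) ∧
        Nonempty (IsColimit (Cocone.mk _ ι)) := by
  let ι : RefPow.diagram F s ⟶ (Functor.const ℕ).obj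
      ((Scheme.Modules.pushforward U.ι).obj ((Scheme.Modules.restrictFunctor U.ι).obj (Coh.structureModule X))) :=
    NatTrans.ofSequence (fun n => powι s hF.coh U hU n) fun n => by
      exact (congrArg (· ≫ _) (RefPow.diagram_map F s n)).trans
        ((mulBy_powι s hF.coh U hU n).trans (Category.comp_id _).symm)
  refine ⟨ι, powι_zero s hF.coh U hU, isColimit_of_stalk _ _ ι (fun x z => ?_) (fun x n a ha => ?_)⟩
  · by_cases hη : genericPoint X ∈ U
    swap
    · exact ⟨0, 0, by rw [map_zero]; exact (push_stalk_zero U hη x z).symm⟩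
    have hJinj := injective_push_sp (M := Coh.structureModule X) U hη (closed1_structure hF.normal).1
    obtain ⟨w, hw⟩ := (bijective_stalk_unit (M := Coh.structureModule X) U hη).2
      (((Scheme.Modules.pushforward U.ι).obj ((Scheme.Modules.restrictFunctor U.ι).obj (Coh.structureModule X))).presheaf.stalkSpecializes (gsp x) z)
    obtain ⟨k, rfl⟩ := (str (genericPoint X)).surjective w
    rcases eq_or_ne (α := X.functionField) k 0 with rfl | hk
    · refine ⟨0, 0, ?_⟩
      rw [map_zero]
      refine (hJinj x ?_).symm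
      rw [map_zero, ← hw]
      exact (congrArg _ (map_zero (str (genericPoint X)))).trans (map_zero _)
    obtain ⟨n, a, ha⟩ := exists_inStalk_pow s hF U hU hη x hk fun ξ hξ h1 hξU => by
      obtain ⟨w, hw'⟩ := (bijective_stalk_unit (M := Coh.structureModule X) U hξU).2
        (((Scheme.Modules.pushforward U.ι).obj ((Scheme.Modules.restrictFunctor U.ι).obj (Coh.structureModule X))).presheaf.stalkSpecializes hξ z)
      obtain ⟨c, rfl⟩ := (str ξ).surjective w
      refine (inStalk_function_iff hF.normal h1 hk).1 ⟨c, (str (genericPoint X)).injective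
        ((bijective_stalk_unit (M := Coh.structureModule X) U hη).1 ?_)⟩
      rw [hw, ← sp_trans _ hξ (gsp ξ) z, ← hw', stalkMapₗ_stalkSpecializes,
        show (Coh.structureModule X).presheaf.stalkSpecializes (gsp ξ) (str ξ c) =
          str (genericPoint X) (X.presheaf.stalkSpecializes (gsp ξ) c) from Cyc26.stalkSpecializes_smul_one _ _]
    refine ⟨n, a, hJinj x ?_⟩
    show _ = _
    rw [← hw]
    refine (stalkMapₗ_stalkSpecializes (powι s hF.coh U hU n) (gsp x) a).trans ?_
    rw [ha, map_smul, RefPow.sPowGerm, ← stalkMapₗ_one, ← LinearMap.comp_apply, ← stalkMapₗ_comp, sPow_powι,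
      ← map_smul, ← map_smul, smul_eq_mul, mul_one]
  · by_cases hη : genericPoint X ∈ U
    · refine ⟨n, le_rfl, ?_⟩
      have h0 : a = 0 := (R1.refPow hF n).closed.1 x (by
        refine (bijective_stalk_powι s hF.coh U hU n hη).1 ?_
        refine Eq.trans ?_ ((congrArg _ (map_zero _)).trans (map_zero _)).symm
        refine (stalkMapₗ_stalkSpecializes (powι s hF.coh U hU n) (gsp x) a).symm.trans ?_
        exact (congrArg _ ha).trans (map_zero _))
      rw [h0, map_zero]
    · refine ⟨n + 1, Nat.le_succ n, ?_⟩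
      rw [RefPow.diagram_map]
      exact stalk_mulBy_zero s n (germ_eq_zero_of_not_mem s hF (hU ▸ hη) x) a

end Groth.Agent.RH26
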