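import Groth.Agent.Lib.RefHull26.Ref1

/-! # Codimension one points in proper closed subsets; orders -/

set_option autoImplicit false
universe u

set_option backward.isDefEq.respectTransparency.types false

open CategoryTheory AlgebraicGeometry TopologicalSpace Opposite

namespace Groth.Agent.RH26

variable {X : Scheme.{u}} [IsIntegral X] [IsLocallyNoetherian X]

theorem eq_of_coheight_one {ξ x : X} (h : ξ ⤳ x) (hξ : Order.coheight ξ = 1) (hx : Order.coheight x = 1) : ξ = x := by
  by_contra hne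
  have hlt : x < ξ := lt_of_le_not_ge h fun h' => hne (h.antisymm h').eq
  have := Order.coheight_add_one_le hlt
  rw [hξ, hx, one_add_one_eq_two] at this
  exact absurd this (by decide)

theorem ne_genericPoint_of_coheight_one {x : X} (hx : Order.coheight x = 1) : x ≠ genericPoint X := fun h => by
  have h1 := (dim_eq_one_iff x).2 hx
  rw [h, ringKrullDim_eq_zero_of_isField isField_η] at h1
  exact zero_ne_one h1

/-- Codimension one points of a proper closed subset are finite on affine opens. -/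
theorem finite_coheight_one {U : X.Opens} (hU : IsAffineOpen U) {Z : Set X} (hZ : IsClosed Z)
    (hη : genericPoint X ∉ Z) : {x : X | x ∈ U ∧ x ∈ Z ∧ Order.coheight x = 1}.Finite := by
  haveI := IsLocallyNoetherian.component_noetherian (X := X) ⟨U, hU⟩
  haveI : NoetherianSpace U := noetherianSpace_of_isAffineOpen U hU
  let Z' : Closeds U := ⟨Subtype.val ⁻¹' Z, hZ.preimage continuous_subtype_val⟩
  obtain ⟨S, hSi, hS⟩ := NoetherianSpace.exists_finset_irreducible Z'
  refine (Set.finite_range fun C : S => ((hSi C).genericPoint : U).1).subset fun x hx => ?_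
  obtain ⟨hxU, hxZ, hx1⟩ := hx
  have hxS : (⟨x, hxU⟩ : U) ∈ ((S.sup id : Closeds U) : Set U) := hS ▸ (show (⟨x, hxU⟩ : U) ∈ (Z' : Set U) from hxZ)
  rw [Closeds.coe_finset_sup, Finset.sup_set_eq_biUnion] at hxS
  obtain ⟨C, hCS, hxC⟩ := Set.mem_iUnion₂.1 hxS
  have hirr : IsIrreducible (C : Set U) := hSi ⟨C, hCS⟩
  have hgen := hirr.isGenericPoint_genericPoint C.isClosed
  have hz : hirr.genericPoint.1 ∈ Z := by
    have : hirr.genericPoint ∈ (Z' : Set U) := by
      rw [hS]
      exact (Finset.le_sup (f := id) hCS : C ≤ S.sup id) hgen.mem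
    exact this
  have hspec : hirr.genericPoint.1 ⤳ x := (hgen.specializes hxC).map continuous_subtype_val
  refine ⟨⟨C, hCS⟩, eq_of_coheight_one hspec (le_antisymm (hx1 ▸ Order.coheight_anti hspec) ?_) hx1⟩
  rcases eq_genericPoint_or_one_le hirr.genericPoint.1 with h0 | h1
  · exact absurd (h0 ▸ hz) hη
  · rw [ringKrullDim_stalk_eq_coheight, WithBot.one_le_coe] at h1
    exact h1

theorem coheight_one_nhd (x : X) {B : Set X} (hB : B.Finite) (h : ∀ ξ ∈ B, ¬ ξ ⤳ x) :
    ∃ W : X.Opens, x ∈ W ∧ ∀ ξ ∈ B, ξ ∉ W := by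
  refine ⟨⟨(⋃ ξ ∈ B, closure {ξ})ᶜ, (hB.isClosed_biUnion fun ξ _ => isClosed_closure).isOpen_compl⟩, ?_, ?_⟩
  · intro hx
    obtain ⟨ξ, hξ, hxξ⟩ := Set.mem_iUnion₂.1 hx
    exact h ξ hξ (specializes_iff_mem_closure.2 hxξ)
  · exact fun ξ hξ hW => hW (Set.mem_iUnion₂.2 ⟨ξ, hξ, subset_closure rfl⟩)

theorem ord_inv {k : X.functionField} (hk : k ≠ 0) (x : X) : Scheme.ord k⁻¹ x = - Scheme.ord k x := by
  have h := Scheme.ord_mul (x := x) hk (inv_ne_zero hk)
  rw [mul_inv_cancel₀ hk, ord_one] at h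
  omega

theorem exists_ord_eq (hX : Pi1.IsNormalScheme X) {x : X} (hx : Order.coheight x = 1) (n : ℤ) :
    ∃ k : X.functionField, k ≠ 0 ∧ Scheme.ord k x = n := by
  haveI := isDVR_stalk hX hx
  have : Ring.KrullDimLE 1 (X.presheaf.stalk x) := krullDimLE_of_coheight_le hx.le
  obtain ⟨π, hπ⟩ := IsDiscreteValuationRing.exists_irreducible (X.presheaf.stalk x)
  have h0 : algebraMap (X.presheaf.stalk x) X.functionField π ≠ 0 :=
    (map_ne_zero_iff _ (IsFractionRing.injective (X.presheaf.stalk x) X.functionField)).2 hπ.ne_zero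
  have h1 : Scheme.ord (algebraMap (X.presheaf.stalk x) X.functionField π) x = 1 :=
    (Scheme.ord_eq_iff hx h0).2 (Ring.ordFrac_irreducible hπ)
  induction n using Int.induction_on with
  | zero => exact ⟨1, one_ne_zero, ord_one x⟩
  | succ i ih =>
    obtain ⟨k, hk, he⟩ := ih
    exact ⟨_, mul_ne_zero hk h0, by rw [Scheme.ord_mul hk h0, he, h1]⟩
  | pred i ih =>
    obtain ⟨k, hk, he⟩ := ih
    exact ⟨_, mul_ne_zero hk (inv_ne_zero h0), by rw [Scheme.ord_mul hk (inv_ne_zero h0), he, ord_inv h0, h1]; rfl⟩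

theorem algebraMap_sp (x : X) (r : X.presheaf.stalk x) :
    algebraMap (X.presheaf.stalk x) X.functionField r = X.presheaf.stalkSpecializes (gsp x) r := rfl

theorem one_le_ord_of_not_isUnit (hX : Pi1.IsNormalScheme X) {x : X} (hx : Order.coheight x = 1)
    {r : X.presheaf.stalk x} (hr : r ≠ 0) (hu : ¬ IsUnit r) :
    1 ≤ Scheme.ord (algebraMap (X.presheaf.stalk x) X.functionField r) x := by
  haveI := isDVR_stalk hX hx
  have : Ring.KrullDimLE 1 (X.presheaf.stalk x) := krullDimLE_of_coheight_le hx.le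
  have h0 : algebraMap (X.presheaf.stalk x) X.functionField r ≠ 0 :=
    (map_ne_zero_iff _ (IsFractionRing.injective (X.presheaf.stalk x) X.functionField)).2 hr
  have h1 := CDivLib.one_le_ordHom_of_inStalk hx h0 ⟨r, rfl⟩
  rcases h1.lt_or_eq with h | h
  · omega
  · refine absurd ((Ring.isUnit_iff_ordFrac_one_of_isDiscreteValuationRing (K := X.functionField)).2 ?_) hu
    exact ((Scheme.ord_eq_iff hx h0).1 h.symm).trans (by rw [ofAdd_zero, WithZero.coe_one])

end Groth.Agent.RH26
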