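import Groth.Agent.Lib.RefHull26.Ops
import Groth.Agent.Lib.RefHull26.Finite
import Groth.Agent.Lib.RefHull26.Extend
import Groth.Prelude.Def_RefPow

/-! # Reflexive powers: germs of powers of a section, and the comparison maps -/

set_option autoImplicit false
universe u

set_option backward.isDefEq.respectTransparency.types false

open CategoryTheory AlgebraicGeometry TopologicalSpace Opposite

namespace Groth.Agent.RH26

variable {X : Scheme.{u}} {F : X.Modules} (s : Coh.structureModule X ⟶ F)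

theorem str_one (x : X) : str x 1 = Cyc26.oneStalk x := by rw [str_apply, one_smul]

theorem stalkMapₗ_one {M : X.Modules} (φ : Coh.structureModule X ⟶ M) (x : X) :
    RefHull.stalkMapₗ φ x (str x 1) = M.presheaf.germ ⊤ x trivial (SecTwist.val φ ⊤) := by
  rw [str_one, Cyc26.oneStalk, RefHull.stalkMapₗ_germ]
  rfl

theorem bijective_iff_gen {M : X.Modules} (φ : Coh.structureModule X ⟶ M) (x : X) :
    Function.Bijective (RefHull.stalkMapₗ φ x) ↔ Amp.Gen (M.presheaf.germ ⊤ x trivial (SecTwist.val φ ⊤)) := by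
  have h : (fun r : X.presheaf.stalk x => r • M.presheaf.germ ⊤ x trivial (SecTwist.val φ ⊤)) =
      RefHull.stalkMapₗ φ x ∘ str x := funext fun r => by
    rw [Function.comp_apply, ← stalkMapₗ_one, ← map_smul, ← map_smul, smul_eq_mul, mul_one]
  show _ ↔ Function.Bijective fun r : X.presheaf.stalk x => r • M.presheaf.germ ⊤ x trivial (SecTwist.val φ ⊤)
  rw [h, Function.Bijective.of_comp_iff _ (str x).bijective]

theorem sPowGerm_succ (n : ℕ) (x : X) :
    RefPow.sPowGerm s (n + 1) x = RefHull.stalkMapₗ (RefPow.mulBy s n) x (RefPow.sPowGerm s n x) := by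
  rw [RefPow.sPowGerm, RefPow.sPowGerm, ← stalkMapₗ_one, ← stalkMapₗ_one, RefPow.sPow_succ, stalkMapₗ_comp]
  rfl

theorem stalk_mulBy (n : ℕ) (x : X) (v : (RefPow.refPow F (n + 1)).presheaf.stalk x) :
    RefHull.stalkMapₗ (RefPow.mulBy s (n + 1)) x v =
      RefHull.stalkMapₗ (RefHull.bidualMap (CohB1.tensorMod (RefPow.refPow F (n + 1)) F)) x
        (Cyc26.tstalk (RefPow.refPow F (n + 1)) F x v (F.presheaf.germ ⊤ x trivial (SecTwist.val s ⊤))) := by
  obtain ⟨V, hV, m, rfl⟩ := (RefPow.refPow F (n + 1)).presheaf.exists_germ_eq v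
  rw [RefHull.stalkMapₗ_germ, ← TopCat.Presheaf.germ_res_apply F.presheaf (homOfLE (le_top : V ≤ ⊤)) x hV,
    Cyc26.tstalk_germ, RefHull.stalkMapₗ_germ]
  refine congrArg _ ((RefPow.mulBy_succ_app s n V m).trans ?_)
  rw [← SecTwist.map_val s (homOfLE (le_top : V ≤ ⊤))]
  rfl

theorem stalk_mulBy_zero (n : ℕ) {x : X} (h : F.presheaf.germ ⊤ x trivial (SecTwist.val s ⊤) = 0)
    (v : (RefPow.refPow F n).presheaf.stalk x) : RefHull.stalkMapₗ (RefPow.mulBy s n) x v = 0 := by
  cases n with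
  | zero =>
    have key : ∀ w : (Coh.structureModule X).presheaf.stalk x, RefHull.stalkMapₗ s x w = 0 := fun w => by
      obtain ⟨r, rfl⟩ := (str x).surjective w
      rw [show r = r • (1 : X.presheaf.stalk x) by rw [smul_eq_mul, mul_one], map_smul, map_smul,
        stalkMapₗ_one, h, smul_zero]
    exact key v
  | succ n =>
    rw [stalk_mulBy, h, Cyc26.tstalk, TensorProduct.tmul_zero, map_zero, map_zero]
    rfl

theorem ne_zero_of_gen {M : X.Modules} {x : X} {g : M.presheaf.stalk x} (hg : Amp.Gen g) : g ≠ 0 := fun h =>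
  one_ne_zero (α := X.presheaf.stalk x) (hg.1 (show (1 : X.presheaf.stalk x) • g = (0 : X.presheaf.stalk x) • g by
    rw [h, smul_zero, smul_zero]))

theorem stalkMapₗ_id' {M : X.Modules} (x : X) : RefHull.stalkMapₗ (𝟙 M) x = LinearMap.id := by
  refine LinearMap.ext fun v => ?_
  obtain ⟨V, hV, m, rfl⟩ := M.presheaf.exists_germ_eq v
  rw [RefHull.stalkMapₗ_germ]
  rfl

variable [IsLocallyNoetherian X]

theorem isCoh_refPow (hF : Coh.IsCoh F) : ∀ n : ℕ, Coh.IsCoh (RefPow.refPow F n)
  | 0 => M1.isCoh_structureModule X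
  | 1 => hF
  | n + 2 => isCoh_dual (isCoh_dual (CohFound.isCoh_tensor (isCoh_refPow hF (n + 1)) hF))

theorem gen_pow (hF : Coh.IsCoh F) {x : X} (hx : x ∈ RefPow.isoLocus s) :
    ∀ n, Amp.Gen (RefPow.sPowGerm s n x)
  | 0 => (bijective_iff_gen (𝟙 (Coh.structureModule X)) x).1 ((isIso_iff_stalkMapₗ _).1 inferInstance x)
  | 1 => (bijective_iff_gen (RefPow.sPow s 1) x).1 (by rw [RefPow.sPow_one]; exact hx)
  | n + 2 => by
    rw [sPowGerm_succ, stalk_mulBy]
    exact gen_bidual (CohFound.isCoh_tensor (isCoh_refPow hF (n + 1)) hF)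
      (gen_tstalk' (gen_pow hF hx (n + 1)) ((bijective_iff_gen s x).1 hx))

theorem bijective_sPow (hF : Coh.IsCoh F) {x : X} (hx : x ∈ RefPow.isoLocus s) (n : ℕ) :
    Function.Bijective (RefHull.stalkMapₗ (RefPow.sPow s n) x) :=
  (bijective_iff_gen _ x).2 (gen_pow s hF hx n)

theorem isIso_restrict_sPow (hF : Coh.IsCoh F) (U : X.Opens) (hU : (U : Set X) = RefPow.isoLocus s) (n : ℕ) :
    IsIso ((Scheme.Modules.restrictFunctor U.ι).map (RefPow.sPow s n)) := by
  refine (M1.isIso_iff_stalk _).2 fun z => ?_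
  have hb : Function.Bijective
      ((TopCat.Presheaf.stalkFunctor AddCommGrpCat.{u} (U.ι z)).map (RefPow.sPow s n).mapPresheaf) :=
    bijective_sPow s hF (show U.ι z ∈ RefPow.isoLocus s from hU ▸ (z.2 : (z.1 : X) ∈ (U : Set X))) n
  haveI : IsIso ((TopCat.Presheaf.stalkFunctor AddCommGrpCat.{u} (U.ι z)).map (RefPow.sPow s n).mapPresheaf) :=
    (ConcreteCategory.isIso_iff_bijective _).2 hb
  have hn := (Scheme.Modules.restrictStalkNatIso U.ι z).hom.naturality (RefPow.sPow s n)
  have : IsIso ((Scheme.Modules.restrictFunctor U.ι ⋙ Scheme.Modules.toPresheaf _ ⋙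
      TopCat.Presheaf.stalkFunctor AddCommGrpCat.{u} z).map (RefPow.sPow s n)) := by
    refine (NatIso.isIso_map_iff (Scheme.Modules.restrictStalkNatIso U.ι z) _).2 ?_
    assumption
  exact (ConcreteCategory.isIso_iff_bijective _).1 this

variable [IsIntegral X]

theorem R1.refPow (hF : R1 F) : ∀ n : ℕ, R1 (RefPow.refPow F n)
  | 0 => R1.structureModule hF.normal
  | 1 => hF
  | n + 2 => R1.tensorHull (R1.refPow hF (n + 1)) hF

theorem gen_of_ne_zero (hF : R1 F) {a : F.presheaf.stalk (genericPoint X)} (ha : a ≠ 0) : Amp.Gen a := by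
  obtain ⟨g, hg⟩ := hF.gen
  obtain ⟨k, rfl⟩ := hg.2 a
  have hk : k ≠ 0 := fun h0 => ha (by rw [h0]; exact zero_smul _ g)
  obtain ⟨c, hc⟩ := (isField_η (X := X)).mul_inv_cancel hk
  exact (hg.ne_zero_smul k).2 (IsUnit.of_mul_eq_one _ hc)

theorem germ_eq_zero_of_not_mem (hF : R1 F) (h : genericPoint X ∉ RefPow.isoLocus s) (x : X) :
    F.presheaf.germ ⊤ x trivial (SecTwist.val s ⊤) = 0 := by
  refine hF.closed.1 x ?_
  rw [TopCat.Presheaf.germ_stalkSpecializes_apply, map_zero]
  by_contra h0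
  exact h ((bijective_iff_gen s _).2 (gen_of_ne_zero hF h0))

theorem sPowGerm_sp (n : ℕ) {x : X} :
    (RefPow.refPow F n).presheaf.stalkSpecializes (gsp x) (RefPow.sPowGerm s n x) =
      RefPow.sPowGerm s n (genericPoint X) :=
  TopCat.Presheaf.germ_stalkSpecializes_apply _ _ _ _

theorem ordv_pow (hF : R1 F) (hη : genericPoint X ∈ RefPow.isoLocus s) {x : X} (hx : Order.coheight x = 1) :
    ∀ n : ℕ, ordv (RefPow.refPow F n) x (RefPow.sPowGerm s n (genericPoint X)) =
      n * ordv F x (F.presheaf.germ ⊤ (genericPoint X) trivial (SecTwist.val s ⊤))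
  | 0 => by
    rw [Nat.cast_zero, zero_mul]
    show ordv (Coh.structureModule X) x
      ((Coh.structureModule X).presheaf.germ ⊤ _ trivial (SecTwist.val (RefPow.sPow s 0) ⊤)) = 0
    refine Eq.trans ?_ (ordv_structure_one' hF.normal hx)
    refine congrArg _ ((stalkMapₗ_one (𝟙 (Coh.structureModule X)) _).symm.trans ?_)
    rw [show RefHull.stalkMapₗ (𝟙 (Coh.structureModule X)) (genericPoint X) = LinearMap.id from stalkMapₗ_id' _]
    rfl
  | 1 => by
    rw [Nat.cast_one, one_mul, RefPow.sPowGerm, RefPow.sPow_one]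
    rfl
  | n + 2 => by
    have h1 : RefPow.sPowGerm s (n + 1) (genericPoint X) ≠ 0 := fun h =>
      ne_zero_of_gen (gen_pow s hF.coh hη (n + 1)) h
    have h2 : F.presheaf.germ ⊤ (genericPoint X) trivial (SecTwist.val s ⊤) ≠ 0 := fun h =>
      ne_zero_of_gen ((bijective_iff_gen s _).1 hη) h
    rw [sPowGerm_succ, stalk_mulBy]
    refine (((R1.refPow hF (n + 1)).pr_spec hF h1 h2).2 x hx).trans ?_
    rw [ordv_pow hF hη hx (n + 1)]
    push_cast
    ring
  where
  ordv_structure_one' (hX : Pi1.IsNormalScheme X) {x : X} (hx : Order.coheight x = 1) :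
      ordv (Coh.structureModule X) x (str (genericPoint X) 1) = 0 := by
    have hg : Amp.Gen (str x 1) := gen_of_equiv (str x)
    have e : (Coh.structureModule X).presheaf.stalkSpecializes (gsp x) (str x 1) = str (genericPoint X) 1 := by
      rw [str_one, str_one, ← one_smul (X.presheaf.stalk x) (Cyc26.oneStalk x), Cyc26.stalkSpecializes_smul_one,
        map_one, one_smul]
    have := ordv_gen hx hg (by rw [e]; exact gen_of_equiv (str _)) (one_ne_zero (α := X.functionField))
    rw [e, one_smul, ord_one] at this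
    exact this

end Groth.Agent.RH26
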