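import Groth.Agent.Lib.RefHull26.Algebra

/-! # Kernels of maps from reflexive modules to torsion free ones -/

set_option autoImplicit false
universe u

namespace Groth.Agent.RH26

variable {R : Type u} [CommRing R] [IsDomain R] [IsNoetherianRing R]

theorem isReflexive_of_exact {M M' M'' : Type u} [AddCommGroup M] [Module R M] [Module.Finite R M]
    [AddCommGroup M'] [Module R M'] [Module.Finite R M'] [AddCommGroup M''] [Module R M'']
    (f : M →ₗ[R] M') (g : M' →ₗ[R] M'') (hf : Function.Injective f) (hfg : Function.Exact f g)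
    [Module.IsReflexive R M'] [Module.IsTorsionFree R M''] : Module.IsReflexive R M := by
  have hev : ∀ m : M, Module.Dual.eval R M' (f m) = (Module.Dual.eval R M m).comp f.dualMap := fun m => rfl
  refine ⟨fun m n e => hf ((Module.bijective_dual_eval R M').1 (by rw [hev, hev, e])), fun ξ => ?_⟩
  obtain ⟨m', hm'⟩ := (Module.bijective_dual_eval R M').2 (ξ.comp f.dualMap)
  obtain ⟨r, hr, m, hm⟩ := exists_smul_mem_range_eval ξ
  have h1 : r • m' = f m := (Module.bijective_dual_eval R M').1 (by
    rw [map_smul, hm', hev, hm]; rfl)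
  have h2 : g m' = 0 := by
    have := congrArg g h1
    rw [map_smul, hfg.apply_apply_eq_zero] at this
    exact (smul_eq_zero.1 this).resolve_left hr
  obtain ⟨m₀, rfl⟩ := (hfg m').1 h2
  refine ⟨m₀, LinearMap.ext fun φ => mul_left_cancel₀ hr ?_⟩
  have h3 : r • m₀ = m := hf (by rw [map_smul, h1])
  show r * φ m₀ = r * ξ φ
  rw [← smul_eq_mul r (φ m₀), ← map_smul, h3]
  exact LinearMap.congr_fun hm φ

theorem isReflexive_iff_exists_free {M : Type u} [AddCommGroup M] [Module R M] [Module.Finite R M] :
    Module.IsReflexive R M ↔ ∃ (n : ℕ) (f : M →ₗ[R] (Fin n → R)), Function.Injective f ∧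
      Module.IsTorsionFree R ((Fin n → R) ⧸ LinearMap.range f) := by
  constructor
  · intro h
    haveI := finite_dual (R := R) (M := M)
    obtain ⟨n, l, hl⟩ := Module.Finite.exists_fin' R (Module.Dual R M)
    let c : Fin n → Module.Dual R M := fun i => l (Pi.single i 1)
    refine ⟨n, LinearMap.pi c, fun m m' e => (Module.bijective_dual_eval R M).1 (LinearMap.ext fun φ => ?_), ⟨fun r hr => ?_⟩⟩
    · obtain ⟨w, rfl⟩ := hl φ
      rw [pi_eq_sum_univ w, map_sum, map_sum, map_sum]
      refine Finset.sum_congr rfl fun i _ => ?_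
      rw [map_smul, map_smul, map_smul]
      congr 1
      have := congrFun e i
      rw [show (fun j => if i = j then (1 : R) else 0) = Pi.single i 1 from funext fun j => by
        rw [Pi.single_apply]; exact if_congr eq_comm rfl rfl]
      exact this
    · intro x y e
      obtain ⟨x, rfl⟩ := Submodule.Quotient.mk_surjective _ x
      obtain ⟨y, rfl⟩ := Submodule.Quotient.mk_surjective _ y
      rw [Submodule.Quotient.eq]
      replace e : r • (x - y) ∈ LinearMap.range (LinearMap.pi c) := by
        rw [← Submodule.Quotient.mk_eq_zero, Submodule.Quotient.mk_smul, Submodule.Quotient.mk_sub, smul_sub]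
        exact sub_eq_zero.2 e
      obtain ⟨m, hm⟩ := e
      have hd : ∀ w : Fin n → R, l w m = r * ∑ i, w i * (x - y) i := fun w => by
        conv_lhs => rw [pi_eq_sum_univ w, map_sum, LinearMap.sum_apply]
        rw [Finset.mul_sum]
        refine Finset.sum_congr rfl fun i _ => ?_
        rw [map_smul, LinearMap.smul_apply, smul_eq_mul, show (fun j => if i = j then (1 : R) else 0) = Pi.single i 1 from
          funext fun j => by rw [Pi.single_apply]; exact if_congr eq_comm rfl rfl]
        have := congrFun hm i
        rw [Pi.smul_apply, smul_eq_mul] at this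
        rw [show l (Pi.single i 1) m = r * (x - y) i from this]
        ring
      choose g hg using fun φ : Module.Dual R M => show ∃ z, φ m = r * z from by
        obtain ⟨w, rfl⟩ := hl φ
        exact ⟨_, hd w⟩
      have hr0 : r ≠ 0 := hr.ne_zero
      let G : Module.Dual R (Module.Dual R M) :=
        { toFun := g
          map_add' := fun φ ψ => mul_left_cancel₀ hr0 (by rw [← hg, mul_add, ← hg, ← hg, LinearMap.add_apply])
          map_smul' := fun a φ => mul_left_cancel₀ hr0 (by
            rw [← hg, LinearMap.smul_apply, RingHom.id_apply, smul_eq_mul, smul_eq_mul, mul_left_comm, hg]) }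
      obtain ⟨m₁, hm₁⟩ := (Module.bijective_dual_eval R M).2 G
      refine ⟨m₁, funext fun i => mul_left_cancel₀ hr0 ?_⟩
      rw [show LinearMap.pi c m₁ i = g (c i) from LinearMap.congr_fun hm₁ (c i), ← hg]
      exact congrFun hm i
  · rintro ⟨n, f, hf, htf⟩
    exact isReflexive_of_exact f (LinearMap.range f).mkQ hf (LinearMap.exact_map_mkQ_range f)

end Groth.Agent.RH26
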