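import Groth.Agent.Lib.RefHull26.Hom
import Groth.Agent.Lib.CohFound.ModQuot

/-! # The stalk of a sheaf Hom out of a module of finite type -/

set_option autoImplicit false
universe u

set_option backward.isDefEq.respectTransparency.types false

open CategoryTheory AlgebraicGeometry TopologicalSpace Opposite

namespace Groth.Agent.RH26

variable {X : Scheme.{u}}

/-- A linear map on a stalk killing the germs of generating sections is zero. -/
theorem linearMap_zero_of_generators {F : X.Modules} {U : X.Opens} {I : Type u}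
    (p : M1.fr I ⟶ F.restrict U.ι) [Epi p] {P : Type u} [AddCommGroup P] (y : (U : Scheme.{u}))
    [Module (X.presheaf.stalk (U.ι y)) P] (f : F.presheaf.stalk (U.ι y) →ₗ[X.presheaf.stalk (U.ι y)] P)
    (h : ∀ i, f (F.presheaf.germ (U.ι ''ᵁ ⊤) (U.ι y) ⟨y, trivial, rfl⟩ (M1.freeSec p i)) = 0) : f = 0 := by
  let e := (Scheme.Modules.restrictStalkNatIso U.ι y).app F
  let H : AddSubgroup ((M1.stalkAb y).obj (F.restrict U.ι)) :=
    (f.toAddMonoidHom.comp e.hom.hom).ker
  have hH : ∀ b, b ∈ H := fun b => by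
    obtain ⟨a, rfl⟩ := (M1.epi_iff_stalk p).1 inferInstance y b
    refine CohFound.stalk_map_mem p y H (fun i a => ?_) a
    obtain ⟨W, hW, r, rfl⟩ := (Coh.structureModule (U : Scheme.{u})).presheaf.exists_germ_eq a
    rw [← M1.stalk_comp_apply]
    have hr : (M1.ιF i ≫ p).app W r =
        (show Γ((U : Scheme.{u}), W) from r) • M1.mres (F.restrict U.ι) le_top (M1.freeSec p i) := by
      conv_lhs => rw [show r = (show Γ((U : Scheme.{u}), W) from r) •
        M1.mres (Coh.structureModule (U : Scheme.{u})) le_top (M1.one ⊤) from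
          (mul_one (show Γ((U : Scheme.{u}), W) from r)).symm.trans (by rw [M1.mres_one]; rfl)]
      rw [Scheme.Modules.Hom.app_smul, M1.app_mres]
      rfl
    have hg : (M1.stalkAb y).map (M1.ιF i ≫ p) ((Coh.structureModule (U : Scheme.{u})).presheaf.germ W y hW r) =
        (F.restrict U.ι).presheaf.germ W y hW ((M1.ιF i ≫ p).app W r) :=
      TopCat.Presheaf.stalkFunctor_map_germ_apply W y hW (M1.ιF i ≫ p).mapPresheaf r
    have hy' : U.ι y ∈ U.ι ''ᵁ W := ⟨y, hW, rfl⟩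
    have he : e.hom ((F.restrict U.ι).presheaf.germ W y hW ((M1.ιF i ≫ p).app W r)) =
        F.presheaf.germ (U.ι ''ᵁ W) (U.ι y) hy'
          ((F.restrictAppIso U.ι W).hom ((M1.ιF i ≫ p).app W r)) :=
      ConcreteCategory.congr_hom (Scheme.Modules.germ_restrictStalkNatIso_hom_app U.ι y F hW) _
    rw [hg, AddMonoidHom.mem_ker]
    show f (e.hom _) = 0
    rw [he, hr, M1.restrict_ι_smul (M := F) (show Γ(X, U.ι ''ᵁ W) from r), gsmul, map_smul]
    refine smul_eq_zero_of_right _ ?_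
    refine Eq.trans (congrArg f ?_) (h i)
    exact TopCat.Presheaf.germ_res_apply F.presheaf (homOfLE (Scheme.Hom.image_mono U.ι le_top)) (U.ι y) hy' _
  refine LinearMap.ext fun v => ?_
  have := hH (e.inv v)
  rw [AddMonoidHom.mem_ker] at this
  have h2 : e.hom (e.inv v) = v := ConcreteCategory.congr_hom e.inv_hom_id v
  exact (congrArg f h2.symm).trans this

theorem evalStalk_injective_of_isFT {F : X.Modules} (hF : CohB1.IsFT F) (G : X.Modules) (x : X) :
    Function.Injective (RefHull.evalStalk F G x) := by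
  rw [injective_iff_map_eq_zero]
  intro θ hθ
  obtain ⟨V, hV, g, rfl⟩ := (RefHull.homSh F G).presheaf.exists_germ_eq θ
  rw [RefHull.evalStalk_germ] at hθ
  obtain ⟨U, hxU, σ, hσ⟩ := (M1.isFT_iff_generators F).mp hF x
  haveI := hσ
  let p : M1.fr σ.I ⟶ F.restrict U.ι := σ.π
  haveI hp : Epi p := σ.epi
  have hT : U.ι ''ᵁ ⊤ = U := M1.image_ι_top U
  have hle₀ : U.ι ''ᵁ ⊤ ⊓ V ≤ U.ι ''ᵁ ⊤ := inf_le_left
  choose a ha _ using fun i => exists_app hle₀
    ((RefHull.homSh F G).presheaf.map (homOfLE (inf_le_right : U.ι ''ᵁ ⊤ ⊓ V ≤ V)).op g) (M1.freeSec p i)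
  have hxT : x ∈ U.ι ''ᵁ ⊤ ⊓ V := ⟨⟨⟨x, hxU⟩, trivial, rfl⟩, hV⟩
  have h0 : ∀ i, ∀ᶠ y in nhds x, ∀ hy : y ∈ U.ι ''ᵁ ⊤ ⊓ V, G.presheaf.germ _ y hy (a i) = 0 := fun i => by
    have hz : G.presheaf.germ _ x hxT (a i) = G.presheaf.germ _ x hxT 0 := by
      rw [ha i x hxT, map_zero]
      show g.1 ⟨x, _⟩ _ = 0
      rw [hθ]
      rfl
    obtain ⟨W, hW, i₁, i₂, he⟩ := G.presheaf.germ_eq x hxT hxT _ _ hz
    refine Filter.mem_of_superset (W.isOpen.mem_nhds hW) fun y hy hyU => ?_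
    rw [← TopCat.Presheaf.germ_res_apply G.presheaf i₁ y hy, he, TopCat.Presheaf.germ_res_apply, map_zero]
  obtain ⟨W, hWs, hWo, hxW⟩ := mem_nhds_iff.1
    (Filter.inter_mem (Filter.eventually_all.2 h0) ((U.ι ''ᵁ ⊤ ⊓ V).isOpen.mem_nhds hxT))
  have hWV : (⟨W, hWo⟩ : X.Opens) ≤ V := fun y hy => (hWs hy).2.2
  have hzero : (RefHull.homSh F G).presheaf.map (homOfLE hWV).op g = 0 := by
    refine Subtype.ext (funext fun y => ?_)
    obtain ⟨y, hy⟩ := y
    obtain ⟨z, -, rfl⟩ := (hWs hy).2.1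
    exact linearMap_zero_of_generators (P := G.presheaf.stalk (U.ι z)) p z _
      fun i => (ha i _ (hWs hy).2).symm.trans ((hWs hy).1 i (hWs hy).2)
  rw [← TopCat.Presheaf.germ_res_apply (RefHull.homSh F G).presheaf (homOfLE hWV) x hxW g, hzero, map_zero]

end Groth.Agent.RH26
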