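import Groth.Agent.Lib.RefHull26.Finite
import Groth.Prelude.Def_MeroDiv

/-! # The module of a Weil divisor -/

set_option autoImplicit false
universe u

set_option backward.isDefEq.respectTransparency.types false

open CategoryTheory AlgebraicGeometry TopologicalSpace Opposite

namespace Groth.Agent.RH26

variable {X : Scheme.{u}} [IsIntegral X] [IsLocallyNoetherian X]

/-- The condition on a rational function at a point. -/
def Good (D : X → ℤ) (k : X.functionField) (x : X) : Prop :=
  Order.coheight x = 1 → k = 0 ∨ 0 ≤ Scheme.ord k x + D x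

theorem good_zero (D : X → ℤ) (x : X) : Good D 0 x := fun _ => Or.inl rfl

theorem good_add (hX : Pi1.IsNormalScheme X) {D : X → ℤ} {k l : X.functionField} {x : X} (hk : Good D k x)
    (hl : Good D l x) : Good D (k + l) x := fun hx => by
  rcases hk hx with rfl | hk'
  · rw [zero_add]; exact hl hx
  rcases hl hx with rfl | hl'
  · rw [add_zero]; exact Or.inr hk'
  rcases eq_or_ne (k + l) 0 with h0 | h0
  · exact Or.inl h0
  haveI := isDVR_stalk hX hx
  have h := Scheme.ord_add (x := x) h0
  exact Or.inr (by omega)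

theorem good_smul {D : X → ℤ} {k : X.functionField} {x : X} (hk : Good D k x) (r : X.presheaf.stalk x) :
    Good D (algebraMap (X.presheaf.stalk x) X.functionField r * k) x := fun hx => by
  rcases eq_or_ne r 0 with rfl | hr
  · exact Or.inl (by rw [map_zero, zero_mul])
  rcases hk hx with rfl | hk'
  · exact Or.inl (mul_zero _)
  rcases eq_or_ne k 0 with rfl | hk0
  · exact Or.inl (mul_zero _)
  have : Ring.KrullDimLE 1 (X.presheaf.stalk x) := krullDimLE_of_coheight_le hx.le
  have h0 : algebraMap (X.presheaf.stalk x) X.functionField r ≠ 0 :=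
    (map_ne_zero_iff _ (IsFractionRing.injective (X.presheaf.stalk x) X.functionField)).2 hr
  have := CDivLib.one_le_ordHom_of_inStalk hx h0 ⟨r, rfl⟩
  exact Or.inr (by rw [Scheme.ord_mul h0 hk0]; omega)

/-- The constant family with values in the function field. -/
abbrev KFam (X : Scheme.{u}) [IrreducibleSpace X] : X → Type u := fun _ => X.functionField

/-- Constant functions satisfying the divisor condition. -/
noncomputable def odLoc (D : X → ℤ) : TopCat.LocalPredicate (KFam X) where
  pred {U} f := ∀ y : U, Good D (f y) y.1 ∧ ∀ hη : genericPoint X ∈ U, f y = f ⟨genericPoint X, hη⟩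
  res {V U} i f h := fun y => ⟨(h (i y)).1, fun hη => (h (i y)).2 (i.le hη)⟩
  locality {U} f h := fun y => by
    obtain ⟨V, hyV, i, hV⟩ := h y
    exact ⟨(hV ⟨y.1, hyV⟩).1, fun _ => (hV ⟨y.1, hyV⟩).2 (mem_of_genericPoint V hyV)⟩

theorem isModPred_odLoc (hX : Pi1.IsNormalScheme X) (D : X → ℤ) : Mero.IsModPred (odLoc D) where
  zero U := fun y => ⟨good_zero D y.1, fun _ => rfl⟩
  add U f g hf hg := fun y => ⟨good_add hX (hf y).1 (hg y).1, fun hη => by
    show f y + g y = f ⟨genericPoint X, hη⟩ + g ⟨genericPoint X, hη⟩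
    rw [(hf y).2 hη, (hg y).2 hη]⟩
  smul U r f hf := fun y => by
    have e : ∀ z : U, (X.presheaf.germ U z.1 z.2 r • f z : X.functionField) =
        X.presheaf.germ U (genericPoint X) (mem_of_genericPoint U z.2) r * f z := fun z => by
      rw [Algebra.smul_def, algebraMap_sp, TopCat.Presheaf.germ_stalkSpecializes_apply]
    refine ⟨?_, fun hη => ?_⟩
    · show Good D (X.presheaf.germ U y.1 y.2 r • f y) y.1
      rw [Algebra.smul_def]; exact good_smul (hf y).1 _
    · refine (e y).trans (Eq.trans ?_ (e ⟨genericPoint X, hη⟩).symm)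
      rw [(hf y).2 hη]

variable (hX : Pi1.IsNormalScheme X) (D : X → ℤ)

/-- `O(D)`. -/
noncomputable def od : X.Modules :=
  haveI := isModPred_odLoc hX D
  Mero.modOf (odLoc D)

variable {hX D}

/-- The value of a section. -/
noncomputable def odVal {U : X.Opens} (hη : genericPoint X ∈ U) (f : Γ(od hX D, U)) : X.functionField :=
  f.1 ⟨genericPoint X, hη⟩

theorem odVal_add {U : X.Opens} (hη : genericPoint X ∈ U) (f g : Γ(od hX D, U)) :
    odVal hη (f + g) = odVal hη f + odVal hη g := rfl

theorem odVal_zero {U : X.Opens} (hη : genericPoint X ∈ U) : odVal hη (0 : Γ(od hX D, U)) = 0 := rfl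

theorem odVal_res {U V : X.Opens} (h : V ≤ U) (hη : genericPoint X ∈ V) (f : Γ(od hX D, U)) :
    odVal hη ((od hX D).presheaf.map (homOfLE h).op f) = odVal (h hη) f := rfl

theorem odVal_smul {U : X.Opens} (hη : genericPoint X ∈ U) (r : Γ(X, U)) (f : Γ(od hX D, U)) :
    odVal hη (r • f) = (X.presheaf.germ U (genericPoint X) hη r : X.functionField) * odVal hη f := by
  have e : ∀ z : U, ((r • f : Γ(od hX D, U)).1 z : X.functionField) =
      X.presheaf.germ U (genericPoint X) (mem_of_genericPoint U z.2) r * f.1 z := fun z => by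
    show (X.presheaf.germ U z.1 z.2 r • f.1 z : X.functionField) = _
    rw [Algebra.smul_def, algebraMap_sp, TopCat.Presheaf.germ_stalkSpecializes_apply]
  exact e ⟨genericPoint X, hη⟩

theorem od_ext {U : X.Opens} {f g : Γ(od hX D, U)} (h : ∀ hη, odVal hη f = odVal hη g) : f = g :=
  Subtype.ext (funext fun y => by
    have hη := mem_of_genericPoint U y.2
    exact ((f.2 y).2 hη).trans ((h hη).trans ((g.2 y).2 hη).symm))

theorem od_good {U : X.Opens} (hη : genericPoint X ∈ U) (f : Γ(od hX D, U)) {y : X} (hy : y ∈ U) :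
    Good D (odVal hη f) y := by
  have := (f.2 ⟨y, hy⟩).1
  rwa [(f.2 ⟨y, hy⟩).2 hη] at this

theorem exists_od_section {U : X.Opens} (k : X.functionField) (h : ∀ y ∈ U, Good D k y) :
    ∃ f : Γ(od hX D, U), ∀ hη, odVal hη f = k :=
  ⟨⟨fun _ => k, fun y => ⟨h y.1 y.2, fun _ => rfl⟩⟩, fun _ => rfl⟩

theorem odVal_eq_of_germ {U V : X.Opens} (hU : genericPoint X ∈ U) (hV : genericPoint X ∈ V)
    {f : Γ(od hX D, U)} {g : Γ(od hX D, V)}
    (h : (od hX D).presheaf.germ U _ hU f = (od hX D).presheaf.germ V _ hV g) : odVal hU f = odVal hV g := by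
  obtain ⟨W, hW, i, j, e⟩ := (od hX D).presheaf.germ_eq _ hU hV _ _ h
  exact congrArg (odVal hW) e

theorem germ_eq_of_odVal {U V : X.Opens} (hU : genericPoint X ∈ U) (hV : genericPoint X ∈ V)
    {f : Γ(od hX D, U)} {g : Γ(od hX D, V)} (h : odVal hU f = odVal hV g) {y : X} (hyU : y ∈ U) (hyV : y ∈ V) :
    (od hX D).presheaf.germ U y hyU f = (od hX D).presheaf.germ V y hyV g := by
  refine (od hX D).presheaf.germ_ext (U ⊓ V) ⟨hyU, hyV⟩ (homOfLE inf_le_left) (homOfLE inf_le_right) ?_
  exact od_ext fun hη => h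

theorem exists_nhd_good {DD : AlgebraicCycle X ℤ} {hX : Pi1.IsNormalScheme X} {k : X.functionField} (hk : k ≠ 0)
    {U : X.Opens} (hU : IsAffineOpen U) :
    {ξ : X | ξ ∈ U ∧ Order.coheight ξ = 1 ∧ ¬ Good DD k ξ}.Finite := by
  have hZ : IsClosed {y : X | ¬ InStalk (Coh.structureModule X) y (str (genericPoint X) k)} :=
    (isOpen_inStalk _).isClosed_compl
  have hη : genericPoint X ∉ {y : X | ¬ InStalk (Coh.structureModule X) y (str (genericPoint X) k)} := fun h =>
    h ⟨str (genericPoint X) k, by rw [TopCat.Presheaf.stalkSpecializes_refl]; rfl⟩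
  refine ((finite_coheight_one hU hZ hη).union
    (DD.locallyFiniteSupport.finite_inter_support_of_isCompact hU.isCompact)).subset fun ξ hξ => ?_
  obtain ⟨hξU, hξ1, hbad⟩ := hξ
  by_cases hs : InStalk (Coh.structureModule X) ξ (str (genericPoint X) k)
  · refine Or.inr ⟨hξU, fun hD => hbad fun _ => Or.inr ?_⟩
    obtain ⟨v, hv⟩ := hs
    obtain ⟨b, rfl⟩ := (str ξ).surjective v
    rw [str_apply, Cyc26.stalkSpecializes_smul_one] at hv
    have hb : X.presheaf.stalkSpecializes (gsp ξ) b = k := (str (genericPoint X)).injective hv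
    rw [show DD ξ = 0 from hD, add_zero]
    exact (inStalk_function_iff hX hξ1 hk).1 ⟨b, hb⟩
  · exact Or.inl ⟨hξU, hs, hξ1⟩

end Groth.Agent.RH26
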