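import Groth.Agent.Lib.RefHull26.Free
import Groth.Agent.Lib.Cyc26.C1Inv
import Groth.Agent.Lib.Cyc26.DivFun
import Groth.Agent.Lib.CDivLib.Normal

/-! # Orders at codimension one points -/

set_option autoImplicit false
universe u

set_option backward.isDefEq.respectTransparency.types false

open CategoryTheory AlgebraicGeometry TopologicalSpace Opposite

namespace Groth.Agent.RH26

variable {X : Scheme.{u}} [IsIntegral X]

theorem residue_η_bijective : Function.Bijective (X.residue (genericPoint X)) := by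
  refine ⟨fun a b h => sub_eq_zero.1 ?_, X.residue_surjective _⟩
  have h0 : X.residue (genericPoint X) (a - b) = 0 := by rw [map_sub, h, sub_self]
  rw [Cyc26.residue_eq_zero, (IsLocalRing.isField_iff_maximalIdeal_eq).1 isField_η, Ideal.mem_bot] at h0
  exact h0

theorem residue_η_ne_zero {φ : X.functionField} (hφ : φ ≠ 0) : X.residue (genericPoint X) φ ≠ 0 := fun h =>
  hφ (residue_η_bijective.1 (h.trans (map_zero _).symm))

theorem dim_eq_one_iff (x : X) : ringKrullDim (X.presheaf.stalk x) = 1 ↔ Order.coheight x = 1 := by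
  rw [ringKrullDim_stalk_eq_coheight, WithBot.coe_eq_one]

/-- The order along the generic specialisation is the order of vanishing. -/
theorem ordAt_residue [IsLocallyNoetherian X] {x : X} (hx : Order.coheight x = 1) (φ : X.functionField) :
    Cyc.ordAt x (genericPoint X) (gsp x) (X.residue (genericPoint X) φ) = Scheme.ord φ x := by
  have : Ring.KrullDimLE 1 (X.presheaf.stalk x) := krullDimLE_of_coheight_le hx.le
  let e' : X.functionField ≃+* X.residueField (genericPoint X) :=
    RingEquiv.ofBijective (X.residue (genericPoint X)).hom residue_η_bijective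
  let e : X.presheaf.stalk x ≃+* Cyc.LocQuot x (genericPoint X) (gsp x) :=
    ((RingEquiv.quotientBot _).symm.trans (Ideal.quotEquivOfEq (Cyc26.ker_specMap_generic (gsp x)).symm))
  have h1 := Cyc26.ordFrac_congr (R := X.presheaf.stalk x) (K := X.functionField) e e' (fun r => rfl) φ
  refine h1.trans ?_
  rw [CycAlg.ordFrac, dif_pos ⟨inferInstance, this, inferInstance, inferInstance⟩]
  rw [Scheme.ord_eq_ordHom_of_coheight_eq_one hx]
  show _ = Multiplicative.toAdd ((Ring.ordFrac (X.presheaf.stalk x) φ).unzeroD 1)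
  cases Ring.ordFrac (X.presheaf.stalk x) φ <;> rfl

theorem ord_one [IsLocallyNoetherian X] (x : X) : Scheme.ord (1 : X.functionField) x = 0 := by
  have h := Scheme.ord_mul (x := x) (one_ne_zero (α := X.functionField)) one_ne_zero
  rw [mul_one] at h
  omega

theorem isDVR_stalk [IsLocallyNoetherian X] (hX : Pi1.IsNormalScheme X) {x : X} (hx : Order.coheight x = 1) :
    IsDiscreteValuationRing (X.presheaf.stalk x) := by
  haveI := (hX x).2
  exact Curve17.isDiscreteValuationRing_of_dim_one (X.presheaf.stalk x) ((dim_eq_one_iff x).2 hx)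

theorem inStalk_function_iff [IsLocallyNoetherian X] (hX : Pi1.IsNormalScheme X) {x : X} (hx : Order.coheight x = 1)
    {φ : X.functionField} (hφ : φ ≠ 0) :
    (∃ b, X.presheaf.stalkSpecializes (gsp x) b = φ) ↔ 0 ≤ Scheme.ord φ x := by
  haveI := isDVR_stalk hX hx
  exact ⟨fun ⟨b, hb⟩ => CDivLib.one_le_ordHom_of_inStalk hx hφ ⟨b, hb⟩, fun h => CDivLib.inStalk_of_ord_nonneg hφ h⟩

section fibre

variable {F : X.Modules}

theorem fmk_injective : Function.Injective (Cyc26.fmk F (genericPoint X)) := fun a b h => by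
  rw [Cyc26.fmk, Cyc26.fmk, Submodule.Quotient.eq, (IsLocalRing.isField_iff_maximalIdeal_eq).1 isField_η,
    Submodule.bot_smul, Submodule.mem_bot, sub_eq_zero] at h
  exact h

theorem exists_fmk (s : Cyc.secFibre F (genericPoint X)) : ∃ a, Cyc26.fmk F (genericPoint X) a = s :=
  Submodule.Quotient.mk_surjective _ s

theorem fmk_smul (φ : X.functionField) (a : F.presheaf.stalk (genericPoint X)) :
    Cyc26.fmk F (genericPoint X) (φ • a) = φ • Cyc26.fmk F (genericPoint X) a :=
  Submodule.Quotient.mk_smul _ φ a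

/-- The order of a value of the generic stalk. -/
noncomputable def ordv (F : X.Modules) (x : X) (a : F.presheaf.stalk (genericPoint X)) : ℤ :=
  Cyc.secOrdAt F (genericPoint X) x (gsp x) (Cyc26.fmk F (genericPoint X) a)

theorem gen_sp {x : X} (hinj : Function.Injective (F.presheaf.stalkSpecializes (gsp x)))
    {g₀ : F.presheaf.stalk (genericPoint X)} (hg₀ : Amp.Gen g₀) {g : F.presheaf.stalk x} (hg : Amp.Gen g) :
    Amp.Gen (F.presheaf.stalkSpecializes (gsp x) g) := by
  obtain ⟨k, hk⟩ := hg₀.2 (F.presheaf.stalkSpecializes (gsp x) g)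
  have hk0 : k ≠ 0 := fun h0 => by
    have hg0 : g = 0 := hinj (by rw [← hk, h0, map_zero]; exact zero_smul _ g₀)
    exact zero_ne_one (α := X.presheaf.stalk x) (hg.1 (by show (0 : X.presheaf.stalk x) • g = (1 : X.presheaf.stalk x) • g; rw [hg0, smul_zero, smul_zero]))
  obtain ⟨c, hc⟩ := (isField_η (X := X)).mul_inv_cancel hk0
  rw [← hk]
  exact (hg₀.ne_zero_smul k).2 (IsUnit.of_mul_eq_one _ hc)

theorem gen_of_span' {x : X} {g t : F.presheaf.stalk x} (hg : Amp.Gen g)
    (ht : Submodule.span (X.presheaf.stalk x) {t} = ⊤) : Amp.Gen t := by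
  obtain ⟨c, hc⟩ := hg.2 t
  obtain ⟨d, hd⟩ := Submodule.mem_span_singleton.1 (ht.ge (Submodule.mem_top (x := g)))
  simp only at hc
  subst hc
  rw [← mul_smul] at hd
  exact (hg.ne_zero_smul c).2 (IsUnit.of_mul_eq_one_right d (hg.1 (show (d * c) • g = (1 : X.presheaf.stalk x) • g by rw [hd, one_smul])))

theorem ordv_gen [IsLocallyNoetherian X] {x : X} (hx : Order.coheight x = 1) {g : F.presheaf.stalk x} (hg : Amp.Gen g)
    (hgη : Amp.Gen (F.presheaf.stalkSpecializes (gsp x) g)) {φ : X.functionField} (hφ : φ ≠ 0) :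
    ordv F x (φ • F.presheaf.stalkSpecializes (gsp x) g) = Scheme.ord φ x := by
  have ht : ∃ t : F.presheaf.stalk x, Submodule.span (X.presheaf.stalk x) {t} = ⊤ := ⟨g, Cyc26.span_eq_top_of_gen hg⟩
  have hgt := gen_of_span' hg (Classical.choose_spec ht)
  obtain ⟨v, hv⟩ := hg.2 (Classical.choose ht)
  replace hv : Classical.choose ht = v • g := hv.symm
  obtain ⟨v, rfl⟩ := (hg.ne_zero_smul v).1 (hv ▸ hgt)
  have hsp : F.presheaf.stalkSpecializes (gsp x) (Classical.choose ht) =
      X.presheaf.stalkSpecializes (gsp x) v.1 • F.presheaf.stalkSpecializes (gsp x) g := by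
    rw [hv, Cyc26.stalkSpecializes_smul]
  set w := X.presheaf.stalkSpecializes (gsp x) v.1 with hwdef
  set w' := X.presheaf.stalkSpecializes (gsp x) (v⁻¹ : (X.presheaf.stalk x)ˣ).1 with hw'def
  have hww : w' * w = 1 := by rw [hwdef, hw'def, ← map_mul, Units.inv_mul, map_one]
  have hφ' : ∃ φ' : X.presheaf.stalk (genericPoint X),
      Cyc26.fmk F (genericPoint X) (φ • F.presheaf.stalkSpecializes (gsp x) g) =
        φ' • (Submodule.Quotient.mk (F.presheaf.stalkSpecializes (gsp x) (Classical.choose ht)) : Cyc.secFibre F (genericPoint X)) :=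
    ⟨φ * w', by
      rw [hsp, ← Submodule.Quotient.mk_smul, ← mul_smul]
      show Cyc26.fmk F _ (φ • _) = Cyc26.fmk F _ ((φ * w' * w) • _)
      rw [mul_assoc, hww, mul_one]⟩
  rw [ordv, Cyc.secOrdAt, dif_pos ht, dif_pos hφ']
  have he := Classical.choose_spec hφ'
  set φ' := Classical.choose hφ'
  rw [hsp, ← Submodule.Quotient.mk_smul, ← mul_smul] at he
  have h2 : φ = φ' * w := hgη.1 (fmk_injective he)
  rw [ordAt_residue hx]
  have hφ'0 : φ' ≠ 0 := fun h0 => hφ (by rw [h2, h0]; exact zero_mul w)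
  have hw0 : w ≠ 0 := fun h0 => by rw [h0, mul_zero] at hww; exact zero_ne_one hww
  have hw'0 : w' ≠ 0 := fun h0 => by rw [h0, zero_mul] at hww; exact zero_ne_one hww
  have h3 : Scheme.ord φ x = Scheme.ord φ' x + Scheme.ord w x := by
    rw [h2]; exact Scheme.ord_mul (f := (φ' : X.functionField)) hφ'0 hw0
  have h4 : Scheme.ord w' x + Scheme.ord w x = 0 := by
    rw [← Scheme.ord_mul (f := (w' : X.functionField)) hw'0 hw0]
    exact (congrArg (fun z : X.functionField => Scheme.ord z x) hww).trans (ord_one x)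
  have hK : Ring.KrullDimLE 1 (X.presheaf.stalk x) := krullDimLE_of_coheight_le hx.le
  have h5 : 0 ≤ Scheme.ord w x := CDivLib.one_le_ordHom_of_inStalk hx hw0 ⟨v.1, rfl⟩
  have h6 : 0 ≤ Scheme.ord w' x := CDivLib.one_le_ordHom_of_inStalk hx hw'0 ⟨(v⁻¹ : (X.presheaf.stalk x)ˣ).1, rfl⟩
  omega

end fibre

end Groth.Agent.RH26
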