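import Groth.Agent.Lib.RefHull26.Ord
import Groth.Agent.Lib.RefHull26.Normal

/-! # Rank one reflexive modules and their lattices at codimension one points -/

set_option autoImplicit false
universe u

set_option backward.isDefEq.respectTransparency.types false

open CategoryTheory AlgebraicGeometry TopologicalSpace Opposite

namespace Groth.Agent.RH26

variable {X : Scheme.{u}} [IsIntegral X] [IsLocallyNoetherian X] {F G : X.Modules}

/-- What a rank one reflexive module gives on a normal scheme. -/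
structure R1 (F : X.Modules) : Prop where
  normal : Pi1.IsNormalScheme X
  coh : Coh.IsCoh F
  closed : Closed1 F
  gen : ∃ g : F.presheaf.stalk (genericPoint X), Amp.Gen g

theorem R1.of_ref1 (hX : Pi1.IsNormalScheme X) (hF : RefHull.IsRef1 F) : R1 F :=
  ⟨hX, hF.1, (isReflexive_iff_closed1 hX hF.1).1 hF.2.1, exists_gen_of_genInvertible hF.2.2⟩

theorem R1.isRef1 (hF : R1 F) : RefHull.IsRef1 F := by
  obtain ⟨g, hg⟩ := hF.gen
  exact ⟨hF.coh, (isReflexive_iff_closed1 hF.normal hF.coh).2 hF.closed, genInvertible_of_gen hF.coh hg⟩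

theorem exists_gen_codim_one (hX : Pi1.IsNormalScheme X) (hF : Coh.IsCoh F) {x : X}
    (hinj : Function.Injective (F.presheaf.stalkSpecializes (gsp x))) (hx : Order.coheight x = 1)
    {g₀ : F.presheaf.stalk (genericPoint X)} (hg₀ : Amp.Gen g₀) :
    ∃ g : F.presheaf.stalk x, Amp.Gen g ∧ Amp.Gen (F.presheaf.stalkSpecializes (gsp x) g) := by
  haveI := isDVR_stalk hX hx
  obtain ⟨g, hg⟩ := exists_gen_of_isReflexiveAt_ufd hF
    (isReflexiveAt_of_dim_le_one hX hF hinj ((dim_eq_one_iff x).2 hx).le) hg₀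
  exact ⟨g, hg, gen_sp hinj hg₀ hg⟩

theorem R1.gen_one (hF : R1 F) {x : X} (hx : Order.coheight x = 1) :
    ∃ g : F.presheaf.stalk x, Amp.Gen g ∧ Amp.Gen (F.presheaf.stalkSpecializes (gsp x) g) := by
  obtain ⟨g₀, hg₀⟩ := hF.gen
  exact exists_gen_codim_one hF.normal hF.coh (hF.closed.1 x) hx hg₀

omit [IsLocallyNoetherian X] in
theorem exists_rep_η {x : X} {g : F.presheaf.stalk x} (hgη : Amp.Gen (F.presheaf.stalkSpecializes (gsp x) g))
    {a : F.presheaf.stalk (genericPoint X)} (ha : a ≠ 0) :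
    ∃ φ : X.functionField, φ ≠ 0 ∧ a = φ • F.presheaf.stalkSpecializes (gsp x) g := by
  obtain ⟨φ, hφ⟩ := hgη.2 a
  exact ⟨φ, fun h0 => ha (by rw [← hφ, h0]; exact zero_smul _ _), hφ.symm⟩

theorem R1.smul_ne_zero (hF : R1 F) {φ : X.functionField} (hφ : φ ≠ 0)
    {a : F.presheaf.stalk (genericPoint X)} (ha : a ≠ 0) : φ • a ≠ 0 := fun h => by
  obtain ⟨c, hc⟩ := (isField_η (X := X)).mul_inv_cancel hφ
  have := congrArg (fun z => c • z) h
  simp only [← mul_smul, smul_zero] at this
  rw [mul_comm, hc, one_smul] at this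
  exact ha this

theorem R1.ordv_smul (hF : R1 F) {x : X} (hx : Order.coheight x = 1) {φ : X.functionField} (hφ : φ ≠ 0)
    {a : F.presheaf.stalk (genericPoint X)} (ha : a ≠ 0) :
    ordv F x (φ • a) = Scheme.ord φ x + ordv F x a := by
  obtain ⟨g, hg, hgη⟩ := hF.gen_one hx
  obtain ⟨ψ, hψ, rfl⟩ := exists_rep_η hgη ha
  rw [← mul_smul, ordv_gen hx hg hgη (mul_ne_zero hφ hψ), ordv_gen hx hg hgη hψ, Scheme.ord_mul hφ hψ]

theorem inStalk_zero (F : X.Modules) (x : X) : InStalk F x 0 := ⟨0, map_zero _⟩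

theorem R1.inStalk_iff (hF : R1 F) {x : X} (hx : Order.coheight x = 1)
    {a : F.presheaf.stalk (genericPoint X)} (ha : a ≠ 0) : InStalk F x a ↔ 0 ≤ ordv F x a := by
  obtain ⟨g, hg, hgη⟩ := hF.gen_one hx
  obtain ⟨ψ, hψ, rfl⟩ := exists_rep_η hgη ha
  rw [ordv_gen hx hg hgη hψ, ← inStalk_function_iff hF.normal hx hψ]
  constructor
  · rintro ⟨v, hv⟩
    obtain ⟨r, rfl⟩ := hg.2 v
    rw [Cyc26.stalkSpecializes_smul] at hv
    exact ⟨r, hgη.1 hv⟩
  · rintro ⟨b, hb⟩
    exact ⟨b • g, by rw [Cyc26.stalkSpecializes_smul, hb]⟩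

/-- A generic linear map respecting stalks extends. -/
theorem exists_hom_of_generic
    (hG : Closed1 G) (L : F.presheaf.stalk (genericPoint X) →ₗ[X.presheaf.stalk (genericPoint X)] G.presheaf.stalk (genericPoint X))
    (hL : ∀ (x : X), ringKrullDim (X.presheaf.stalk x) = 1 → ∀ a, InStalk F x a → InStalk G x (L a)) :
    ∃ φ : F ⟶ G, ∀ a, RefHull.stalkMapₗ φ (genericPoint X) a = L a := by
  have hall : ∀ (x : X) (v : F.presheaf.stalk x), InStalk G x (L (F.presheaf.stalkSpecializes (gsp x) v)) := fun x v =>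
    hG.2 x _ fun ξ hξ h1 => hL ξ h1 _ ⟨F.presheaf.stalkSpecializes hξ v, sp_trans F hξ (gsp ξ) v⟩
  choose f hf using hall
  let fl : ∀ x : X, RefHull.StalkHom F G x := fun x =>
    { toFun := f x
      map_add' := fun v w => hG.1 x (by rw [map_add, hf, hf, hf, map_add, map_add])
      map_smul' := fun r v => hG.1 x (by
        rw [RingHom.id_apply, Cyc26.stalkSpecializes_smul, hf, hf, Cyc26.stalkSpecializes_smul, map_smul]) }
  obtain ⟨φ, hφ⟩ := exists_hom_of_stalkFamily F G fl fun V m x hx => by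
    have hη := mem_of_genericPoint V hx
    obtain ⟨n, hn⟩ := exists_section_of_inStalk (F := G) V (fun y _ => hG.1 y) (L (F.presheaf.germ V _ hη m))
      fun y hy => ⟨f y (F.presheaf.germ V y hy m), by rw [hf, TopCat.Presheaf.germ_stalkSpecializes_apply]⟩
    refine ⟨V, hx, le_rfl, n, fun y hy => hG.1 y ?_⟩
    show _ = G.presheaf.stalkSpecializes (gsp y) (f y _)
    rw [hn, hf, TopCat.Presheaf.germ_stalkSpecializes_apply]
  refine ⟨φ, fun a => ?_⟩
  rw [hφ]
  have h1 := hf (genericPoint X) a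
  have e1 : ∀ (M : X.Modules) (z : M.presheaf.stalk (genericPoint X)),
      M.presheaf.stalkSpecializes (gsp (genericPoint X)) z = z := fun M z =>
    (ConcreteCategory.congr_hom (TopCat.Presheaf.stalkSpecializes_refl M.presheaf (genericPoint X)) z).trans rfl
  rw [e1, e1] at h1
  exact h1

/-- Two rank one reflexive modules whose sections have the same orders are isomorphic. -/
theorem R1.nonempty_iso (hF : R1 F) (hG : R1 G) {s : F.presheaf.stalk (genericPoint X)} (hs : s ≠ 0)
    {t : G.presheaf.stalk (genericPoint X)} (ht : t ≠ 0)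
    (h : ∀ x : X, Order.coheight x = 1 → ordv F x s = ordv G x t) : Nonempty (F ≅ G) := by
  obtain ⟨g, hg⟩ := hF.gen
  obtain ⟨g', hg'⟩ := hG.gen
  have hgen : ∀ {M : X.Modules} {g a : M.presheaf.stalk (genericPoint X)}, Amp.Gen g → a ≠ 0 → Amp.Gen a := by
    intro M g a hg ha
    obtain ⟨k, rfl⟩ := hg.2 a
    have hk : k ≠ 0 := fun h0 => ha (by rw [h0]; exact zero_smul _ g)
    obtain ⟨c, hc⟩ := (isField_η (X := X)).mul_inv_cancel hk
    exact (hg.ne_zero_smul k).2 (IsUnit.of_mul_eq_one _ hc)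
  let eF := LinearEquiv.ofBijective (LinearMap.toSpanSingleton (X.presheaf.stalk (genericPoint X)) _ s) (hgen hg hs)
  let eG := LinearEquiv.ofBijective (LinearMap.toSpanSingleton (X.presheaf.stalk (genericPoint X)) _ t) (hgen hg' ht)
  let L := eF.symm.trans eG
  have hL : ∀ k : X.functionField, L (k • s) = k • t := fun k => by
    show eG (eF.symm (k • s)) = _
    rw [show eF.symm (k • s) = k from (LinearEquiv.symm_apply_eq eF).2 rfl]
    rfl
  have hiff : ∀ (x : X), ringKrullDim (X.presheaf.stalk x) = 1 → ∀ a, InStalk F x a ↔ InStalk G x (L a) := by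
    intro x hx a
    have hx' := (dim_eq_one_iff x).1 hx
    obtain ⟨k, rfl⟩ := (hgen hg hs).2 a
    show InStalk F x (k • s) ↔ InStalk G x (L (k • s))
    rw [hL]
    rcases eq_or_ne (α := X.functionField) k 0 with rfl | hk
    · rw [show (0 : X.functionField) • s = 0 from zero_smul _ s, show (0 : X.functionField) • t = 0 from zero_smul _ t]
      exact iff_of_true (inStalk_zero F x) (inStalk_zero G x)
    · rw [hF.inStalk_iff hx' (hF.smul_ne_zero hk hs), hG.inStalk_iff hx' (hG.smul_ne_zero hk ht),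
        hF.ordv_smul hx' hk hs, hG.ordv_smul hx' hk ht, h x hx']
  obtain ⟨φ, hφ⟩ := exists_hom_of_generic hG.closed L.toLinearMap fun x hx a => (hiff x hx a).1
  have hη : Function.Bijective (RefHull.stalkMapₗ φ (genericPoint X)) := by
    rw [show (RefHull.stalkMapₗ φ (genericPoint X) : _ → _) = L from funext hφ]
    exact L.bijective
  haveI := isIso_of_codim_one φ hF.closed hG.closed hη fun ξ hξ b => by
    obtain ⟨v, hv⟩ := (hiff ξ hξ (L.symm (G.presheaf.stalkSpecializes (gsp ξ) b))).2 (by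
      rw [L.apply_symm_apply]; exact ⟨b, rfl⟩)
    exact ⟨v, hG.closed.1 ξ (by
      rw [stalkMapₗ_stalkSpecializes, hφ, hv]
      exact L.apply_symm_apply _)⟩
  exact ⟨asIso φ⟩

/-- Isomorphisms preserve orders. -/
theorem R1.ordv_map (hF : R1 F) (e : F ≅ G) {x : X} (hx : Order.coheight x = 1)
    {a : F.presheaf.stalk (genericPoint X)} (ha : a ≠ 0) :
    ordv G x (RefHull.stalkMapₗ e.hom (genericPoint X) a) = ordv F x a := by
  obtain ⟨g, hg, hgη⟩ := hF.gen_one hx
  obtain ⟨ψ, hψ, rfl⟩ := exists_rep_η hgη ha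
  have hgen : ∀ (y : X) (v : F.presheaf.stalk y), Amp.Gen v → Amp.Gen (RefHull.stalkMapₗ e.hom y v) := fun y v hv => by
    have hb := (isIso_iff_stalkMapₗ e.hom).1 inferInstance y
    show Function.Bijective fun r => r • RefHull.stalkMapₗ e.hom y v
    simp only [← map_smul]
    exact hb.comp hv
  have hgen' : Amp.Gen (G.presheaf.stalkSpecializes (gsp x) (RefHull.stalkMapₗ e.hom x g)) := by
    rw [stalkMapₗ_stalkSpecializes]; exact hgen _ _ hgη
  rw [map_smul, ← stalkMapₗ_stalkSpecializes, ordv_gen hx (hgen x g hg) hgen' hψ, ordv_gen hx hg hgη hψ]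

end Groth.Agent.RH26
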